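import Cfsg.Agent.H158.PronFrame

/-!
# Averaging over a transitive 2-group (helper158)
-/

set_option autoImplicit false
set_option linter.unusedSectionVars false

namespace Cfsg.Agent.H158.PronAvg

open Quaternion Matrix Equiv
open Cfsg.Agent.H158.PronQ Cfsg.Agent.H158.PronMat Cfsg.Agent.H158.PronMono
open Cfsg.Agent.H158.PronFrame

variable {F : Type*} [Field F] {n : Type*} [Fintype n] [DecidableEq n]

/-- Diagonal matrices. -/
def D : (n → U F) →* GU n F where
  toFun d := ⟨Matrix.diagonal fun a => (d a : ℍ[F]), by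
    rw [mem_GU, Matrix.diagonal_conjTranspose, Matrix.diagonal_mul_diagonal,
      Matrix.diagonal_mul_diagonal]
    constructor
    · rw [← Matrix.diagonal_one]
      congr 1
      funext a
      exact Unitary.coe_star_mul_self (d a)
    · rw [← Matrix.diagonal_one]
      congr 1
      funext a
      exact Unitary.coe_mul_star_self (d a)⟩
  map_one' := Subtype.ext Matrix.diagonal_one
  map_mul' := fun u v => Subtype.ext (Matrix.diagonal_mul_diagonal _ _).symm

theorem D_apply (d : n → U F) (a b : n) : (D d).1 a b = if a = b then (d a : ℍ[F]) else 0 := by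
  show Matrix.diagonal (fun a => (d a : ℍ[F])) a b = _
  rw [Matrix.diagonal_apply]

theorem D_const (u : U F) : D (fun _ : n => u) = sc u := rfl

theorem PM_conj_D (τ : Perm n) (d : n → U F) : PM τ * D d * (PM τ)⁻¹ = D (fun b => d (τ⁻¹ b)) := by
  rw [mul_inv_eq_iff_eq_mul]
  apply Subtype.ext
  ext1 a b
  have h1 : (PM τ * D d : GU n F).1 a b = (PM τ : GU n F).1 a b * d b := by
    show ((PM τ : GU n F).1 * Matrix.diagonal (fun a => (d a : ℍ[F]))) a b = _
    rw [Matrix.mul_diagonal]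
  have h3 : (D (fun b => d (τ⁻¹ b)) * PM τ : GU n F).1 a b = d (τ⁻¹ a) * (PM τ : GU n F).1 a b := by
    show (Matrix.diagonal (fun a => (d (τ⁻¹ a) : ℍ[F])) * (PM τ : GU n F).1) a b = _
    rw [Matrix.diagonal_mul]
  rw [h1, h3, PM_apply]
  by_cases h : a = τ b
  · subst h
    rw [if_pos rfl, one_mul, mul_one]
    simp
  · rw [if_neg h, zero_mul, mul_zero]

/-- The averaging lemma. -/
theorem avg (h2 : (2 : F) ≠ 0) {T : Subgroup (Perm n)} (hT2 : IsPGroup 2 T)
    (hT : ∀ a b : n, ∃ τ ∈ T, τ a = b) {K : Subgroup (GU n F)} (hK : ∀ τ ∈ T, PM τ ∈ K)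
    (ε : n → ℤ) (hε : D (fun b => (om h2) ^ ε b) ∈ K) (hs : ¬ (3 : ℤ) ∣ ∑ b, ε b) :
    sc (om h2) ∈ K := by
  classical
  have : Fintype T := Fintype.ofFinite T
  -- products
  have h1 : ∀ τ : T, D (fun b => (om h2) ^ ε ((τ : Perm n)⁻¹ b)) ∈ K := by
    intro τ
    have h3 := mul_mem (mul_mem (hK τ τ.2) hε) (inv_mem (hK τ τ.2))
    rwa [PM_conj_D] at h3
  have hprod : ∀ s : Finset T, D (fun b => (om h2) ^ ∑ τ ∈ s, ε ((τ : Perm n)⁻¹ b)) ∈ K := by
    intro s
    induction s using Finset.induction_on with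
    | empty =>
      have : D (fun _ : n => (om h2) ^ (0 : ℤ)) = 1 := by
        simp only [zpow_zero]
        exact map_one D
      simp only [Finset.sum_empty]
      rw [this]; exact one_mem _
    | insert τ s hτ ih =>
      have h3 := mul_mem (h1 τ) ih
      rw [← map_mul] at h3
      have h4 : (fun b => (om h2) ^ ε ((τ : Perm n)⁻¹ b)) *
          (fun b => (om h2) ^ ∑ τ ∈ s, ε ((τ : Perm n)⁻¹ b)) =
          fun b => (om h2) ^ ∑ τ ∈ insert τ s, ε ((τ : Perm n)⁻¹ b) := by
        funext b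
        rw [Pi.mul_apply, ← _root_.zpow_add, Finset.sum_insert hτ]
      rwa [h4] at h3
  set c : n → ℤ := fun b => ∑ τ : T, ε ((τ : Perm n)⁻¹ b) with hc
  have hcc : ∀ a b, c a = c b := by
    intro a b
    obtain ⟨ρ, hρ, rfl⟩ := hT b a
    simp only [hc]
    refine Fintype.sum_equiv (Equiv.mulLeft (⟨ρ, hρ⟩ : T)⁻¹) _ _ (fun τ => ?_)
    simp only [Equiv.coe_mulLeft, Subgroup.coe_mul, Subgroup.coe_inv, _root_.mul_inv_rev, inv_inv,
      Perm.mul_apply]
  by_cases hne : Nonempty n
  · obtain ⟨a⟩ := hne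
    have hsum : (Fintype.card n : ℤ) * c a = Fintype.card T * ∑ b, ε b := by
      have h3 : ∑ b, c b = Fintype.card n * c a := by
        rw [Finset.sum_congr rfl (fun b _ => hcc b a), Finset.sum_const, Finset.card_univ,
          nsmul_eq_mul]
      rw [← h3]
      simp only [hc]
      rw [Finset.sum_comm]
      have h4 : ∀ τ : T, ∑ b, ε ((τ : Perm n)⁻¹ b) = ∑ b, ε b := fun τ =>
        Equiv.sum_comp ((τ : Perm n)⁻¹) ε
      rw [Finset.sum_congr rfl (fun τ _ => h4 τ), Finset.sum_const, Finset.card_univ,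
        nsmul_eq_mul]
    have h3c : ¬ (3 : ℤ) ∣ c a := by
      intro hd
      have h4 : (3 : ℤ) ∣ Fintype.card T * ∑ b, ε b := by
        rw [← hsum]; exact dvd_mul_of_dvd_right hd _
      rcases (Int.prime_three.dvd_mul).1 h4 with h5 | h5
      · obtain ⟨k, hk⟩ := IsPGroup.iff_card.1 hT2
        rw [Nat.card_eq_fintype_card] at hk
        rw [hk] at h5
        have h6 : 3 ∣ 2 ^ k := by exact_mod_cast h5
        have h7 := Nat.Prime.dvd_of_dvd_pow Nat.prime_three h6
        omega
      · exact hs h5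
    have hmem : sc (om h2) ^ (c a) ∈ K := by
      rw [← map_zpow, ← D_const]
      have h4 := hprod Finset.univ
      have h5 : (fun b => (om h2) ^ ∑ τ : T, ε ((τ : Perm n)⁻¹ b)) = fun _ => (om h2) ^ c a := by
        funext b
        rw [← hcc b a]
      rwa [h5] at h4
    have h3 : sc (om h2 : U F) ^ (3 : ℤ) = (1 : GU n F) := by
      rw [← map_zpow]
      have : (om h2 : U F) ^ (3 : ℤ) = 1 := by
        rw [show (3 : ℤ) = ((3 : ℕ) : ℤ) from rfl, zpow_natCast, om_cube]
      rw [this, map_one]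
    have hcop : IsCoprime (c a) 3 := by
      rw [isCoprime_comm]
      exact (Int.prime_three.coprime_iff_not_dvd).2 h3c
    obtain ⟨x, y, hxy⟩ := hcop
    have h4 : sc (om h2) = ((sc (om h2)) ^ (c a)) ^ x * ((sc (om h2) : GU n F) ^ (3 : ℤ)) ^ y := by
      rw [← _root_.zpow_mul, ← _root_.zpow_mul, ← _root_.zpow_add]
      have : c a * x + 3 * y = 1 := by linear_combination hxy
      rw [this, zpow_one]
    rw [h4, h3, _root_.one_zpow, mul_one]
    exact zpow_mem hmem _
  · have h3 : sc (om h2) = (1 : GU n F) := by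
      apply Subtype.ext
      ext1 a b
      exact absurd ⟨a⟩ hne
    rw [h3]; exact one_mem _

theorem Rj_eq_D (b : n) (u : U F) : Rj b u = D (fun c => if c = b then u else 1) := by
  apply Subtype.ext
  ext1 c d
  rw [Rj_apply, D_apply]
  by_cases hcd : c = d
  · rw [if_pos hcd, if_pos hcd]
    split_ifs <;> rfl
  · rw [if_neg hcd, if_neg hcd]

/-- `ω` in a single coordinate. -/
theorem avg_single (h2 : (2 : F) ≠ 0) {T : Subgroup (Perm n)} (hT2 : IsPGroup 2 T)
    (hT : ∀ a b : n, ∃ τ ∈ T, τ a = b) {K : Subgroup (GU n F)} (hK : ∀ τ ∈ T, PM τ ∈ K)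
    {b : n} (hb : Rj b (om h2) ∈ K) : sc (om h2) ∈ K := by
  refine avg h2 hT2 hT hK (fun c => if c = b then 1 else 0) ?_ ?_
  · have : (fun c => (om h2 : U F) ^ (if c = b then (1 : ℤ) else 0)) =
        fun c => if c = b then om h2 else 1 := by
      funext c
      split_ifs <;> simp
    rw [this, ← Rj_eq_D]
    exact hb
  · simp

/-- `ω` in two coordinates. -/
theorem avg_pair (h2 : (2 : F) ≠ 0) {T : Subgroup (Perm n)} (hT2 : IsPGroup 2 T)
    (hT : ∀ a b : n, ∃ τ ∈ T, τ a = b) {K : Subgroup (GU n F)} (hK : ∀ τ ∈ T, PM τ ∈ K)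
    {a b : n} (hb : Rj a (om h2) * Rj b (om h2) ∈ K) : sc (om h2) ∈ K := by
  refine avg h2 hT2 hT hK (fun c => (if c = a then 1 else 0) + if c = b then 1 else 0) ?_ ?_
  · have : (fun c => (om h2 : U F) ^ ((if c = a then (1 : ℤ) else 0) + if c = b then 1 else 0)) =
        (fun c => if c = a then om h2 else 1) * fun c => if c = b then om h2 else 1 := by
      funext c
      rw [Pi.mul_apply, _root_.zpow_add]
      split_ifs <;> simp
    rw [this, map_mul, ← Rj_eq_D, ← Rj_eq_D]
    exact hb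
  · rw [Finset.sum_add_distrib]
    simp

end Cfsg.Agent.H158.PronAvg
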