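import Cfsg.Agent.H158.PronTwo
import Cfsg.Agent.H158.PronAvg

/-!
# Fusion of reflections in overgroups of the wreath product (helper158)
-/

set_option autoImplicit false
set_option linter.unusedSectionVars false

namespace Cfsg.Agent.H158.PronK

open Quaternion Matrix Equiv
open Cfsg.Agent.H158.PronQ Cfsg.Agent.H158.PronMat Cfsg.Agent.H158.PronMono
open Cfsg.Agent.H158.PronFrame Cfsg.Agent.H158.PronTwo Cfsg.Agent.H158.PronAvg

variable {F : Type*} [Field F] {n : Type*} [Fintype n] [DecidableEq n]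

/-- Conjugating a 2-subgroup into a given Sylow subgroup. -/
theorem conj_into {G : Type*} [Group G] [Finite G] (S : Sylow 2 G) {K Q : Subgroup G}
    (hS : (S : Subgroup G) ≤ K) (hQK : Q ≤ K) (hQ : IsPGroup 2 Q) :
    ∃ c ∈ K, ∀ q ∈ Q, c * q * c⁻¹ ∈ (S : Subgroup G) := by
  have h1 : IsPGroup 2 (Q.subgroupOf K) := hQ.comap_of_injective K.subtype K.subtype_injective
  obtain ⟨Q', hQ'⟩ := h1.exists_le_sylow
  obtain ⟨c, hc⟩ := MulAction.exists_smul_eq K Q' (S.subtype hS)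
  refine ⟨c, c.2, fun q hq => ?_⟩
  have h3 : (⟨q, hQK hq⟩ : K) ∈ (Q' : Subgroup K) := hQ' hq
  have h4 : c * ⟨q, hQK hq⟩ * c⁻¹ ∈ (S.subtype hS : Subgroup K) := by
    rw [← hc, Sylow.coe_subgroup_smul, Subgroup.mem_pointwise_smul_iff_inv_smul_mem]
    have h0 : (MulAut.conj c)⁻¹ • (c * (⟨q, hQK hq⟩ : K) * c⁻¹) = ⟨q, hQK hq⟩ := by
      rw [← map_inv, MulAut.smul_def, MulAut.conj_apply, inv_inv]
      group
    rw [h0]
    exact h3
  rw [Sylow.coe_subtype, Subgroup.mem_subgroupOf] at h4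
  exact h4

theorem isPGroup_Sylow_perm (T : Sylow 2 (Perm n)) : IsPGroup 2 (T : Subgroup (Perm n)) :=
  T.isPGroup'

instance [Finite F] : Finite (Matrix n n ℍ[F]) := by
  unfold Matrix
  infer_instance

/-- The wreath product of `Q8` and a Sylow 2-subgroup of a symmetric group is a Sylow
2-subgroup. -/
theorem exists_sylow_SG [Finite F] (h2 : (2 : F) ≠ 0) (hns : ¬ IsSquare (2 : F))
    (T : Sylow 2 (Perm n)) (hT : ∀ a b : n, ∃ τ ∈ (T : Subgroup (Perm n)), τ a = b) :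
    ∃ S : Sylow 2 (GU n F), (S : Subgroup (GU n F)) = SG (Q8 F) (T : Subgroup (Perm n)) := by
  apply exists_sylow_eq _ (SG_isPGroup Q8_isPGroup T.isPGroup')
  rintro g hg ⟨k, hk⟩
  have hgn : g ∈ Subgroup.normalizer
      ((SG (Q8 F) (T : Subgroup (Perm n)) : Subgroup (GU n F)) : Set (GU n F)) := by
    have hginv : ∀ s ∈ SG (Q8 F) (T : Subgroup (Perm n)), g⁻¹ * s * g ∈ SG (Q8 F)
        (T : Subgroup (Perm n)) := by
      have h3 : ∀ j : ℕ, ∀ s ∈ SG (Q8 F) (T : Subgroup (Perm n)),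
          g ^ j * s * (g ^ j)⁻¹ ∈ SG (Q8 F) (T : Subgroup (Perm n)) := by
        intro j
        induction j with
        | zero => intro s hs; simpa using hs
        | succ j ih =>
          intro s hs
          have h4 : g ^ (j + 1) * s * (g ^ (j + 1))⁻¹ = g ^ j * (g * s * g⁻¹) * (g ^ j)⁻¹ := by
            rw [pow_succ]; group
          rw [h4]
          exact ih _ (hg s hs)
      intro s hs
      have h5 := h3 (2 ^ k - 1) s hs
      have h6 : g ^ (2 ^ k - 1) = g⁻¹ := by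
        rw [eq_inv_iff_mul_eq_one, ← pow_succ, Nat.sub_add_cancel Nat.one_le_two_pow, hk]
      rw [h6, inv_inv] at h5
      exact h5
    rw [Subgroup.mem_normalizer_iff]
    intro s
    refine ⟨fun h => hg s h, fun h => ?_⟩
    have h3 := hginv _ h
    have h4 : g⁻¹ * (g * s * g⁻¹) * g = s := by group
    rwa [h4] at h3
  have h3 : sc (om h2) ^ 3 = (1 : GU n F) := by rw [← map_pow, om_cube, map_one]
  have hcop : Nat.Coprime 3 (2 ^ k) := Nat.Coprime.pow_right k (by norm_num)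
  rcases norm_SG_Q8 h2 hns T hT hgn with h | h | h
  · exact h
  · refine mem_of_pow_coprime _ hcop ?_ (by rw [hk]; exact one_mem _)
    have h4 : g ^ 3 = (sc (om h2) * ((sc (om h2))⁻¹ * g) * (sc (om h2))⁻¹) *
        (sc (om h2) * (sc (om h2) * ((sc (om h2))⁻¹ * g) * (sc (om h2))⁻¹) * (sc (om h2))⁻¹) *
        ((sc (om h2)) ^ 3 * ((sc (om h2))⁻¹ * g)) := by
      rw [pow_succ, pow_two, pow_succ, pow_two]; group
    rw [h4, h3, one_mul]
    exact mul_mem (mul_mem (sc_om_conj h2 h) (sc_om_conj h2 (sc_om_conj h2 h))) h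
  · refine mem_of_pow_coprime _ hcop ?_ (by rw [hk]; exact one_mem _)
    have h4 : g ^ 3 = ((sc (om h2))⁻¹ * (sc (om h2) * g) * sc (om h2)) *
        ((sc (om h2))⁻¹ * ((sc (om h2))⁻¹ * (sc (om h2) * g) * sc (om h2)) * sc (om h2)) *
        (((sc (om h2)) ^ 3)⁻¹ * (sc (om h2) * g)) := by
      rw [pow_succ, pow_two, pow_succ, pow_two]; group
    rw [h4, h3, inv_one, one_mul]
    exact mul_mem (mul_mem (sc_om_conj' h2 h) (sc_om_conj' h2 (sc_om_conj' h2 h))) h

/-- The unit vectors whose `Q8` lies in `K`. -/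
def InS (K : Subgroup (GU n F)) (x : n → ℍ[F]) : Prop :=
  ∃ hx : ip x x = 1, ∀ w ∈ Q8 F, R x hx w ∈ K

theorem InS.act {K : Subgroup (GU n F)} {x : n → ℍ[F]} (hx : InS K x) {g : GU n F} (hg : g ∈ K) :
    InS K (g.1 *ᵥ x) := by
  obtain ⟨hx1, hx2⟩ := hx
  refine ⟨by rw [ip_act, hx1], fun w hw => ?_⟩
  rw [← R_conj g x hx1 _ w]
  exact mul_mem (mul_mem hg (hx2 w hw)) (inv_mem hg)

theorem InS_e {K : Subgroup (GU n F)} {T : Subgroup (Perm n)} (hK : SG (Q8 F) T ≤ K) (b : n) :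
    InS K (e b) := ⟨ip_e_e b, fun _ hw => hK (Rj_mem T b hw)⟩

theorem Rj_mulVec (b : n) (v : U F) (x : n → ℍ[F]) :
    (Rj b v).1 *ᵥ x = fun c => if c = b then (v : ℍ[F]) * x c else x c := by
  funext c
  rw [Matrix.mulVec, dotProduct, Finset.sum_eq_single c]
  · rw [Rj_apply, if_pos rfl]
    split_ifs
    · rfl
    · rw [one_mul]
  · intro d _ hd
    rw [Rj_apply, if_neg (fun h => hd h.symm), zero_mul]
  · intro h; exact absurd (Finset.mem_univ _) h

/-- The matrix with columns `e a`, `e b`. -/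
def Xab (a b : n) : Matrix n (Fin 2) ℍ[F] := Matrix.of fun c k => if k = 0 then e a c else e b c

theorem Xab_mulVec (a b : n) (y : Fin 2 → ℍ[F]) :
    (Xab a b : Matrix n (Fin 2) ℍ[F]) *ᵥ y = fun c => e a c * y 0 + e b c * y 1 := by
  funext c
  rw [Matrix.mulVec, dotProduct, Fin.sum_univ_two]
  rfl

theorem Xab_unit {a b : n} (hab : a ≠ b) :
    (Xab a b : Matrix n (Fin 2) ℍ[F])ᴴ * (Xab a b : Matrix n (Fin 2) ℍ[F]) = 1 := by
  have h1 : ∀ x y : n, ∑ c, star ((e x : n → ℍ[F]) c) * (e y : n → ℍ[F]) c = (e y : n → ℍ[F]) x :=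
    fun x y => ip_e (F := F) x (e y)
  have h3 : ∀ x y : n, x ≠ y → (e y : n → ℍ[F]) x = 0 := fun x y h => by
    rw [e, Pi.single_eq_of_ne h]
  have h4 : ∀ x : n, (e x : n → ℍ[F]) x = 1 := fun x => by rw [e, Pi.single_eq_same]
  ext1 k l
  rw [Matrix.mul_apply]
  simp only [Matrix.conjTranspose_apply]
  fin_cases k <;> fin_cases l
  · exact (h1 a a).trans (h4 a)
  · exact (h1 a b).trans (h3 a b hab)
  · exact (h1 b a).trans (h3 b a hab.symm)
  · exact (h1 b b).trans (h4 b)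

section Main

variable [Finite F] (h2 : (2 : F) ≠ 0) (hns : ¬ IsSquare (2 : F)) (T : Sylow 2 (Perm n))
  (hT : ∀ a b : n, ∃ τ ∈ (T : Subgroup (Perm n)), τ a = b) {K : Subgroup (GU n F)}
  (hSK : SG (Q8 F) (T : Subgroup (Perm n)) ≤ K) (hom : sc (om h2) ∉ K)

include h2 hns hT hSK hom

/-- A reflection of `K` lying in the wreath product is a frame reflection. -/
theorem f1 {x : n → ℍ[F]} (hx : ip x x = 1) (hxK : ∀ w ∈ Q8 F, R x hx w ∈ K)
    (hz : R x hx nu ∈ SG (Q8 F) (T : Subgroup (Perm n))) : ∃ j, ∀ a, a ≠ j → x a = 0 := by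
  rcases rf_mem_SG h2 hz with h | ⟨a, b, hab, -, -, hzero, hb, w, hw, ha⟩
  · exact h
  · exfalso
    apply hom
    have hK : ∀ τ ∈ (T : Subgroup (Perm n)), PM τ ∈ K := fun τ hτ => hSK (PM_mem _ hτ)
    refine avg_pair h2 T.isPGroup' hT hK (a := a) (b := b) ?_
    -- move `x` to `(u, u)`
    set v : U F := nu * w⁻¹ with hv
    have hvQ : v ∈ Q8 F := mul_mem (Or.inr (Or.inl rfl)) (inv_mem hw)
    have hInS : InS K ((Rj a v).1 *ᵥ x) := InS.act ⟨hx, hxK⟩ (hSK (Rj_mem _ a hvQ))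
    have hX := Xab_unit (F := F) hab
    have hy : (Rj a v).1 *ᵥ x = Xab a b *ᵥ (fun k => (f2 : Fin 2 → ℍ[F]) k * x b) := by
      rw [Rj_mulVec, Xab_mulVec]
      funext c
      show _ = e a c * (1 * x b) + e b c * (1 * x b)
      rw [one_mul, e_mul_apply, e_mul_apply]
      by_cases hca : c = a
      · subst hca
        rw [if_pos rfl, if_pos rfl, if_neg hab, add_zero, ha]
        have h3 : (v : ℍ[F]) = -star (w : ℍ[F]) := by
          rw [hv, Submonoid.coe_mul, coe_nu, PronQ.coe_inv]; noncomm_ring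
        rw [h3, neg_mul_neg, ← mul_assoc, Unitary.coe_star_mul_self, one_mul]
      · rw [if_neg hca, if_neg hca, zero_add]
        by_cases hcb : c = b
        · rw [if_pos hcb, hcb]
        · rw [if_neg hcb, hzero c hca hcb]
    rw [hy] at hInS
    obtain ⟨hy1, hy2⟩ := hInS
    have hf : ip (fun k => (f2 : Fin 2 → ℍ[F]) k * x b) (fun k => (f2 : Fin 2 → ℍ[F]) k * x b) = 1 := by
      rw [← ip_Phi hX]; exact hy1
    have h0' : ∀ w : U F, Phi (Xab a b) hX (Rj 0 w) = Rj a w := by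
      intro w
      have hXe : (Xab a b : Matrix n (Fin 2) ℍ[F]) *ᵥ e 0 = e a := by
        rw [Xab_mulVec]
        funext c
        have e0 : (e 0 : Fin 2 → ℍ[F]) 0 = 1 := by rw [e, Pi.single_eq_same]
        have e1 : (e 0 : Fin 2 → ℍ[F]) 1 = 0 := by rw [e, Pi.single_eq_of_ne (by decide)]
        rw [e0, e1, mul_one, mul_zero, add_zero]
      rw [Rj, Phi_R hX _ _ (by rw [hXe]; exact ip_e_e a), Rj]
      exact R_congr hXe _ _ _
    have h1' : ∀ w : U F, Phi (Xab a b) hX (Rj 1 w) = Rj b w := by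
      intro w
      have hXe : (Xab a b : Matrix n (Fin 2) ℍ[F]) *ᵥ e 1 = e b := by
        rw [Xab_mulVec]
        funext c
        have e0 : (e 1 : Fin 2 → ℍ[F]) 1 = 1 := by rw [e, Pi.single_eq_same]
        have e1 : (e 1 : Fin 2 → ℍ[F]) 0 = 0 := by rw [e, Pi.single_eq_of_ne (by decide)]
        rw [e0, e1, mul_one, mul_zero, zero_add]
      rw [Rj, Phi_R hX _ _ (by rw [hXe]; exact ip_e_e b), Rj]
      exact R_congr hXe _ _ _
    have hL := two_by_two h2 hns (L := K.comap (Phi (Xab a b) hX))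
      (fun w hw => by
        show Phi (Xab a b) hX (Rj 0 w) ∈ K
        rw [h0']; exact hSK (Rj_mem _ a hw))
      (fun w hw => by
        show Phi (Xab a b) hX (Rj 1 w) ∈ K
        rw [h1']; exact hSK (Rj_mem _ b hw)) hb hf
      (fun w hw => by
        show Phi (Xab a b) hX (R _ hf w) ∈ K
        rw [Phi_R hX _ hf hy1]; exact hy2 w hw)
    have h5 : Phi (Xab a b) hX (sc (om h2)) = Rj a (om h2) * Rj b (om h2) := by
      rw [sc_eq_Rj, map_mul, h0', h1']
    rw [← h5]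
    exact hL

/-- Two reflections of `K` lying in a common 2-subgroup commute. -/
theorem f2' {x y : n → ℍ[F]} (hx : ip x x = 1) (hxK : ∀ w ∈ Q8 F, R x hx w ∈ K)
    (hy : ip y y = 1) (hyK : ∀ w ∈ Q8 F, R y hy w ∈ K) {Q : Subgroup (GU n F)} (hQK : Q ≤ K)
    (hQ : IsPGroup 2 Q) (hxQ : R x hx nu ∈ Q) (hyQ : R y hy nu ∈ Q) :
    ip x y = 0 ∨ y = fun a => x a * ip x y := by
  obtain ⟨S, hS⟩ := exists_sylow_SG h2 hns T hT
  obtain ⟨c, hc, hcQ⟩ := conj_into S (hS ▸ hSK) hQK hQ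
  rw [hS] at hcQ
  have hx' := InS.act ⟨hx, hxK⟩ hc
  have hy' := InS.act ⟨hy, hyK⟩ hc
  obtain ⟨hx1, hx2⟩ := hx'
  obtain ⟨hy1, hy2⟩ := hy'
  have h3 := hcQ _ hxQ
  rw [R_conj c x hx hx1] at h3
  have h4 := hcQ _ hyQ
  rw [R_conj c y hy hy1] at h4
  obtain ⟨j, hj⟩ := f1 h2 hns T hT hSK hom hx1 hx2 h3
  obtain ⟨k, hk⟩ := f1 h2 hns T hT hSK hom hy1 hy2 h4
  have h5 : ip x y = star ((c.1 *ᵥ x) j) * (c.1 *ᵥ y) j := by
    rw [← ip_act c]
    unfold ip
    refine Finset.sum_eq_single j (fun a _ ha => ?_) (fun h => absurd (Finset.mem_univ _) h)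
    rw [hj a ha, star_zero, zero_mul]
  by_cases hjk : j = k
  · right
    subst hjk
    have h6 : (c.1 *ᵥ x) j * star ((c.1 *ᵥ x) j) = 1 := by
      have h7 : ip (c.1 *ᵥ x) (c.1 *ᵥ x) = star ((c.1 *ᵥ x) j) * (c.1 *ᵥ x) j := by
        unfold ip
        refine Finset.sum_eq_single j (fun a _ ha => ?_) (fun h => absurd (Finset.mem_univ _) h)
        rw [hj a ha, star_zero, zero_mul]
      rw [hx1, star_mul_self] at h7
      rw [self_mul_star]; exact h7.symm
    have h8 : c.1 *ᵥ y = c.1 *ᵥ (fun a => x a * ip x y) := by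
      rw [mulVec_smul_right]
      funext a
      by_cases ha : a = j
      · subst ha
        rw [h5, ← mul_assoc, h6, one_mul]
      · rw [hj a ha, hk a ha, zero_mul]
    have h9 := congrArg (fun v => (c.1)ᴴ *ᵥ v) h8
    simp only [Matrix.mulVec_mulVec, star_mul_coe, Matrix.one_mulVec] at h9
    exact h9
  · left
    rw [h5, hk j hjk, mul_zero]

end Main

end Cfsg.Agent.H158.PronK
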