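import Cfsg.Agent.H158.PronNegA
import Cfsg.Agent.H158.PronK
import Mathlib

/-!
# S2527: subgroups of odd index of `PSp (2n, q)`, `q = ±3 mod 8`, which are not pronormal (helper158)

`not_po` : if `n` is neither `2 ^ m` nor `2 ^ m (2 ^ (2 k) + 1)` then `PSp n F` has a subgroup of odd
index which is not pronormal.
-/

set_option autoImplicit false
set_option linter.unusedSectionVars false

namespace Cfsg.Agent.H158.PronNeg

open Quaternion Matrix Equiv
open Cfsg.Agent.H158.PronQ Cfsg.Agent.H158.PronMat Cfsg.Agent.H158.PronMono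
open Cfsg.Agent.H158.PronFrame Cfsg.Agent.H158.PronAvg

/-! ### Sylow 2-subgroups, intransitive case -/

section sylow

variable {F : Type*} [Field F] (h2 : (2 : F) ≠ 0) {n : Type*} [Fintype n] [DecidableEq n]

theorem mem_of_cls {c : ℤ} (hc : (3 : ℤ) ∣ c) {u : U F} (hu : Cls h2 c u) : u ∈ Q8 F := by
  obtain ⟨d, rfl⟩ := hc
  have h1 : om h2 ^ (-(3 * d)) = 1 := by
    have h3 : om h2 ^ (3 : ℤ) = 1 := by rw [show (3 : ℤ) = ((3 : ℕ) : ℤ) from rfl, zpow_natCast, om_cube]
    rw [_root_.zpow_neg, _root_.zpow_mul, h3, _root_.one_zpow, inv_one]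
  have h4 : om h2 ^ (-(3 * d)) * u ∈ Q8 F := hu
  rwa [h1, one_mul] at h4

include h2 in
theorem exists_sylow_SG' [Finite F] (hns : ¬ IsSquare (2 : F)) (T : Sylow 2 (Perm n)) :
    ∃ S : Sylow 2 (GU n F), (S : Subgroup (GU n F)) = SG (Q8 F) (T : Subgroup (Perm n)) := by
  apply exists_sylow_eq _ (SG_isPGroup Q8_isPGroup T.isPGroup')
  rintro g hg ⟨k, hk⟩
  have hgn : g ∈ Subgroup.normalizer
      ((SG (Q8 F) (T : Subgroup (Perm n)) : Subgroup (GU n F)) : Set (GU n F)) := by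
    have hginv : ∀ s ∈ SG (Q8 F) (T : Subgroup (Perm n)), g⁻¹ * s * g ∈ SG (Q8 F)
        (T : Subgroup (Perm n)) := by
      have h3 : ∀ j : ℕ, ∀ s ∈ SG (Q8 F) (T : Subgroup (Perm n)),
          g ^ j * s * (g ^ j)⁻¹ ∈ SG (Q8 F) (T : Subgroup (Perm n)) := by
        intro j
        induction j with
        | zero => intro s hs; simpa using hs
        | succ j ih =>
          intro s hs
          have h4 : g ^ (j + 1) * s * (g ^ (j + 1))⁻¹ = g ^ j * (g * s * g⁻¹) * (g ^ j)⁻¹ := by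
            rw [pow_succ]; group
          rw [h4]
          exact ih _ (hg s hs)
      intro s hs
      have h5 := h3 (2 ^ k - 1) s hs
      have h6 : g ^ (2 ^ k - 1) = g⁻¹ := by
        rw [eq_inv_iff_mul_eq_one, ← pow_succ, Nat.sub_add_cancel Nat.one_le_two_pow, hk]
      rw [h6, inv_inv] at h5
      exact h5
    rw [Subgroup.mem_normalizer_iff]
    intro s
    refine ⟨fun h => hg s h, fun h => ?_⟩
    have h3 := hginv _ h
    have h4 : g⁻¹ * (g * s * g⁻¹) * g = s := by group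
    rwa [h4] at h3
  obtain ⟨σ, hσT, hσ, hu⟩ := norm_mono h2 T ⟨uI, uI_mem, by
    apply Subtype.ext; show (qi : ℍ[F]) * qi = -1; exact qi_mul_qi⟩ hgn
  choose u hue using fun b => hσ.entry b
  have hun : ∀ b, ∀ w ∈ Q8 F, u b * w * (u b)⁻¹ ∈ Q8 F := fun b => hu b (u b) (hue b)
  choose c hc using fun b => exists_cls h2 hns (hun b)
  have hstep : ∀ τ ∈ (T : Subgroup (Perm n)), ∀ b, u (τ b) * (u b)⁻¹ ∈ Q8 F := by
    intro τ hτ b
    have h3 := (Subgroup.mem_normalizer_iff.1 hgn _).1 (PM_mem (F := F) (Q8 F) hτ)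
    obtain ⟨ρ, hρ, hρm, hρe⟩ := h3
    have hσi : Mono (g⁻¹).1 σ⁻¹ := by
      have := hσ.star
      rwa [← coe_inv_GU] at this
    have h4 : Mono (g * PM τ * g⁻¹).1 (σ * τ * σ⁻¹) := (hσ.mul (PM_mono τ)).mul hσi
    have h5 := hρm.unique h4
    subst h5
    obtain ⟨w, hw, hwe⟩ := hρe (σ b)
    have h6 : (σ * τ * σ⁻¹) (σ b) = σ (τ b) := by simp
    rw [h6] at hwe
    have h7 : (g * PM τ * g⁻¹).1 (σ (τ b)) (σ b) = g.1 (σ (τ b)) (τ b) * star (g.1 (σ b) b) := by
      have h8 : (g * PM τ * g⁻¹).1 = (g.1 * (PM τ : GU n F).1) * (g⁻¹).1 := rfl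
      rw [h8, hσi.mul_apply, coe_inv_GU, Matrix.conjTranspose_apply, (PM_mono τ).mul_apply]
      have h9 : σ⁻¹ (σ b) = b := by simp
      rw [h9, PM_apply, if_pos rfl, mul_one]
    rw [h7, ← hue, ← hue, ← PronQ.coe_inv] at hwe
    have h10 : w = u (τ b) * (u b)⁻¹ := Subtype.ext hwe
    rw [← h10]; exact hw
  have hcT : ∀ τ ∈ (T : Subgroup (Perm n)), ∀ b, (3 : ℤ) ∣ c (τ b) - c b := by
    intro τ hτ b
    have h3 := (Cls.of_mem h2 (hstep τ hτ b)).mul h2 (hc b)
    rw [zero_add, inv_mul_cancel_right] at h3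
    exact Cls.unique h2 (hc (τ b)) h3
  have h3 : g ^ 3 ∈ SG (Q8 F) (T : Subgroup (Perm n)) := by
    have hm2 : Mono (g * g).1 (σ * σ) := hσ.mul hσ
    have hm3 : Mono (g * (g * g)).1 (σ * (σ * σ)) := hσ.mul hm2
    have e3 : g ^ 3 = g * (g * g) := by rw [pow_succ, pow_two, mul_assoc]
    rw [e3]
    refine ⟨σ * (σ * σ), mul_mem hσT (mul_mem hσT hσT), hm3, fun b => ⟨u (σ (σ b)) * (u (σ b) * u b), ?_, ?_⟩⟩
    · refine mem_of_cls h2 (c := c (σ (σ b)) + (c (σ b) + c b)) ?_ ((hc _).mul h2 ((hc _).mul h2 (hc b)))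
      have h5 := hcT σ hσT (σ b)
      have h6 := hcT σ hσT b
      have h7 : c (σ (σ b)) + (c (σ b) + c b) = (c (σ (σ b)) - c (σ b)) + 2 * (c (σ b) - c b) + 3 * c b := by ring
      rw [h7]
      exact dvd_add (dvd_add h5 (Dvd.dvd.mul_left h6 _)) (Dvd.intro _ rfl)
    · have h8 : (g * (g * g)).1 = g.1 * (g.1 * g.1) := rfl
      rw [h8, (show Mono (g.1 * g.1) (σ * σ) from hm2).mul_apply, hσ.mul_apply]
      show _ = g.1 (σ (σ (σ b))) (σ (σ b)) * (g.1 (σ (σ b)) (σ b) * g.1 (σ b) b)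
      rw [← hue, ← hue, ← hue]
      rfl
  have hcop : Nat.Coprime 3 (2 ^ k) := Nat.Coprime.pow_right k (by norm_num)
  exact mem_of_pow_coprime _ hcop h3 (by rw [hk]; exact one_mem _)

theorem SG_mono {W : Subgroup (U F)} {T T' : Subgroup (Perm n)} (h : T ≤ T') : SG W T ≤ SG W T' := by
  rintro g ⟨σ, hσ, hg, hent⟩
  exact ⟨σ, h hσ, hg, hent⟩

include h2 in
theorem odd_index_SG [Finite F] (hns : ¬ IsSquare (2 : F)) {T : Subgroup (Perm n)} (hT : Odd T.index) :
    Odd (SG (Q8 F) T : Subgroup (GU n F)).index := by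
  obtain ⟨T', hT'⟩ := Cfsg.Agent.H158.PronProd.exists_sylow_le' hT
  obtain ⟨S, hS⟩ := exists_sylow_SG' (h2 := h2) hns T'
  apply Cfsg.Agent.H158.PronProd.odd_index_of_sylow_le S
  rw [hS]
  exact SG_mono hT'

end sylow

/-! ### the stabilizer of a set -/

section stab

variable {n : Type*} [Fintype n] [DecidableEq n]

/-- the stabilizer of `A` -/
def StabA (A : Finset n) : Subgroup (Perm n) where
  carrier := {σ | ∀ b, σ b ∈ A ↔ b ∈ A}
  one_mem' := fun b => Iff.rfl
  mul_mem' := fun {σ τ} hσ hτ b => by rw [Perm.mul_apply, hσ, hτ]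
  inv_mem' := fun {σ} hσ b => by
    have := hσ (σ⁻¹ b)
    rw [show σ (σ⁻¹ b) = b by simp] at this
    exact this.symm

theorem stabA_trans (A : Finset n) : ∀ a ∈ A, ∀ b ∈ A, ∃ τ ∈ StabA A, τ a = b := by
  intro a ha b hb
  refine ⟨swap a b, fun c => ?_, swap_apply_left a b⟩
  by_cases h1 : c = a
  · subst h1
    rw [swap_apply_left]; exact ⟨fun _ => ha, fun _ => hb⟩
  · by_cases h3 : c = b
    · subst h3
      rw [swap_apply_right]; exact ⟨fun _ => hb, fun _ => ha⟩
    · rw [swap_apply_of_ne_of_ne h1 h3]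

open scoped Pointwise in
theorem index_stabA (A : Finset n) : (StabA A).index = (Fintype.card n).choose A.card := by
  have h1 : StabA A = MulAction.stabilizer (Perm n) A := by
    ext σ
    rw [MulAction.mem_stabilizer_iff]
    constructor
    · intro h
      apply Finset.eq_of_subset_of_card_le
      · intro x hx
        obtain ⟨y, hy, rfl⟩ := Finset.mem_smul_finset.1 hx
        exact (h y).2 hy
      · rw [Finset.card_smul_finset]
    · intro h b
      have h3 : σ • b ∈ σ • A ↔ b ∈ A := Finset.smul_mem_smul_finset_iff σ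
      rw [h] at h3
      exact h3
  rw [h1, MulAction.index_stabilizer]
  have h3 : MulAction.orbit (Perm n) A = ((Finset.powersetCard A.card (Finset.univ : Finset n) : Finset (Finset n)) : Set (Finset n)) := by
    ext B
    rw [Finset.mem_coe, Finset.mem_powersetCard]
    constructor
    · rintro ⟨σ, rfl⟩
      exact ⟨Finset.subset_univ _, Finset.card_smul_finset σ A⟩
    · rintro ⟨-, hB⟩
      obtain ⟨e⟩ : Nonempty ({x // x ∈ A} ≃ {x // x ∈ B}) := by
        rw [← Fintype.card_eq]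
        rw [Fintype.card_coe, Fintype.card_coe, hB]
      refine ⟨e.extendSubtype, ?_⟩
      apply Finset.eq_of_subset_of_card_le
      · intro x hx
        obtain ⟨y, hy, rfl⟩ := Finset.mem_smul_finset.1 hx
        exact e.extendSubtype_mem y hy
      · show B.card ≤ (e.extendSubtype • A).card
        rw [Finset.card_smul_finset, hB]
  rw [h3, Set.ncard_coe_finset, Finset.card_powersetCard, Finset.card_univ]

end stab

/-! ### passing to a quotient -/

section quot

variable {G G' : Type*} [Group G] [Group G']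

theorem isPronormal_of_map (f : G →* G') (H : Subgroup G) (hk : f.ker ≤ H) (h : Cfsg.IsPronormal (H.map f)) :
    Cfsg.IsPronormal H := by
  intro g
  obtain ⟨x', hx', hxe⟩ := h (f g)
  have key : ∀ y : G, (H.map f).map (MulAut.conj (f y)).toMonoidHom = (H.map (MulAut.conj y).toMonoidHom).map f := by
    intro y
    ext z
    constructor
    · rintro ⟨_, ⟨w, hw, rfl⟩, rfl⟩
      exact ⟨_, ⟨w, hw, rfl⟩, by simp⟩
    · rintro ⟨_, ⟨w, hw, rfl⟩, rfl⟩
      exact ⟨_, ⟨w, hw, rfl⟩, by simp⟩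
  rw [key, ← Subgroup.map_sup] at hx'
  obtain ⟨x, hx, rfl⟩ := hx'
  refine ⟨x, hx, ?_⟩
  rw [key, key] at hxe
  have hk' : ∀ y : G, f.ker ≤ H.map (MulAut.conj y).toMonoidHom := by
    intro y z hz
    rw [Cfsg.Agent.H158.PronProd.mem_map_conj]
    apply hk
    rw [MonoidHom.mem_ker] at hz ⊢
    rw [map_mul, map_mul, hz, map_inv, mul_one, inv_mul_cancel]
  have h3 := congrArg (Subgroup.comap f) hxe
  rwa [Subgroup.comap_map_eq_self (hk' g), Subgroup.comap_map_eq_self (hk' x)] at h3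

end quot


/-! ### the result -/

section final

variable {F : Type*} [Field F] {n : Type*} [Fintype n] [DecidableEq n]

theorem mem_SG_of_comm (h2 : (2 : F) ≠ 0) {z : GU n F} (hz : ∀ g : GU n F, z * g = g * z) (T : Subgroup (Perm n)) :
    z ∈ SG (Q8 F) T := by
  have hd : ∀ a b : n, a ≠ b → z.1 a b = 0 := by
    intro a b hab
    have h1 := congrArg (fun g : GU n F => g.1 a b) (hz (Rj b nu))
    have h3 : (z * Rj b nu).1 a b = z.1 a b * (-1) := by
      have h8 : (z * Rj b nu).1 = z.1 * (Rj b nu : GU n F).1 := rfl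
      rw [h8, (Rj_mono b nu).mul_apply, Perm.one_apply, Rj_apply, if_pos rfl, if_pos rfl, coe_nu]
    have h4 : (Rj b nu * z).1 a b = z.1 a b := by
      have h8 : (Rj b nu * z).1 = (Rj b nu : GU n F).1 * z.1 := rfl
      rw [h8, Matrix.mul_apply, Finset.sum_eq_single a]
      · rw [Rj_apply, if_pos rfl, if_neg hab, one_mul]
      · intro c _ hc
        rw [Rj_apply, if_neg (fun h => hc h.symm), zero_mul]
      · intro h; exact absurd (Finset.mem_univ _) h
    have h5 : z.1 a b * (-1) = z.1 a b := by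
      rw [← h3, ← h4]; exact h1
    apply two_ne h2
    have h6 : z.1 a b + z.1 a b = 0 := by
      nth_rewrite 1 [← h5]
      simp
    rw [two_mul]; exact h6
  have hm : Mono z.1 1 := fun a b hab => hd a b hab
  refine ⟨1, one_mem _, hm, fun b => ?_⟩
  obtain ⟨u, hu⟩ := hm.entry b
  refine ⟨u, ?_, hu⟩
  rw [Perm.one_apply] at hu
  have hc : ∀ w : U F, (u : ℍ[F]) * w = w * u := by
    intro w
    have h1 := congrArg (fun g : GU n F => g.1 b b) (hz (Rj b w))
    have h3 : (z * Rj b w).1 b b = z.1 b b * w := by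
      have h8 : (z * Rj b w).1 = z.1 * (Rj b w : GU n F).1 := rfl
      rw [h8, (Rj_mono b w).mul_apply, Perm.one_apply, Rj_apply, if_pos rfl, if_pos rfl]
    have h4 : (Rj b w * z).1 b b = w * z.1 b b := by
      have h8 : (Rj b w * z).1 = (Rj b w : GU n F).1 * z.1 := rfl
      rw [h8, hm.mul_apply, Perm.one_apply, Rj_apply, if_pos rfl, if_pos rfl]
    rw [hu, ← h3, ← h4]; exact h1
  have h1 : (u : ℍ[F]) = ((u : ℍ[F]).re : ℍ[F]) := eq_coe_of_comm h2 (hc uI) (hc uJ)
  have h3 : (u : ℍ[F]).re * (u : ℍ[F]).re = 1 := by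
    have h4 : (u : ℍ[F]) * star (u : ℍ[F]) = 1 := Unitary.coe_mul_star_self u
    rw [h1] at h4
    have h5 := congrArg QuaternionAlgebra.re h4
    simpa using h5
  rw [mem_Q8, h1]
  rcases mul_self_eq_one_iff.1 h3 with h4 | h4
  · rw [h4]
    exact Or.inl (by ext <;> simp)
  · rw [h4]
    exact Or.inr (Or.inl (by ext <;> simp))

end final

theorem not_po {F : Type*} [Field F] [Fintype F] (h8 : Fintype.card F % 8 = 3 ∨ Fintype.card F % 8 = 5) {n : ℕ}
    (hn : 1 ≤ n) (h1 : ¬ ∃ m : ℕ, n = 2 ^ m) (h3 : ¬ ∃ m k : ℕ, n = 2 ^ m * (2 ^ (2 * k) + 1)) :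
    ¬ Cfsg.Agent.H408.Pron.PO (Cfsg.PSp n F) := by
  intro hPO
  have hns : ¬ IsSquare (2 : F) := by
    rw [FiniteField.isSquare_two_iff]
    omega
  have h2 : (2 : F) ≠ 0 := fun h => hns (h ▸ IsSquare.zero)
  obtain ⟨a, ha1, ha2, ha3, hodd⟩ := exists_three n hn h1 h3
  obtain ⟨A, hA⟩ : ∃ A : Finset (Fin n), A.card = a := by
    obtain ⟨A, -, hA⟩ := Finset.exists_subset_card_eq (s := (Finset.univ : Finset (Fin n))) (n := a) (by simpa using ha2)
    exact ⟨A, hA⟩
  have hA0 : A.Nonempty := by rw [← Finset.card_pos]; omega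
  have hind : Odd (StabA A).index := by
    rw [index_stabA, Fintype.card_fin, hA]; exact hodd
  apply not_pronormal h2 A hA0 (hA ▸ ha3) (StabA A) (fun σ hσ => hσ) (stabA_trans A)
  obtain ⟨x, y, hxy⟩ := Cfsg.Agent.H158.PronM2.exists_sq_add_sq (-1 : F)
  let f : GU (Fin n) F →* Cfsg.PSp n F := (QuotientGroup.mk' _).comp (Cfsg.Agent.H158.PronSp.toSp hxy)
  have hf : Function.Surjective f :=
    (QuotientGroup.mk'_surjective _).comp (Cfsg.Agent.H158.PronSp.toSp_surjective hxy h2)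
  have hker : f.ker ≤ SG (Q8 F) (StabA A) := by
    intro z hz
    apply mem_SG_of_comm h2
    intro g
    have h4 : Cfsg.Agent.H158.PronSp.toSp hxy z ∈ Subgroup.center (Matrix.symplecticGroup (Fin n) F) := by
      have : (QuotientGroup.mk' (Subgroup.center (Matrix.symplecticGroup (Fin n) F)))
        (Cfsg.Agent.H158.PronSp.toSp hxy z) = 1 := hz
      rwa [← MonoidHom.mem_ker, QuotientGroup.ker_mk'] at this
    have h5 := Subgroup.mem_center_iff.1 h4 (Cfsg.Agent.H158.PronSp.toSp hxy g)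
    rw [← map_mul, ← map_mul] at h5
    apply Subtype.ext
    apply Cfsg.Agent.H158.PronSp.Th_injective hxy h2
    exact (congrArg Subtype.val h5).symm
  apply isPronormal_of_map f _ hker
  apply hPO
  have h6 := odd_index_SG h2 hns hind
  rw [← Nat.not_even_iff_odd, even_iff_two_dvd] at h6 ⊢
  intro h7
  apply h6
  refine h7.trans ?_
  have := Subgroup.index_map_dvd (SG (Q8 F) (StabA A)) hf
  exact this

end Cfsg.Agent.H158.PronNeg
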