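import Cfsg.Agent.H628.Dl.Torus
import Cfsg.Agent.H680.Dl.Hall
import Cfsg.Agent.H285.D4Sylow

/-!
# The derived length of the Sylow subgroups of the exceptional groups (S4769, task 2504; helper158)

`p ≠ r`.
-/

set_option autoImplicit false
set_option linter.unusedSectionVars false

namespace Cfsg.Agent.H158.DlRows

open Cfsg Cfsg.Lie Cfsg.Agent.H246.Dl Cfsg.Agent.H628.Dl Cfsg.Agent.Nodes.Reps
open Cfsg.Agent.ChevalleyStructure Cfsg.Agent.ChevalleyStructure.CoxeterGeomTypes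
open Cfsg.Agent.H541.PRegFus Cfsg.Agent.H795.RowsA
open CoxeterSystem Cfsg.Agent.ChevalleyStructure.CoxeterGeom Cfsg.Agent.ChevalleyStructure.Elts Cfsg.Agent.Nodes.RGDChev
open Cfsg.Lie.ChevalleyDatum

universe u v w

/-! ### the Weyl groups -/

theorem cube_aux {p a b c : ℕ} (hp : p.Prime) (h5 : 5 ≤ p) (hc0 : c ≠ 0) (hc : c < 343) (hc5 : ¬ 125 ∣ c) :
    ¬ p ^ (2 + 1) ∣ 2 ^ a * 3 ^ b * c := by
  intro h
  have h2 : Nat.Coprime (p ^ 3) (2 ^ a) := Nat.Coprime.pow 3 a ((Nat.coprime_primes hp Nat.prime_two).2 (by omega))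
  have h3 : Nat.Coprime (p ^ 3) (3 ^ b) := Nat.Coprime.pow 3 b ((Nat.coprime_primes hp Nat.prime_three).2 (by omega))
  have h4 : p ^ 3 ∣ c := by
    rw [mul_assoc] at h
    exact h3.dvd_of_dvd_mul_left (h2.dvd_of_dvd_mul_left h)
  have h6 : p ^ 3 < 343 := lt_of_le_of_lt (Nat.le_of_dvd (Nat.pos_of_ne_zero hc0) h4) hc
  have h7 : p < 7 := by
    by_contra hlt
    push Not at hlt
    have := Nat.pow_le_pow_left hlt 3
    omega
  have h8 : p = 5 ∨ p = 6 := by omega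
  rcases h8 with rfl | rfl
  · exact hc5 h4
  · exact absurd hp (by norm_num)

section weyl

instance finE6 : Finite CoxeterMatrix.E₆.Group := finW (D := chevE6) (l := 6) (by simp [IsType, typeList])
instance finE7 : Finite CoxeterMatrix.E₇.Group := finW (D := chevE7) (l := 7) (by simp [IsType, typeList])
instance finE8 : Finite CoxeterMatrix.E₈.Group := finW (D := chevE8) (l := 8) (by simp [IsType, typeList])
instance finF4 : Finite CoxeterMatrix.F₄.Group := finW (D := chevF4) (l := 4) (by simp [IsType, typeList])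
instance finG2 : Finite CoxeterMatrix.G₂.Group := finW (D := chevG2) (l := 2) (by simp [IsType, typeList])
instance finD4 : Finite coxeterD4.Group := finW (D := chevD4) (l := 4) (by simp [IsType, typeList])

theorem wE6_two : DlLe 2 3 CoxeterMatrix.E₆.Group := by
  have : Fact (Nat.Prime 2) := ⟨Nat.prime_two⟩
  refine H680.Dl.dlLe_three (a := 7) (by norm_num) ?_
  rw [card_E6]; norm_num

theorem wE6_three : DlLe 3 2 CoxeterMatrix.E₆.Group := by
  have : Fact (Nat.Prime 3) := ⟨Nat.prime_three⟩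
  refine H680.Dl.dlLe_two (a := 4) (by norm_num) ?_
  rw [card_E6]; norm_num

theorem wE6 {p : ℕ} (hp : p.Prime) (h5 : 5 ≤ p) : DlLe p 1 CoxeterMatrix.E₆.Group := by
  have : Fact p.Prime := ⟨hp⟩
  refine H680.Dl.dlLe_one (a := 2) le_rfl ?_
  rw [card_E6, show (51840 : ℕ) = 2 ^ 7 * 3 ^ 4 * 5 by norm_num]
  exact cube_aux hp h5 (by norm_num) (by norm_num) (by norm_num)

theorem wE7_two : DlLe 2 3 CoxeterMatrix.E₇.Group := by
  have : Fact (Nat.Prime 2) := ⟨Nat.prime_two⟩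
  refine H680.Dl.dlLe_three (a := 10) (by norm_num) ?_
  rw [card_E7]; norm_num

theorem wE7_three : DlLe 3 2 CoxeterMatrix.E₇.Group := by
  have : Fact (Nat.Prime 3) := ⟨Nat.prime_three⟩
  refine H680.Dl.dlLe_two (a := 4) (by norm_num) ?_
  rw [card_E7]; norm_num

theorem wE7 {p : ℕ} (hp : p.Prime) (h5 : 5 ≤ p) : DlLe p 1 CoxeterMatrix.E₇.Group := by
  have : Fact p.Prime := ⟨hp⟩
  refine H680.Dl.dlLe_one (a := 2) le_rfl ?_
  rw [card_E7, show (2903040 : ℕ) = 2 ^ 10 * 3 ^ 4 * 35 by norm_num]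
  exact cube_aux hp h5 (by norm_num) (by norm_num) (by norm_num)

theorem wE8_two : DlLe 2 4 CoxeterMatrix.E₈.Group := by
  have : Fact (Nat.Prime 2) := ⟨Nat.prime_two⟩
  refine H680.Dl.dlLe_four (a := 14) (by norm_num) ?_
  rw [card_E8]; norm_num

theorem wE8_three : DlLe 3 2 CoxeterMatrix.E₈.Group := by
  have : Fact (Nat.Prime 3) := ⟨Nat.prime_three⟩
  refine H680.Dl.dlLe_two (a := 5) (by norm_num) ?_
  rw [card_E8]; norm_num

theorem wE8 {p : ℕ} (hp : p.Prime) (h5 : 5 ≤ p) : DlLe p 1 CoxeterMatrix.E₈.Group := by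
  have : Fact p.Prime := ⟨hp⟩
  refine H680.Dl.dlLe_one (a := 2) le_rfl ?_
  rw [card_E8, show (696729600 : ℕ) = 2 ^ 14 * 3 ^ 5 * 175 by norm_num]
  exact cube_aux hp h5 (by norm_num) (by norm_num) (by norm_num)

theorem wF4_two : DlLe 2 3 CoxeterMatrix.F₄.Group := by
  have : Fact (Nat.Prime 2) := ⟨Nat.prime_two⟩
  refine H680.Dl.dlLe_three (a := 7) (by norm_num) ?_
  rw [card_F4]; norm_num

theorem wF4 {p : ℕ} (hp : p.Prime) (h3 : 3 ≤ p) : DlLe p 1 CoxeterMatrix.F₄.Group := by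
  have : Fact p.Prime := ⟨hp⟩
  refine H680.Dl.dlLe_one (a := 2) le_rfl ?_
  rw [card_F4]
  rcases Nat.lt_or_ge p 5 with h5 | h5
  · have h4 : p = 3 ∨ p = 4 := by omega
    rcases h4 with rfl | rfl
    · norm_num
    · exact absurd hp (by norm_num)
  · rw [show (1152 : ℕ) = 2 ^ 7 * 3 ^ 2 * 1 by norm_num]
    exact cube_aux hp h5 (by norm_num) (by norm_num) (by norm_num)

theorem wG2 {p : ℕ} (hp : p.Prime) : DlLe p 1 CoxeterMatrix.G₂.Group := by
  have : Fact p.Prime := ⟨hp⟩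
  refine H680.Dl.dlLe_one (a := 2) le_rfl ?_
  rw [card_G2]
  intro h
  have h1 := Nat.le_of_dvd (by norm_num) h
  have h2 : p < 3 := by
    by_contra hlt
    push Not at hlt
    have h5 : 3 ^ (2 + 1) ≤ p ^ (2 + 1) := Nat.pow_le_pow_left hlt (2 + 1)
    omega
  have h3 : p = 2 := by have := hp.two_le; omega
  subst h3
  norm_num at h

theorem wD4 {p : ℕ} (hp : p.Prime) (h3 : 3 ≤ p) : DlLe p 1 coxeterD4.Group := by
  have : Fact p.Prime := ⟨hp⟩
  refine H680.Dl.dlLe_one (a := 2) le_rfl ?_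
  rw [card_D4]
  rcases Nat.lt_or_ge p 5 with h5 | h5
  · have h4 : p = 3 ∨ p = 4 := by omega
    rcases h4 with rfl | rfl
    · norm_num
    · exact absurd hp (by norm_num)
  · rw [show (192 : ℕ) = 2 ^ 6 * 3 ^ 1 * 1 by norm_num]
    exact cube_aux hp h5 (by norm_num) (by norm_num) (by norm_num)

end weyl

/-! ### the extension of the field -/

theorem order_aux {p q : ℕ} (hp : p.Prime) (hpq : ¬ p ∣ q) :
    p ∣ q ^ (2 * (p - 1)) - 1 ∧ (p = 2 → 4 ∣ q ^ (2 * (p - 1)) - 1) := by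
  have hq0 : q ≠ 0 := by rintro rfl; exact hpq (dvd_zero p)
  constructor
  · have : Fact p.Prime := ⟨hp⟩
    have h1 : ((q ^ (2 * (p - 1)) : ℕ) : ZMod p) = 1 := by
      rw [Nat.cast_pow, mul_comm 2, pow_mul, ZMod.pow_card_sub_one_eq_one, one_pow]
      rwa [Ne, ZMod.natCast_eq_zero_iff]
    have h2 : q ^ (2 * (p - 1)) ≡ 1 [MOD p] := by
      rw [← ZMod.natCast_eq_natCast_iff, h1, Nat.cast_one]
    exact (Nat.modEq_iff_dvd' (Nat.one_le_iff_ne_zero.2 (pow_ne_zero _ hq0))).1 h2.symm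
  · rintro rfl
    have h1 : q % 2 = 1 := by omega
    obtain ⟨k, rfl⟩ : ∃ k, q = 2 * k + 1 := ⟨q / 2, by omega⟩
    have h2 : (2 * k + 1) ^ (2 * (2 - 1)) = 4 * (k * k + k) + 1 := by ring
    rw [h2, Nat.add_sub_cancel]
    exact Dvd.intro _ rfl

/-- **`DlLe` for the subgroups of `D.group F`** -/
theorem dl_ext {D : ChevalleyDatum} (hD : InList D) {F : Type u} [Field F] [Fintype F] {p d : ℕ} (hp : p.Prime)
    (hpF : ¬ p ∣ Fintype.card F)
    (h : ∀ (F' : Type) [Field F'] [Fintype F'], p ∣ Fintype.card F' - 1 → (p = 2 → 4 ∣ Fintype.card F' - 1) →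
      DlLe p d ↥(D.group F')) {G : Type w} [Group G] (ι : G →* ↥(D.group F)) (hι : Function.Injective ι) :
    DlLe p d G := by
  obtain ⟨h1, h2⟩ := order_aux hp hpF
  refine dlLe_of_ext hD (k := 2 * (p - 1)) (by have := hp.two_le; omega) (fun F' _ _ hc => ?_) ι hι
  rw [← hc] at h1 h2
  exact h F' h1 h2

section rows

variable {F : Type u} [Field F] [Fintype F] {p : ℕ} {G : Type w} [Group G]

theorem sub_E6 {d : ℕ} (hp : p.Prime) (hpF : ¬ p ∣ Fintype.card F) (hW : DlLe p d CoxeterMatrix.E₆.Group)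
    (ι : G →* ↥(chevE6.group F)) (hι : Function.Injective ι) : DlLe p (d + 1) G := by
  have : Fact p.Prime := ⟨hp⟩
  exact dl_ext (by simp [InList]) hp hpF (fun F' _ _ h1 h2 => dlLe_E6 rfl h1 h2 hW) ι hι

theorem sub_E7 {d : ℕ} (hp : p.Prime) (hpF : ¬ p ∣ Fintype.card F) (hW : DlLe p d CoxeterMatrix.E₇.Group)
    (ι : G →* ↥(chevE7.group F)) (hι : Function.Injective ι) : DlLe p (d + 1) G := by
  have : Fact p.Prime := ⟨hp⟩
  exact dl_ext (by simp [InList]) hp hpF (fun F' _ _ h1 h2 => dlLe_E7 rfl h1 h2 hW) ι hι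

theorem sub_E8 {d : ℕ} (hp : p.Prime) (hpF : ¬ p ∣ Fintype.card F) (hW : DlLe p d CoxeterMatrix.E₈.Group)
    (ι : G →* ↥(chevE8.group F)) (hι : Function.Injective ι) : DlLe p (d + 1) G := by
  have : Fact p.Prime := ⟨hp⟩
  exact dl_ext (by simp [InList]) hp hpF (fun F' _ _ h1 h2 => dlLe_E8 rfl h1 h2 hW) ι hι

theorem sub_F4 {d : ℕ} (hp : p.Prime) (hpF : ¬ p ∣ Fintype.card F) (hW : DlLe p d CoxeterMatrix.F₄.Group)
    (ι : G →* ↥(chevF4.group F)) (hι : Function.Injective ι) : DlLe p (d + 1) G := by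
  have : Fact p.Prime := ⟨hp⟩
  exact dl_ext (by simp [InList]) hp hpF (fun F' _ _ h1 h2 => dlLe_F4 rfl h1 h2 hW) ι hι

theorem sub_G2 (hp : p.Prime) (hpF : ¬ p ∣ Fintype.card F)
    (ι : G →* ↥(chevG2.group F)) (hι : Function.Injective ι) : DlLe p 2 G := by
  have : Fact p.Prime := ⟨hp⟩
  exact dl_ext (by simp [InList]) hp hpF (fun F' _ _ h1 h2 => dlLe_G2 rfl h1 h2 (wG2 hp)) ι hι

theorem sub_D4 (hp : p.Prime) (h3 : 3 ≤ p) (hpF : ¬ p ∣ Fintype.card F)
    (ι : G →* ↥(chevD4.group F)) (hι : Function.Injective ι) : DlLe p 2 G := by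
  have : Fact p.Prime := ⟨hp⟩
  exact dl_ext (by simp [InList]) hp hpF (fun F' _ _ h1 h2 => dlLe_D4 rfl h1 h2 (wD4 hp h3)) ι hι

/-! ### the rows -/

variable {S : Type w} [Group S]

theorem emb_inj {H : Type*} [Group H] (e : S ≃* H) : Function.Injective e.toMonoidHom := e.injective

/-- `E₆(q)` -/
theorem dl_E6 (e : S ≃* ↥(chevE6.group F)) (hp : p.Prime) (hpF : ¬ p ∣ Fintype.card F) :
    (p = 2 → DlLe p 4 S) ∧ (p = 3 → DlLe p 3 S) ∧ (5 ≤ p → DlLe p 2 S) :=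
  ⟨fun h => sub_E6 hp hpF (h ▸ wE6_two) e.toMonoidHom e.injective,
    fun h => sub_E6 hp hpF (h ▸ wE6_three) e.toMonoidHom e.injective,
    fun h => sub_E6 hp hpF (wE6 hp h) e.toMonoidHom e.injective⟩

/-- `E₇(q)` -/
theorem dl_E7 (e : S ≃* ↥(chevE7.group F)) (hp : p.Prime) (hpF : ¬ p ∣ Fintype.card F) :
    (p = 2 → DlLe p 4 S) ∧ (p = 3 → DlLe p 3 S) ∧ (5 ≤ p → DlLe p 2 S) :=
  ⟨fun h => sub_E7 hp hpF (h ▸ wE7_two) e.toMonoidHom e.injective,
    fun h => sub_E7 hp hpF (h ▸ wE7_three) e.toMonoidHom e.injective,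
    fun h => sub_E7 hp hpF (wE7 hp h) e.toMonoidHom e.injective⟩

/-- `E₈(q)` -/
theorem dl_E8 (e : S ≃* ↥(chevE8.group F)) (hp : p.Prime) (hpF : ¬ p ∣ Fintype.card F) :
    (p = 2 → DlLe p 5 S) ∧ (p = 3 → DlLe p 3 S) ∧ (5 ≤ p → DlLe p 2 S) :=
  ⟨fun h => sub_E8 hp hpF (h ▸ wE8_two) e.toMonoidHom e.injective,
    fun h => sub_E8 hp hpF (h ▸ wE8_three) e.toMonoidHom e.injective,
    fun h => sub_E8 hp hpF (wE8 hp h) e.toMonoidHom e.injective⟩

/-- `F₄(q)` -/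
theorem dl_F4 (e : S ≃* ↥(chevF4.group F)) (hp : p.Prime) (hpF : ¬ p ∣ Fintype.card F) :
    (p = 2 → DlLe p 4 S) ∧ (3 ≤ p → DlLe p 2 S) :=
  ⟨fun h => sub_F4 hp hpF (h ▸ wF4_two) e.toMonoidHom e.injective,
    fun h => sub_F4 hp hpF (wF4 hp h) e.toMonoidHom e.injective⟩

/-- `G₂(q)` -/
theorem dl_G2 (e : S ≃* ↥(chevG2.group F)) (hp : p.Prime) (hpF : ¬ p ∣ Fintype.card F) : DlLe p 2 S :=
  sub_G2 hp hpF e.toMonoidHom e.injective

/-- `²E₆(q)`, `K` the field with `q²` elements -/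
theorem dl_2E6 {q : ℕ} (e : S ≃* ↥(twistedE6 F q)) (hp : p.Prime) (hpF : ¬ p ∣ Fintype.card F) :
    (p = 2 → DlLe p 4 S) ∧ (p = 3 → DlLe p 3 S) ∧ (5 ≤ p → DlLe p 2 S) := by
  obtain ⟨φ, hφ⟩ := exists_hom_E6 F q
  have hinj : Function.Injective (φ.comp e.toMonoidHom) := hφ.comp e.injective
  exact ⟨fun h => sub_E6 hp hpF (h ▸ wE6_two) _ hinj, fun h => sub_E6 hp hpF (h ▸ wE6_three) _ hinj,
    fun h => sub_E6 hp hpF (wE6 hp h) _ hinj⟩

/-- `²F₄(q)` and its subgroups -/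
theorem dl_2F4 {e : ℕ} (ι : S →* ↥(twistedF4 F e)) (hι : Function.Injective ι) (hp : p.Prime) (h3 : 3 ≤ p)
    (hpF : ¬ p ∣ Fintype.card F) : DlLe p 2 S := by
  obtain ⟨φ, hφ⟩ := exists_hom_F4 F e
  exact sub_F4 hp hpF (wF4 hp h3) (φ.comp ι) (hφ.comp hι)

/-- `³D₄(q)`, `K` the field with `q³` elements -/
theorem dl_3D4 {q : ℕ} (hq : Fintype.card F = q ^ 3) (e : S ≃* ↥(twistedD4 F q)) (hp : p.Prime)
    (hpF : ¬ p ∣ Fintype.card F) : DlLe p 2 S := by
  have : Fact p.Prime := ⟨hp⟩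
  rcases Nat.lt_or_ge p 3 with h3 | h3
  · obtain rfl : p = 2 := by have := hp.two_le; omega
    have hodd : Odd q := by
      rw [← Nat.not_even_iff_odd, even_iff_two_dvd]
      intro h
      exact hpF (hq ▸ h.trans (dvd_pow_self q (by norm_num)))
    have hpp : IsPrimePow q := by
      have h1 : IsPrimePow (q ^ 3) := by rw [← hq]; exact Fintype.isPrimePow_card_of_field
      rwa [isPrimePow_pow_iff (by norm_num)] at h1
    obtain ⟨r, n, hr, hn, hrq⟩ := hpp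
    have hr' : Fact r.Prime := ⟨Nat.prime_iff.2 hr⟩
    let F0 := GaloisField r n
    have iF : Fintype F0 := Fintype.ofFinite F0
    have hF0 : Fintype.card F0 = q := by
      rw [← Nat.card_eq_fintype_card, ← hrq]
      exact GaloisField.card r n hn.ne'
    have hnd : ¬ 2 ∣ Fintype.card F0 := by
      rw [hF0, ← even_iff_two_dvd, Nat.not_even_iff_odd]
      exact hodd
    have h2 : DlLe 2 2 ↥(chevG2.group F0) := dl_G2 (MulEquiv.refl _) Nat.prime_two hnd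
    have h4 : DlLe 2 2 ↥(twistedD4 F q) := by
      intro P
      obtain ⟨R⟩ : Nonempty (Sylow 2 ↥(chevG2.group F0)) := inferInstance
      obtain ⟨f⟩ := H285.D4Sylow.sylow_equiv hodd hq P hF0 (by rw [S1059.result hF0, hF0]) R
      have h5 : (derivedSeries ↥(P : Subgroup ↥(twistedD4 F q)) 2).map f.toMonoidHom ≤
          derivedSeries ↥(R : Subgroup ↥(chevG2.group F0)) 2 := map_derivedSeries_le_derivedSeries f.toMonoidHom 2
      rw [h2 R, le_bot_iff, Subgroup.map_eq_bot_iff] at h5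
      rw [eq_bot_iff]
      intro x hx
      have h6 := h5 hx
      rw [MonoidHom.mem_ker] at h6
      rw [Subgroup.mem_bot]
      exact f.injective (by rw [map_one]; exact h6)
    have : Finite S := Finite.of_injective e e.injective
    exact h4.of_equiv e
  · obtain ⟨φ, hφ⟩ := exists_hom_D4 F q
    exact sub_D4 hp h3 hpF (φ.comp e.toMonoidHom) (hφ.comp e.injective)

/-- `²F₄(q)` -/
theorem dl_iso2F4 (h : Iso2F4 S) (hp : p.Prime) (h3 : 3 ≤ p) : DlLe p 2 S := by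
  obtain ⟨K, i1, i2, m, hm, hK, ⟨e⟩⟩ := h
  refine dl_2F4 e.toMonoidHom e.injective hp h3 fun h0 => ?_
  rw [hK] at h0
  have := (Nat.prime_dvd_prime_iff_eq hp Nat.prime_two).1 (hp.dvd_of_dvd_pow h0)
  omega

/-- the Tits group -/
theorem dl_tits (h : IsoTits S) (hp : p.Prime) (h3 : 3 ≤ p) : DlLe p 2 S := by
  obtain ⟨e⟩ := h
  refine dl_2F4 (F := ZMod 2) (e := 1) ((commutator (twistedF4 (ZMod 2) 1)).subtype.comp e.toMonoidHom)
    ((commutator (twistedF4 (ZMod 2) 1)).subtype_injective.comp e.injective) hp h3 fun h0 => ?_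
  rw [ZMod.card] at h0
  have := (Nat.prime_dvd_prime_iff_eq hp Nat.prime_two).1 h0
  omega

end rows

end Cfsg.Agent.H158.DlRows
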