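import Mathlib

/-!
# The numbers: largest orders of abelian subgroups of symmetric and alternating groups

`S n` and `M n` are the largest orders of abelian subgroups of the symmetric, alternating group of
degree `n`; here are the inequalities needed for the recursion.
-/

set_option autoImplicit false

namespace Cfsg.Agent.H158.AbelArith

/-- Largest order of an abelian subgroup of the symmetric group of degree `n`. -/
def S : ℕ → ℕ
  | 0 => 1
  | 1 => 1
  | 2 => 2
  | 3 => 3
  | 4 => 4
  | (n + 5) => 3 * S (n + 2)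

/-- Largest order of an abelian subgroup of the alternating group of degree `n`. -/
def M : ℕ → ℕ
  | 0 => 1
  | 1 => 1
  | 2 => 1
  | 3 => 3
  | 4 => 4
  | 5 => 5
  | 6 => 9
  | 7 => 12
  | 8 => 16
  | (n + 9) => 3 * M (n + 6)

theorem S_add {n : ℕ} (h : 2 ≤ n) : S (n + 3) = 3 * S n := by
  obtain ⟨k, rfl⟩ : ∃ k, n = k + 2 := ⟨n - 2, by omega⟩
  rfl

theorem M_add {n : ℕ} (h : 6 ≤ n) : M (n + 3) = 3 * M n := by
  obtain ⟨k, rfl⟩ : ∃ k, n = k + 6 := ⟨n - 6, by omega⟩
  rfl

/-- Induction with step three. -/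
theorem three_ind {P : ℕ → Prop} (N : ℕ) (base : ∀ n < N + 3, P n)
    (step : ∀ n, N ≤ n → P n → P (n + 3)) : ∀ n, P n := by
  intro n
  induction n using Nat.strong_induction_on with
  | _ n ih =>
    by_cases h : n < N + 3
    · exact base n h
    · obtain ⟨k, rfl⟩ : ∃ k, n = k + 3 := ⟨n - 3, by omega⟩
      exact step k (by omega) (ih k (by omega))

theorem S_pos : ∀ n, 0 < S n := by
  refine three_ind (P := fun n => 0 < S n) 2 ?_ ?_
  · decide
  · intro n hn h
    rw [S_add hn]
    omega

theorem M_pos : ∀ n, 0 < M n := by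
  refine three_ind (P := fun n => 0 < M n) 6 ?_ ?_
  · decide
  · intro n hn h
    rw [M_add hn]
    omega

theorem mul_S_le : ∀ b a : ℕ, 1 ≤ a → a * S b ≤ S (a + b) := by
  refine three_ind (P := fun b => ∀ a : ℕ, 1 ≤ a → a * S b ≤ S (a + b)) 2 ?_ ?_
  · intro b hb
    refine three_ind (P := fun a => 1 ≤ a → a * S b ≤ S (a + b)) 3 ?_ ?_
    · revert b
      decide
    · intro a ha ih _
      have h1 : a + 3 + b = (a + b) + 3 := by ring
      have h2 := ih (by omega)
      rw [h1, S_add (by omega)]
      have h3 : 3 * (a * S b) ≤ 3 * S (a + b) := by omega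
      have h4 : (a + 3) * S b ≤ 3 * (a * S b) := by
        have : a + 3 ≤ 3 * a := by omega
        calc (a + 3) * S b ≤ (3 * a) * S b := Nat.mul_le_mul_right _ this
          _ = 3 * (a * S b) := by ring
      omega
  · intro b hb ih a ha
    have h1 : a + (b + 3) = (a + b) + 3 := by ring
    rw [h1, S_add hb, S_add (by omega)]
    have := ih a ha
    calc a * (3 * S b) = 3 * (a * S b) := by ring
      _ ≤ _ := Nat.mul_le_mul_left _ this

theorem mul_M_le : ∀ b a : ℕ, 1 ≤ a → a ≠ 2 → a * M b ≤ M (a + b) := by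
  refine three_ind (P := fun b => ∀ a : ℕ, 1 ≤ a → a ≠ 2 → a * M b ≤ M (a + b)) 6 ?_ ?_
  · intro b hb
    refine three_ind (P := fun a => 1 ≤ a → a ≠ 2 → a * M b ≤ M (a + b)) 6 ?_ ?_
    · revert b
      decide
    · intro a ha ih _ _
      have h1 : a + 3 + b = (a + b) + 3 := by ring
      have h2 := ih (by omega) (by omega)
      rw [h1, M_add (by omega)]
      have h4 : (a + 3) * M b ≤ 3 * (a * M b) := by
        have : a + 3 ≤ 3 * a := by omega
        calc (a + 3) * M b ≤ (3 * a) * M b := Nat.mul_le_mul_right _ this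
          _ = 3 * (a * M b) := by ring
      omega
  · intro b hb ih a ha ha2
    have h1 : a + (b + 3) = (a + b) + 3 := by ring
    rw [h1, M_add hb, M_add (by omega)]
    have := ih a ha ha2
    calc a * (3 * M b) = 3 * (a * M b) := by ring
      _ ≤ _ := Nat.mul_le_mul_left _ this

/-- Orbits of size at least five are not optimal. -/
theorem mul_M_lt : ∀ b a : ℕ, 5 ≤ a → 6 ≤ a + b → a * M b < M (a + b) := by
  refine three_ind (P := fun b => ∀ a : ℕ, 5 ≤ a → 6 ≤ a + b → a * M b < M (a + b)) 6 ?_ ?_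
  · intro b hb
    refine three_ind (P := fun a => 5 ≤ a → 6 ≤ a + b → a * M b < M (a + b)) 5 ?_ ?_
    · revert b
      decide
    · intro a ha ih _ _
      have h1 : a + 3 + b = (a + b) + 3 := by ring
      by_cases hab : 6 ≤ a + b
      · have h2 := ih (by omega) hab
        rw [h1, M_add (by omega)]
        have h4 : (a + 3) * M b ≤ 3 * (a * M b) := by
          have : a + 3 ≤ 3 * a := by omega
          calc (a + 3) * M b ≤ (3 * a) * M b := Nat.mul_le_mul_right _ this
            _ = 3 * (a * M b) := by ring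
        omega
      · obtain rfl : a = 5 := by omega
        obtain rfl : b = 0 := by omega
        decide
  · intro b hb ih a ha hab
    have h1 : a + (b + 3) = (a + b) + 3 := by ring
    rw [h1, M_add hb, M_add (by omega)]
    have := ih a ha (by omega)
    calc a * (3 * M b) = 3 * (a * M b) := by ring
      _ < _ := Nat.mul_lt_mul_of_pos_left this (by omega)

theorem M_lt_succ : ∀ n, 2 ≤ n → M n < M (n + 1) := by
  refine three_ind (P := fun n => 2 ≤ n → M n < M (n + 1)) 6 ?_ ?_
  · decide
  · intro n hn ih _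
    have h1 : n + 3 + 1 = (n + 1) + 3 := by ring
    have := ih (by omega)
    rw [h1, M_add hn, M_add (by omega)]
    omega

theorem S_lt_M_two : ∀ n, 1 ≤ n → S n < M (n + 2) := by
  refine three_ind (P := fun n => 1 ≤ n → S n < M (n + 2)) 6 ?_ ?_
  · decide
  · intro n hn ih _
    have h1 : n + 3 + 2 = (n + 2) + 3 := by ring
    have := ih (by omega)
    rw [h1, M_add (by omega), S_add (by omega)]
    omega

theorem two_S_lt_M : ∀ n, 2 * S n < M (n + 3) := by
  refine three_ind (P := fun n => 2 * S n < M (n + 3)) 6 ?_ ?_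
  · decide
  · intro n hn ih
    rw [M_add (n := n + 3) (by omega), S_add (by omega)]
    omega

theorem three_S_lt_M : ∀ n, 3 * S n < M (n + 4) := by
  refine three_ind (P := fun n => 3 * S n < M (n + 4)) 6 ?_ ?_
  · decide
  · intro n hn ih
    have h1 : n + 3 + 4 = (n + 4) + 3 := by ring
    rw [h1, M_add (by omega), S_add (by omega)]
    omega

theorem four_M_lt : ∀ n, 2 ≤ n → (n + 4) % 3 = 0 → 4 * M n < M (n + 4) := by
  refine three_ind (P := fun n => 2 ≤ n → (n + 4) % 3 = 0 → 4 * M n < M (n + 4)) 6 ?_ ?_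
  · decide
  · intro n hn ih _ hm
    have h1 : n + 3 + 4 = (n + 4) + 3 := by ring
    have := ih (by omega) (by omega)
    rw [h1, M_add (by omega), M_add (by omega)]
    omega

theorem four_M_eq : ∀ n, n ≠ 1 → (n + 4) % 3 ≠ 0 → 4 * M n = M (n + 4) := by
  refine three_ind (P := fun n => n ≠ 1 → (n + 4) % 3 ≠ 0 → 4 * M n = M (n + 4)) 6 ?_ ?_
  · decide
  · intro n hn ih _ hm
    have h1 : n + 3 + 4 = (n + 4) + 3 := by ring
    have := ih (by omega) (by omega)
    rw [h1, M_add (by omega), M_add (by omega)]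
    omega

theorem three_M_eq : ∀ n, n % 3 = 0 → 3 * M n = M (n + 3) := by
  refine three_ind (P := fun n => n % 3 = 0 → 3 * M n = M (n + 3)) 6 ?_ ?_
  · decide
  · intro n hn ih _
    rw [M_add (n := n + 3) (by omega), M_add (n := n) (by omega)]

theorem S_three (k : ℕ) : S (3 * k) = 3 ^ k := by
  induction k with
  | zero => rfl
  | succ k ih =>
    by_cases h : k = 0
    · subst h; rfl
    · rw [show 3 * (k + 1) = 3 * k + 3 by ring, S_add (by omega), ih]
      ring

theorem S_three_one (k : ℕ) : S (3 * (k + 1) + 1) = 4 * 3 ^ k := by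
  induction k with
  | zero => rfl
  | succ k ih =>
    rw [show 3 * (k + 1 + 1) + 1 = (3 * (k + 1) + 1) + 3 by ring, S_add (by omega), ih]
    ring

theorem S_three_two (k : ℕ) : S (3 * k + 2) = 2 * 3 ^ k := by
  induction k with
  | zero => rfl
  | succ k ih =>
    rw [show 3 * (k + 1) + 2 = (3 * k + 2) + 3 by ring, S_add (by omega), ih]
    ring

theorem M_three (k : ℕ) : M (3 * k) = 3 ^ k := by
  induction k with
  | zero => rfl
  | succ k ih =>
    rw [show 3 * (k + 1) = 3 * k + 3 by ring, ← three_M_eq _ (by omega), ih]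
    ring

theorem M_three_one (k : ℕ) : M (3 * (k + 1) + 1) = 4 * 3 ^ k := by
  rw [show 3 * (k + 1) + 1 = 3 * k + 4 by ring, ← four_M_eq _ (by omega) (by omega), M_three]

theorem M_three_two (k : ℕ) : M (3 * (k + 2) + 2) = 16 * 3 ^ k := by
  rw [show 3 * (k + 2) + 2 = (3 * k + 4) + 4 by ring, ← four_M_eq _ (by omega) (by omega),
    ← four_M_eq _ (by omega) (by omega), M_three]
  ring

end Cfsg.Agent.H158.AbelArith
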