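import Mathlib
import Cfsg.Agent.H158.AbelArith

/-!
# Abelian permutation groups: peeling off an orbit

`A` an abelian subgroup of `Perm α` moving only points of `T`, `x ∈ T`, `Δ` the orbit of `x`:
`K = A ∩ Stab x` moves only points of `T \ Δ`, and `|A| = |Δ| |K|`; `N = A ∩ Sym Δ` has order at
most `|Δ|`, and `|A| = |N| |A'|` where `A'` is the group induced by `A` on `T \ Δ`.
-/

set_option autoImplicit false
set_option linter.unusedSectionVars false

namespace Cfsg.Agent.H158.AbelPerm

open Equiv

variable {α : Type*} [DecidableEq α] [Fintype α]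

theorem inv_app (g : Perm α) (x : α) : g⁻¹ (g x) = x := g.symm_apply_apply x

theorem app_inv (g : Perm α) (x : α) : g (g⁻¹ x) = x := g.apply_symm_apply x

/-- The permutations fixing all points outside `T`. -/
def fixOut (T : Finset α) : Subgroup (Perm α) where
  carrier := {g | ∀ x, x ∉ T → g x = x}
  one_mem' := fun _ _ => rfl
  mul_mem' := fun {g h} hg hh x hx => by
    rw [Perm.mul_apply, hh x hx, hg x hx]
  inv_mem' := fun {g} hg x hx => by
    rw [Perm.inv_eq_iff_eq, hg x hx]

theorem mem_fixOut {T : Finset α} {g : Perm α} : g ∈ fixOut T ↔ ∀ x, x ∉ T → g x = x := Iff.rfl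

theorem fixOut_mono {T U : Finset α} (h : T ⊆ U) : fixOut T ≤ fixOut U :=
  fun _ hg x hx => hg x fun h1 => hx (h h1)

theorem apply_mem_of_fixOut {T : Finset α} {g : Perm α} (hg : g ∈ fixOut T) {x : α} (hx : x ∈ T) :
    g x ∈ T := by
  by_contra h
  have h1 := hg (g x) h
  exact h (by rw [g.injective h1]; exact hx)

/-- Permutations with disjoint supports commute. -/
theorem comm_of_disjoint {T U : Finset α} (h : Disjoint T U) {g k : Perm α} (hg : g ∈ fixOut T)
    (hk : k ∈ fixOut U) : g * k = k * g := by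
  ext x
  rw [Perm.mul_apply, Perm.mul_apply]
  by_cases hx : x ∈ T
  · have h1 : x ∉ U := Finset.disjoint_left.1 h hx
    have h2 : g x ∉ U := Finset.disjoint_left.1 h (apply_mem_of_fixOut hg hx)
    rw [hk x h1, hk _ h2]
  · rw [hg x hx]
    by_cases hx2 : x ∈ U
    · rw [hg _ (Finset.disjoint_right.1 h (apply_mem_of_fixOut hk hx2))]
    · rw [hk x hx2, hg x hx]

theorem eq_one_of_disjoint {T U : Finset α} (h : Disjoint T U) {g : Perm α} (hg : g ∈ fixOut T)
    (hk : g ∈ fixOut U) : g = 1 := by
  ext x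
  by_cases hx : x ∈ T
  · rw [hk x (Finset.disjoint_left.1 h hx), Perm.one_apply]
  · rw [hg x hx, Perm.one_apply]

/-- The orbit of `x`. -/
noncomputable def orb (A : Subgroup (Perm α)) (x : α) : Finset α := by
  classical
  exact Finset.univ.filter fun y => ∃ g ∈ A, g x = y

theorem mem_orb {A : Subgroup (Perm α)} {x y : α} : y ∈ orb A x ↔ ∃ g ∈ A, g x = y := by
  classical
  simp [orb]

theorem self_mem_orb (A : Subgroup (Perm α)) (x : α) : x ∈ orb A x := mem_orb.2 ⟨1, A.one_mem, rfl⟩

theorem orb_apply {A : Subgroup (Perm α)} {x y : α} {g : Perm α} (hg : g ∈ A) :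
    g y ∈ orb A x ↔ y ∈ orb A x := by
  constructor
  · intro h
    obtain ⟨k, hk, hky⟩ := mem_orb.1 h
    refine mem_orb.2 ⟨g⁻¹ * k, A.mul_mem (A.inv_mem hg) hk, ?_⟩
    rw [Perm.mul_apply, hky, inv_app]
  · intro h
    obtain ⟨k, hk, rfl⟩ := mem_orb.1 h
    exact mem_orb.2 ⟨g * k, A.mul_mem hg hk, rfl⟩

theorem orb_subset {A : Subgroup (Perm α)} {T : Finset α} (hA : A ≤ fixOut T) {x : α} (hx : x ∈ T) :
    orb A x ⊆ T := by
  intro y hy
  obtain ⟨k, hk, rfl⟩ := mem_orb.1 hy
  exact apply_mem_of_fixOut (hA hk) hx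

theorem orb_eq {A : Subgroup (Perm α)} {x y : α} (h : y ∈ orb A x) : orb A y = orb A x := by
  obtain ⟨k, hk, rfl⟩ := mem_orb.1 h
  ext z
  constructor
  · intro hz
    obtain ⟨l, hl, rfl⟩ := mem_orb.1 hz
    exact mem_orb.2 ⟨l * k, A.mul_mem hl hk, rfl⟩
  · intro hz
    obtain ⟨l, hl, rfl⟩ := mem_orb.1 hz
    refine mem_orb.2 ⟨l * k⁻¹, A.mul_mem hl (A.inv_mem hk), ?_⟩
    rw [Perm.mul_apply, inv_app]

/-- The stabilizer of `x` in `A`. -/
def stab (A : Subgroup (Perm α)) (x : α) : Subgroup (Perm α) where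
  carrier := {g | g ∈ A ∧ g x = x}
  one_mem' := ⟨A.one_mem, rfl⟩
  mul_mem' := fun {g h} hg hh => ⟨A.mul_mem hg.1 hh.1, by rw [Perm.mul_apply, hh.2, hg.2]⟩
  inv_mem' := fun {g} hg => ⟨A.inv_mem hg.1, by rw [Perm.inv_eq_iff_eq, hg.2]⟩

theorem mem_stab {A : Subgroup (Perm α)} {x : α} {g : Perm α} : g ∈ stab A x ↔ g ∈ A ∧ g x = x :=
  Iff.rfl

theorem stab_le (A : Subgroup (Perm α)) (x : α) : stab A x ≤ A := fun _ h => h.1

theorem card_eq_orb (A : Subgroup (Perm α)) (x : α) :
    Nat.card A = (orb A x).card * Nat.card (stab A x) := by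
  classical
  have h1 := MulAction.card_orbit_mul_card_stabilizer_eq_card_group A x
  rw [← Nat.card_eq_fintype_card, ← Nat.card_eq_fintype_card, ← Nat.card_eq_fintype_card] at h1
  rw [← h1]
  congr 1
  · rw [← Nat.card_eq_fintype_card (α := ↥(orb A x)) |>.trans (Fintype.card_coe _)]
    apply Nat.card_congr
    refine Equiv.subtypeEquivRight fun y => ?_
    rw [mem_orb]
    constructor
    · rintro ⟨g, rfl⟩
      exact ⟨g.1, g.2, rfl⟩
    · rintro ⟨g, hg, rfl⟩
      exact ⟨⟨g, hg⟩, rfl⟩
  · apply Nat.card_congr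
    refine ⟨fun g => ⟨g.1.1, g.1.2, g.2⟩, fun g => ⟨⟨g.1, g.2.1⟩, g.2.2⟩, fun g => rfl, fun g => rfl⟩

section comm

variable {A : Subgroup (Perm α)} (hc : ∀ g ∈ A, ∀ h ∈ A, g * h = h * g)

include hc

/-- An element of the abelian group `A` fixing `x` fixes the orbit of `x` pointwise. -/
theorem fix_orb {x : α} {g : Perm α} (hg : g ∈ A) (hx : g x = x) {y : α} (hy : y ∈ orb A x) :
    g y = y := by
  obtain ⟨k, hk, rfl⟩ := mem_orb.1 hy
  rw [← Perm.mul_apply, hc g hg k hk, Perm.mul_apply, hx]

theorem stab_le_fixOut {T : Finset α} (hA : A ≤ fixOut T) (x : α) :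
    stab A x ≤ fixOut (T \ orb A x) := by
  intro g hg y hy
  by_cases h : y ∈ T
  · have h1 : y ∈ orb A x := by
      by_contra h2
      exact hy (Finset.mem_sdiff.2 ⟨h, h2⟩)
    exact fix_orb hc hg.1 hg.2 h1
  · exact hA hg.1 y h

/-- The order of `A ∩ Sym Δ` is at most `|Δ|`. -/
theorem card_inf_le (x : α) : Nat.card (A ⊓ fixOut (orb A x) : Subgroup (Perm α)) ≤ (orb A x).card := by
  classical
  rw [← Nat.card_eq_fintype_card (α := ↥(orb A x)) |>.trans (Fintype.card_coe _)]
  let f : (A ⊓ fixOut (orb A x) : Subgroup (Perm α)) → ↥(orb A x) := fun g =>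
    ⟨g.1 x, (orb_apply g.2.1).2 (self_mem_orb A x)⟩
  apply Nat.card_le_card_of_injective f
  rintro ⟨g, hg⟩ ⟨k, hk⟩ h
  have h1 : g x = k x := congrArg Subtype.val h
  have h2 : (k⁻¹ * g) x = x := by rw [Perm.mul_apply, h1, inv_app]
  have h3 : k⁻¹ * g ∈ A := A.mul_mem (A.inv_mem hk.1) hg.1
  have h4 : k⁻¹ * g = 1 := by
    ext y
    rw [Perm.one_apply]
    by_cases hy : y ∈ orb A x
    · exact fix_orb hc h3 h2 hy
    · exact (fixOut (orb A x)).mul_mem ((fixOut _).inv_mem hk.2) hg.2 y hy
  apply Subtype.ext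
  exact (inv_mul_eq_one.1 h4).symm

end comm

/-- The restriction of the elements of `A` to the complement of the orbit of `x`. -/
noncomputable def res (A : Subgroup (Perm α)) (x : α) : A →* Perm α where
  toFun g :=
    { toFun := fun y => if y ∈ orb A x then y else g.1 y
      invFun := fun y => if y ∈ orb A x then y else g.1⁻¹ y
      left_inv := fun y => by
        by_cases h : y ∈ orb A x
        · simp [h]
        · have h1 : g.1 y ∉ orb A x := fun h2 => h ((orb_apply g.2).1 h2)
          simp [h, h1]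
      right_inv := fun y => by
        by_cases h : y ∈ orb A x
        · simp [h]
        · have h1 : g.1⁻¹ y ∉ orb A x := fun h2 => h ((orb_apply (A.inv_mem g.2)).1 h2)
          dsimp only
          rw [if_neg h, if_neg h1, app_inv] }
  map_one' := by
    ext y
    simp
  map_mul' g k := by
    ext y
    show (if y ∈ orb A x then y else (g * k).1 y) =
      (if (if y ∈ orb A x then y else k.1 y) ∈ orb A x then (if y ∈ orb A x then y else k.1 y)
        else g.1 (if y ∈ orb A x then y else k.1 y))
    by_cases h : y ∈ orb A x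
    · simp [h]
    · have h1 : k.1 y ∉ orb A x := fun h2 => h ((orb_apply k.2).1 h2)
      simp [h, h1]

theorem res_apply_of_mem {A : Subgroup (Perm α)} {x y : α} (g : A) (h : y ∈ orb A x) :
    res A x g y = y := by
  show (if y ∈ orb A x then y else g.1 y) = y
  rw [if_pos h]

theorem res_apply_of_notMem {A : Subgroup (Perm α)} {x y : α} (g : A) (h : y ∉ orb A x) :
    res A x g y = g.1 y := by
  show (if y ∈ orb A x then y else g.1 y) = g.1 y
  rw [if_neg h]

/-- `|A| = |N| |A'|`. -/
theorem card_eq_res (A : Subgroup (Perm α)) (x : α) :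
    Nat.card A = Nat.card (A ⊓ fixOut (orb A x) : Subgroup (Perm α)) * Nat.card (res A x).range := by
  have h1 := Subgroup.card_mul_index (res A x).ker
  rw [Subgroup.index_ker] at h1
  rw [← h1]
  congr 1
  apply Nat.card_congr
  refine ⟨fun g => ⟨g.1.1, g.1.2, ?_⟩, fun g => ⟨⟨g.1, g.2.1⟩, ?_⟩, fun g => rfl, fun g => rfl⟩
  · intro y hy
    have h2 : res A x g.1 = 1 := g.2
    rw [← res_apply_of_notMem g.1 hy, h2, Perm.one_apply]
  · rw [MonoidHom.mem_ker]
    ext y
    rw [Perm.one_apply]
    by_cases hy : y ∈ orb A x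
    · exact res_apply_of_mem _ hy
    · rw [res_apply_of_notMem _ hy]
      exact g.2.2 y hy

theorem res_range_le {A : Subgroup (Perm α)} {T : Finset α} (hA : A ≤ fixOut T) (x : α) :
    (res A x).range ≤ fixOut (T \ orb A x) := by
  rintro _ ⟨g, rfl⟩ y hy
  by_cases h : y ∈ orb A x
  · exact res_apply_of_mem g h
  · rw [res_apply_of_notMem g h]
    exact hA g.2 y fun h1 => hy (Finset.mem_sdiff.2 ⟨h1, h⟩)

theorem res_range_comm {A : Subgroup (Perm α)} (hc : ∀ g ∈ A, ∀ h ∈ A, g * h = h * g) (x : α) :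
    ∀ g ∈ (res A x).range, ∀ h ∈ (res A x).range, g * h = h * g := by
  rintro _ ⟨g, rfl⟩ _ ⟨k, rfl⟩
  rw [← map_mul, ← map_mul]
  congr 1
  exact Subtype.ext (hc _ g.2 _ k.2)

/-- **Largest order in the symmetric group.** -/
theorem card_le_S : ∀ (n : ℕ) (T : Finset α), T.card = n → ∀ A : Subgroup (Perm α), A ≤ fixOut T →
    (∀ g ∈ A, ∀ h ∈ A, g * h = h * g) → Nat.card A ≤ AbelArith.S n := by
  intro n
  induction n using Nat.strong_induction_on with
  | _ n ih =>
    intro T hT A hA hc
    rcases Finset.eq_empty_or_nonempty T with h | ⟨x, hx⟩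
    · subst h
      have h1 : A = ⊥ := by
        rw [eq_bot_iff]
        intro g hg
        rw [Subgroup.mem_bot]
        ext y
        rw [hA hg y (Finset.notMem_empty y), Perm.one_apply]
      rw [h1, Subgroup.card_bot]
      exact AbelArith.S_pos n
    · have hs := orb_subset hA hx
      have h1 : 1 ≤ (orb A x).card := Finset.card_pos.2 ⟨x, self_mem_orb A x⟩
      have h2 : (T \ orb A x).card = n - (orb A x).card := by
        rw [Finset.card_sdiff_of_subset hs, hT]
      have h3 : (orb A x).card ≤ n := by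
        rw [← hT]
        exact Finset.card_le_card hs
      rw [card_eq_orb A x]
      have h4 := ih (n - (orb A x).card) (by omega) (T \ orb A x) h2 (stab A x)
        (stab_le_fixOut hc hA x) (fun g hg h hh => hc g hg.1 h hh.1)
      calc (orb A x).card * Nat.card (stab A x)
          ≤ (orb A x).card * AbelArith.S (n - (orb A x).card) := Nat.mul_le_mul_left _ h4
        _ ≤ AbelArith.S ((orb A x).card + (n - (orb A x).card)) := AbelArith.mul_S_le _ _ h1
        _ = AbelArith.S n := by rw [Nat.add_sub_cancel' h3]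

/-! ### Even groups -/

theorem inf_eq_bot_of_two {A : Subgroup (Perm α)} (hev : A ≤ alternatingGroup α) {Δ : Finset α}
    (h2 : Δ.card = 2) : (A ⊓ fixOut Δ : Subgroup (Perm α)) = ⊥ := by
  rw [eq_bot_iff]
  intro g hg
  rw [Subgroup.mem_bot]
  obtain ⟨x, y, hxy, rfl⟩ := Finset.card_eq_two.1 h2
  have hf : g ∈ fixOut {x, y} := hg.2
  have hx : g x ∈ ({x, y} : Finset α) := apply_mem_of_fixOut hf (by simp)
  have hy : g y ∈ ({x, y} : Finset α) := apply_mem_of_fixOut hf (by simp)
  rw [Finset.mem_insert, Finset.mem_singleton] at hx hy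
  rcases hx with hx | hx
  · have hy' : g y = y := by
      rcases hy with hy | hy
      · exact absurd (g.injective (hy.trans hx.symm)) hxy.symm
      · exact hy
    ext z
    rw [Perm.one_apply]
    by_cases hz : z ∈ ({x, y} : Finset α)
    · rw [Finset.mem_insert, Finset.mem_singleton] at hz
      rcases hz with rfl | rfl
      · exact hx
      · exact hy'
    · exact hf z hz
  · have hy' : g y = x := by
      rcases hy with hy | hy
      · exact hy
      · exact absurd (g.injective (hx.trans hy.symm)) hxy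
    exfalso
    have hg1 : g = swap x y := by
      ext z
      by_cases hz : z ∈ ({x, y} : Finset α)
      · rw [Finset.mem_insert, Finset.mem_singleton] at hz
        rcases hz with rfl | rfl
        · rw [hx, swap_apply_left]
        · rw [hy', swap_apply_right]
      · rw [hf z hz]
        rw [Finset.mem_insert, Finset.mem_singleton, not_or] at hz
        rw [swap_apply_of_ne_of_ne hz.1 hz.2]
    have h3 : Perm.sign g = 1 := hev hg.1
    rw [hg1, Perm.sign_swap hxy] at h3
    exact absurd h3 (by decide)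

/-- **Largest order in the alternating group.** -/
theorem card_le_M : ∀ (n : ℕ) (T : Finset α), T.card = n → ∀ A : Subgroup (Perm α), A ≤ fixOut T →
    (∀ g ∈ A, ∀ h ∈ A, g * h = h * g) → A ≤ alternatingGroup α → Nat.card A ≤ AbelArith.M n := by
  intro n
  induction n using Nat.strong_induction_on with
  | _ n ih =>
    intro T hT A hA hc hev
    rcases Finset.eq_empty_or_nonempty T with h | ⟨x, hx⟩
    · subst h
      have h1 : A = ⊥ := by
        rw [eq_bot_iff]
        intro g hg
        rw [Subgroup.mem_bot]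
        ext y
        rw [hA hg y (Finset.notMem_empty y), Perm.one_apply]
      rw [h1, Subgroup.card_bot]
      exact AbelArith.M_pos n
    · have hs := orb_subset hA hx
      have h1 : 1 ≤ (orb A x).card := Finset.card_pos.2 ⟨x, self_mem_orb A x⟩
      have h2 : (T \ orb A x).card = n - (orb A x).card := by
        rw [Finset.card_sdiff_of_subset hs, hT]
      have h3 : (orb A x).card ≤ n := by
        rw [← hT]
        exact Finset.card_le_card hs
      by_cases hd : (orb A x).card = 2
      · rw [card_eq_res A x, inf_eq_bot_of_two hev hd, Subgroup.card_bot, one_mul]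
        refine (card_le_S _ _ h2 _ (res_range_le hA x) (res_range_comm hc x)).trans ?_
        rw [hd] at h3 ⊢
        obtain ⟨m, rfl⟩ : ∃ m, n = m + 2 := ⟨n - 2, by omega⟩
        rw [Nat.add_sub_cancel]
        rcases Nat.eq_zero_or_pos m with rfl | hm
        · decide
        · exact (AbelArith.S_lt_M_two m hm).le
      · rw [card_eq_orb A x]
        have h4 := ih (n - (orb A x).card) (by omega) (T \ orb A x) h2 (stab A x)
          (stab_le_fixOut hc hA x) (fun g hg h hh => hc g hg.1 h hh.1) ((stab_le A x).trans hev)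
        calc (orb A x).card * Nat.card (stab A x)
            ≤ (orb A x).card * AbelArith.M (n - (orb A x).card) := Nat.mul_le_mul_left _ h4
          _ ≤ AbelArith.M ((orb A x).card + (n - (orb A x).card)) := AbelArith.mul_M_le _ _ h1 hd
          _ = AbelArith.M n := by rw [Nat.add_sub_cancel' h3]

end Cfsg.Agent.H158.AbelPerm
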