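import Mathlib
import Cfsg.Agent.H158.AbelPerm

/-!
# The regular even abelian groups of degree three and four
-/

set_option autoImplicit false
set_option linter.unusedSectionVars false

namespace Cfsg.Agent.H158.AbelW

open Equiv Cfsg.Agent.H158.AbelPerm

theorem fin3_mul : ∀ g h : Perm (Fin 3), Perm.sign g = 1 → g ^ 3 = 1 → Perm.sign h = 1 → h ^ 3 = 1 →
    (g * h) ^ 3 = 1 ∧ g * h = h * g := by decide +kernel

theorem fin3_card : (Finset.univ.filter fun g : Perm (Fin 3) => Perm.sign g = 1 ∧ g ^ 3 = 1).card = 3 := by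
  decide +kernel

theorem fin4_mul : ∀ g h : Perm (Fin 4), Perm.sign g = 1 → g ^ 4 = 1 → Perm.sign h = 1 → h ^ 4 = 1 →
    (g * h) ^ 4 = 1 ∧ g * h = h * g := by decide +kernel

theorem fin4_card : (Finset.univ.filter fun g : Perm (Fin 4) => Perm.sign g = 1 ∧ g ^ 4 = 1).card = 4 := by
  decide +kernel

theorem exists_W0 {a : ℕ} (ha : a = 3 ∨ a = 4) : ∃ W : Subgroup (Perm (Fin a)),
    (∀ g, g ∈ W ↔ Perm.sign g = 1 ∧ g ^ a = 1) ∧ (∀ g ∈ W, ∀ h ∈ W, g * h = h * g) ∧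
      Nat.card W = a := by
  have key : (∀ g h : Perm (Fin a), Perm.sign g = 1 → g ^ a = 1 → Perm.sign h = 1 → h ^ a = 1 →
    (g * h) ^ a = 1 ∧ g * h = h * g) ∧
    (Finset.univ.filter fun g : Perm (Fin a) => Perm.sign g = 1 ∧ g ^ a = 1).card = a := by
    rcases ha with rfl | rfl
    · exact ⟨fin3_mul, fin3_card⟩
    · exact ⟨fin4_mul, fin4_card⟩
  let W : Subgroup (Perm (Fin a)) :=
    { carrier := {g | Perm.sign g = 1 ∧ g ^ a = 1}
      one_mem' := ⟨Perm.sign_one, one_pow _⟩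
      mul_mem' := fun {g h} hg hh => ⟨by rw [Perm.sign_mul, hg.1, hh.1, one_mul],
        (key.1 g h hg.1 hg.2 hh.1 hh.2).1⟩
      inv_mem' := fun {g} hg => ⟨by rw [Perm.sign_inv, hg.1], by rw [inv_pow, hg.2, inv_one]⟩ }
  refine ⟨W, fun g => Iff.rfl, fun g hg h hh => (key.1 g h hg.1 hg.2 hh.1 hh.2).2, ?_⟩
  refine Eq.trans ?_ key.2
  show Nat.card {g : Perm (Fin a) // Perm.sign g = 1 ∧ g ^ a = 1} = _
  rw [Nat.card_eq_fintype_card, Fintype.card_subtype]

variable {α : Type*} [DecidableEq α] [Fintype α]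

/-- The embedding of `Perm (Fin a)` with image the permutations supported in `Δ`. -/
theorem exists_hom (Δ : Finset α) {a : ℕ} (ha : Δ.card = a) :
    ∃ j : Perm (Fin a) →* Perm α, Function.Injective j ∧ (∀ g, Perm.sign (j g) = Perm.sign g) ∧
      ∀ k : Perm α, k ∈ fixOut Δ ↔ ∃ g, j g = k := by
  classical
  let f : Fin a ≃ {x // x ∈ Δ} := (Δ.equivFinOfCardEq ha).symm
  refine ⟨Perm.extendDomainHom f, Perm.extendDomainHom_injective f,
    fun g => Perm.sign_extendDomain g f, ?_⟩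
  intro k
  constructor
  · intro hk
    have h1 : ∀ x, k x ∈ Δ ↔ x ∈ Δ := by
      intro x
      constructor
      · intro h
        by_contra h2
        rw [hk x h2] at h
        exact h2 h
      · exact fun h => apply_mem_of_fixOut hk h
    refine ⟨f.permCongr.symm (k.subtypePerm h1), ?_⟩
    ext y
    show Perm.extendDomain _ f y = k y
    by_cases hy : y ∈ Δ
    · rw [Perm.extendDomain_apply_subtype _ _ hy]
      simp
    · rw [Perm.extendDomain_apply_not_subtype _ _ hy, hk y hy]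
  · rintro ⟨g, rfl⟩ y hy
    exact Perm.extendDomain_apply_not_subtype _ _ hy

/-- The group `W(Δ)` of order `|Δ|`, for `|Δ| = 3, 4`. -/
theorem exists_W {Δ : Finset α} (h : Δ.card = 3 ∨ Δ.card = 4) : ∃ W : Subgroup (Perm α),
    (∀ g, g ∈ W ↔ g ∈ fixOut Δ ∧ Perm.sign g = 1 ∧ g ^ Δ.card = 1) ∧
      (∀ g ∈ W, ∀ h ∈ W, g * h = h * g) ∧ Nat.card W = Δ.card := by
  obtain ⟨W, hW, hc, hcard⟩ := exists_W0 h
  obtain ⟨j, hj, hs, hr⟩ := exists_hom Δ rfl
  refine ⟨W.map j, ?_, ?_, ?_⟩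
  · intro g
    rw [Subgroup.mem_map]
    constructor
    · rintro ⟨x, hx, rfl⟩
      rw [hW] at hx
      refine ⟨(hr _).2 ⟨x, rfl⟩, by rw [hs, hx.1], by rw [← map_pow, hx.2, map_one]⟩
    · rintro ⟨h1, h2, h3⟩
      obtain ⟨x, rfl⟩ := (hr g).1 h1
      refine ⟨x, (hW x).2 ⟨by rw [← hs, h2], ?_⟩, rfl⟩
      apply hj
      rw [map_pow, h3, map_one]
  · rintro _ ⟨x, hx, rfl⟩ _ ⟨y, hy, rfl⟩
    rw [← map_mul, hc x hx y hy, map_mul]
  · exact (Nat.card_congr (W.equivMapOfInjective j hj).toEquiv).symm.trans hcard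

/-- `A ∩ Sym Δ` is `W(Δ)` if it has order `|Δ| = 3, 4`. -/
theorem mem_inf_iff {A : Subgroup (Perm α)} (hev : A ≤ alternatingGroup α) {Δ : Finset α}
    (h : Δ.card = 3 ∨ Δ.card = 4)
    (hN : Nat.card (A ⊓ fixOut Δ : Subgroup (Perm α)) = Δ.card) (g : Perm α) :
    (g ∈ A ∧ g ∈ fixOut Δ) ↔ (g ∈ fixOut Δ ∧ Perm.sign g = 1 ∧ g ^ Δ.card = 1) := by
  obtain ⟨W, hW, -, hcard⟩ := exists_W h
  have hle : (A ⊓ fixOut Δ : Subgroup (Perm α)) ≤ W := by
    intro k hk
    rw [hW]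
    refine ⟨hk.2, hev hk.1, ?_⟩
    have h1 : (⟨k, hk⟩ : (A ⊓ fixOut Δ : Subgroup (Perm α))) ^ Nat.card (A ⊓ fixOut Δ : Subgroup (Perm α)) = 1 :=
      pow_card_eq_one'
    rw [hN] at h1
    exact congrArg Subtype.val h1
  have heq : (A ⊓ fixOut Δ : Subgroup (Perm α)) = W :=
    Subgroup.eq_of_le_of_card_ge hle (by rw [hN, hcard])
  rw [← hW, ← heq]
  exact Iff.rfl

/-- The group generated by two abelian groups with disjoint supports. -/
theorem exists_prod {Δ C : Finset α} (hd : Disjoint Δ C) {W K : Subgroup (Perm α)}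
    (hW : W ≤ fixOut Δ) (hK : K ≤ fixOut C) (hWc : ∀ g ∈ W, ∀ h ∈ W, g * h = h * g)
    (hKc : ∀ g ∈ K, ∀ h ∈ K, g * h = h * g) :
    ∃ A : Subgroup (Perm α), (∀ g, g ∈ A ↔ ∃ w ∈ W, ∃ k ∈ K, w * k = g) ∧
      (∀ g ∈ A, ∀ h ∈ A, g * h = h * g) ∧ Nat.card A = Nat.card W * Nat.card K := by
  have hcom : ∀ w ∈ W, ∀ k ∈ K, w * k = k * w := fun w hw k hk =>
    comm_of_disjoint hd (hW hw) (hK hk)
  let φ : W × K →* Perm α := MonoidHom.noncommCoprod W.subtype K.subtype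
    (fun w k => hcom w.1 w.2 k.1 k.2)
  have hφ : ∀ p : W × K, φ p = p.1.1 * p.2.1 := fun p => rfl
  have hinj : Function.Injective φ := by
    rw [injective_iff_map_eq_one]
    rintro ⟨⟨w, hw⟩, ⟨k, hk⟩⟩ h
    rw [hφ] at h
    have h1 : w = k⁻¹ := eq_inv_of_mul_eq_one_left h
    have h2 : w = 1 := eq_one_of_disjoint hd (hW hw) (by rw [h1]; exact (fixOut C).inv_mem (hK hk))
    have h3 : k = 1 := by
      rw [h2] at h1
      exact (inv_eq_one.1 h1.symm)
    subst h2 h3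
    rfl
  refine ⟨φ.range, ?_, ?_, ?_⟩
  · intro g
    constructor
    · rintro ⟨p, rfl⟩
      exact ⟨p.1.1, p.1.2, p.2.1, p.2.2, rfl⟩
    · rintro ⟨w, hw, k, hk, rfl⟩
      exact ⟨(⟨w, hw⟩, ⟨k, hk⟩), rfl⟩
  · rintro _ ⟨p, rfl⟩ _ ⟨r, rfl⟩
    rw [← map_mul, ← map_mul]
    congr 1
    exact Prod.ext (Subtype.ext (hWc _ p.1.2 _ r.1.2)) (Subtype.ext (hKc _ p.2.2 _ r.2.2))
  · rw [← Nat.card_congr (MonoidHom.ofInjective hinj).toEquiv, Nat.card_prod]

/-! ### Existence -/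

theorem exists_even : ∀ (n : ℕ), n ≠ 5 → ∀ T : Finset α, T.card = n →
    ∃ A : Subgroup (Perm α), A ≤ fixOut T ∧ (∀ g ∈ A, ∀ h ∈ A, g * h = h * g) ∧
      A ≤ alternatingGroup α ∧ Nat.card A = AbelArith.M n := by
  intro n
  induction n using Nat.strong_induction_on with
  | _ n ih =>
    intro hn5 T hT
    by_cases hn : n < 3
    · refine ⟨⊥, bot_le, ?_, bot_le, ?_⟩
      · intro g hg h hh
        rw [Subgroup.mem_bot] at hg hh
        rw [hg, hh]
      · rw [Subgroup.card_bot]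
        interval_cases n <;> rfl
    · obtain ⟨a, ha, han, hM, h5⟩ : ∃ a, (a = 3 ∨ a = 4) ∧ a ≤ n ∧
          a * AbelArith.M (n - a) = AbelArith.M n ∧ n - a ≠ 5 := by
        by_cases h3 : n % 3 = 0
        · refine ⟨3, Or.inl rfl, by omega, ?_, by omega⟩
          obtain ⟨m, rfl⟩ : ∃ m, n = m + 3 := ⟨n - 3, by omega⟩
          rw [Nat.add_sub_cancel]
          exact AbelArith.three_M_eq m (by omega)
        · refine ⟨4, Or.inr rfl, by omega, ?_, by omega⟩
          obtain ⟨m, rfl⟩ : ∃ m, n = m + 4 := ⟨n - 4, by omega⟩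
          rw [Nat.add_sub_cancel]
          exact AbelArith.four_M_eq m (by omega) h3
      obtain ⟨Δ, hΔT, hΔ⟩ := Finset.exists_subset_card_eq (s := T) (n := a) (by omega)
      have hC : (T \ Δ).card = n - a := by rw [Finset.card_sdiff_of_subset hΔT, hT, hΔ]
      obtain ⟨K, hK1, hK2, hK3, hK4⟩ := ih (n - a) (by omega) h5 (T \ Δ) hC
      obtain ⟨W, hW1, hW2, hW3⟩ := exists_W (Δ := Δ) (by omega)
      obtain ⟨A, hA1, hA2, hA3⟩ := exists_prod (Δ := Δ) (C := T \ Δ) Finset.disjoint_sdiff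
        (fun g hg => ((hW1 g).1 hg).1) hK1 hW2 hK2
      refine ⟨A, ?_, hA2, ?_, ?_⟩
      · intro g hg
        obtain ⟨w, hw, k, hk, rfl⟩ := (hA1 g).1 hg
        exact (fixOut T).mul_mem (fixOut_mono hΔT ((hW1 w).1 hw).1)
          (fixOut_mono Finset.sdiff_subset (hK1 hk))
      · intro g hg
        obtain ⟨w, hw, k, hk, rfl⟩ := (hA1 g).1 hg
        exact (alternatingGroup α).mul_mem (Perm.mem_alternatingGroup.2 ((hW1 w).1 hw).2.1) (hK3 hk)
      · rw [hA3, hW3, hK4, hΔ, hM]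

theorem exists_sym : ∀ (n : ℕ), ∀ T : Finset α, T.card = n →
    ∃ A : Subgroup (Perm α), A ≤ fixOut T ∧ (∀ g ∈ A, ∀ h ∈ A, g * h = h * g) ∧
      Nat.card A = AbelArith.S n := by
  intro n
  induction n using Nat.strong_induction_on with
  | _ n ih =>
    intro T hT
    by_cases hn : n < 2
    · refine ⟨⊥, bot_le, ?_, ?_⟩
      · intro g hg h hh
        rw [Subgroup.mem_bot] at hg hh
        rw [hg, hh]
      · rw [Subgroup.card_bot]
        interval_cases n <;> rfl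
    by_cases hn2 : n = 2
    · subst hn2
      obtain ⟨x, y, hxy, rfl⟩ := Finset.card_eq_two.1 hT
      refine ⟨Subgroup.zpowers (swap x y), ?_, ?_, ?_⟩
      · rw [Subgroup.zpowers_le]
        intro z hz
        rw [Finset.mem_insert, Finset.mem_singleton, not_or] at hz
        rw [swap_apply_of_ne_of_ne hz.1 hz.2]
      · intro g hg h hh
        obtain ⟨i, rfl⟩ := Subgroup.mem_zpowers_iff.1 hg
        obtain ⟨k, rfl⟩ := Subgroup.mem_zpowers_iff.1 hh
        rw [← zpow_add, ← zpow_add, add_comm]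
      · rw [Nat.card_zpowers]
        show orderOf (swap x y) = 2
        exact orderOf_eq_prime (by rw [sq, swap_mul_self]) (by rw [Ne, swap_eq_one_iff]; exact hxy)
    · obtain ⟨a, ha, han, hM⟩ : ∃ a, (a = 3 ∨ a = 4) ∧ a ≤ n ∧
          a * AbelArith.S (n - a) = AbelArith.S n := by
        by_cases h4 : n = 4
        · subst h4
          exact ⟨4, Or.inr rfl, le_rfl, rfl⟩
        · by_cases h3 : n = 3
          · subst h3
            exact ⟨3, Or.inl rfl, le_rfl, rfl⟩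
          · refine ⟨3, Or.inl rfl, by omega, ?_⟩
            obtain ⟨m, rfl⟩ : ∃ m, n = m + 3 := ⟨n - 3, by omega⟩
            rw [Nat.add_sub_cancel]
            exact (AbelArith.S_add (by omega)).symm
      obtain ⟨Δ, hΔT, hΔ⟩ := Finset.exists_subset_card_eq (s := T) (n := a) (by omega)
      have hC : (T \ Δ).card = n - a := by rw [Finset.card_sdiff_of_subset hΔT, hT, hΔ]
      obtain ⟨K, hK1, hK2, hK4⟩ := ih (n - a) (by omega) (T \ Δ) hC
      obtain ⟨W, hW1, hW2, hW3⟩ := exists_W (Δ := Δ) (by omega)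
      obtain ⟨A, hA1, hA2, hA3⟩ := exists_prod (Δ := Δ) (C := T \ Δ) Finset.disjoint_sdiff
        (fun g hg => ((hW1 g).1 hg).1) hK1 hW2 hK2
      refine ⟨A, ?_, hA2, ?_⟩
      · intro g hg
        obtain ⟨w, hw, k, hk, rfl⟩ := (hA1 g).1 hg
        exact (fixOut T).mul_mem (fixOut_mono hΔT ((hW1 w).1 hw).1)
          (fixOut_mono Finset.sdiff_subset (hK1 hk))
      · rw [hA3, hW3, hK4, hΔ, hM]

end Cfsg.Agent.H158.AbelW
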