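import Mathlib
import Cfsg.Agent.H158.AbelW

/-!
# Abelian subgroups of largest order in the alternating groups are conjugate
-/

set_option autoImplicit false
set_option linter.unusedSectionVars false

namespace Cfsg.Agent.H158.AbelUniq

open Equiv Cfsg.Agent.H158.AbelPerm

variable {α : Type*} [DecidableEq α] [Fintype α]

/-- Hypotheses: `A` abelian, even, supported in `T`, of the largest order. -/
structure Opt (A : Subgroup (Perm α)) (T : Finset α) : Prop where
  le : A ≤ fixOut T
  comm : ∀ g ∈ A, ∀ h ∈ A, g * h = h * g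
  even : A ≤ alternatingGroup α
  card : Nat.card A = AbelArith.M T.card

/-- The orbits of an optimal group have sizes `3` and `4`. -/
theorem Opt.orb_card {A : Subgroup (Perm α)} {T : Finset α} (h : Opt A T) (hn : 3 ≤ T.card)
    (h5 : T.card ≠ 5) {x : α} (hx : x ∈ T) :
    (orb A x).card = 3 ∨ ((orb A x).card = 4 ∧ T.card % 3 ≠ 0) := by
  have hs := orb_subset h.le hx
  have h1 : 1 ≤ (orb A x).card := Finset.card_pos.2 ⟨x, self_mem_orb A x⟩
  have h2 : (T \ orb A x).card = T.card - (orb A x).card := by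
    rw [Finset.card_sdiff_of_subset hs]
  have h3 : (orb A x).card ≤ T.card := Finset.card_le_card hs
  have h4 := card_le_M (T.card - (orb A x).card) (T \ orb A x) h2 (stab A x)
          (stab_le_fixOut h.comm h.le x) (fun g hg k hk => h.comm g hg.1 k hk.1)
          ((stab_le A x).trans h.even)
  have h6 := h.card
  rw [card_eq_orb A x] at h6
  have h7 : AbelArith.M T.card ≤ (orb A x).card * AbelArith.M (T.card - (orb A x).card) := by
    rw [← h6]
    exact Nat.mul_le_mul_left _ h4
  generalize ha : (orb A x).card = a at *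
  obtain ⟨m, hm⟩ : ∃ m, T.card = m + a := ⟨T.card - a, by omega⟩
  rw [hm, Nat.add_sub_cancel] at h7
  rcases Nat.lt_or_ge a 2 with h8 | h8
  · obtain rfl : a = 1 := by omega
    have := AbelArith.M_lt_succ m (by omega)
    omega
  rcases Nat.lt_or_ge a 3 with h9 | h9
  · obtain rfl : a = 2 := by omega
    exfalso
    have e1 := card_eq_res A x
    rw [inf_eq_bot_of_two h.even ha, Subgroup.card_bot, one_mul, h.card] at e1
    have e2 := card_le_S _ _ h2 _ (res_range_le h.le x) (res_range_comm h.comm x)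
    rw [← e1, hm, Nat.add_sub_cancel] at e2
    have := AbelArith.S_lt_M_two m (by omega)
    omega
  rcases Nat.lt_or_ge a 4 with h10 | h10
  · left
    omega
  rcases Nat.lt_or_ge a 5 with h11 | h11
  · obtain rfl : a = 4 := by omega
    refine Or.inr ⟨rfl, ?_⟩
    intro h12
    have := AbelArith.four_M_lt m (by omega) (by omega)
    omega
  · exfalso
    have := AbelArith.mul_M_lt m a h11 (by omega)
    rw [add_comm a m] at this
    omega

/-- The group `A ∩ Sym Δ` has order `|Δ|`. -/
theorem Opt.card_inf {A : Subgroup (Perm α)} {T : Finset α} (h : Opt A T) (hn : 3 ≤ T.card)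
    (h5 : T.card ≠ 5) {x : α} (hx : x ∈ T) :
    Nat.card (A ⊓ fixOut (orb A x) : Subgroup (Perm α)) = (orb A x).card := by
  have h1 := h.orb_card hn h5 hx
  have h2 := card_inf_le h.comm x
  have hs := orb_subset h.le hx
  have h3 : (orb A x).card ≤ T.card := Finset.card_le_card hs
  have h4 : (T \ orb A x).card = T.card - (orb A x).card := by
    rw [Finset.card_sdiff_of_subset hs]
  have e1 := card_eq_res A x
  have e2 := card_le_S _ _ h4 _ (res_range_le h.le x) (res_range_comm h.comm x)
  rw [h.card] at e1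
  apply le_antisymm h2
  by_contra hcon
  push Not at hcon
  generalize hN : Nat.card (A ⊓ fixOut (orb A x) : Subgroup (Perm α)) = c at *
  have e3 : AbelArith.M T.card ≤ ((orb A x).card - 1) * AbelArith.S (T.card - (orb A x).card) := by
    rw [e1]
    exact Nat.mul_le_mul (by omega) e2
  rcases h1 with h1 | ⟨h1, -⟩
  · rw [h1] at e3
    obtain ⟨m, hm⟩ : ∃ m, T.card = m + 3 := ⟨T.card - 3, by omega⟩
    rw [hm, Nat.add_sub_cancel] at e3
    have := AbelArith.two_S_lt_M m
    omega
  · rw [h1] at e3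
    obtain ⟨m, hm⟩ : ∃ m, T.card = m + 4 := ⟨T.card - 4, by omega⟩
    rw [hm, Nat.add_sub_cancel] at e3
    have := AbelArith.three_S_lt_M m
    omega

theorem Opt.mem_iff {A : Subgroup (Perm α)} {T : Finset α} (h : Opt A T) (hn : 3 ≤ T.card)
    (h5 : T.card ≠ 5) {x : α} (hx : x ∈ T) (g : Perm α) :
    (g ∈ A ∧ g ∈ fixOut (orb A x)) ↔
      (g ∈ fixOut (orb A x) ∧ Perm.sign g = 1 ∧ g ^ (orb A x).card = 1) :=
  AbelW.mem_inf_iff h.even ((h.orb_card hn h5 hx).imp_right And.left) (h.card_inf hn h5 hx) g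

/-- Every element is a product of an element of `A ∩ Sym Δ` and one of the stabilizer. -/
theorem Opt.exists_mul {A : Subgroup (Perm α)} {T : Finset α} (h : Opt A T) (hn : 3 ≤ T.card)
    (h5 : T.card ≠ 5) {x : α} (hx : x ∈ T) {g : Perm α} (hg : g ∈ A) :
    ∃ w, (w ∈ A ∧ w ∈ fixOut (orb A x)) ∧ ∃ k ∈ stab A x, g = w * k := by
  classical
  have hN := h.card_inf hn h5 hx
  let f : (A ⊓ fixOut (orb A x) : Subgroup (Perm α)) → ↥(orb A x) := fun g =>
    ⟨g.1 x, (orb_apply g.2.1).2 (self_mem_orb A x)⟩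
  have hf : Function.Injective f := by
    rintro ⟨g, hg⟩ ⟨k, hk⟩ h'
    have h1 : g x = k x := congrArg Subtype.val h'
    have h2 : (k⁻¹ * g) x = x := by rw [Perm.mul_apply, h1, inv_app]
    have h3 : k⁻¹ * g ∈ A := A.mul_mem (A.inv_mem hk.1) hg.1
    have h4 : k⁻¹ * g = 1 := by
      ext y
      rw [Perm.one_apply]
      by_cases hy : y ∈ orb A x
      · exact fix_orb h.comm h3 h2 hy
      · exact (fixOut (orb A x)).mul_mem ((fixOut _).inv_mem hk.2) hg.2 y hy
    apply Subtype.ext
    exact (inv_mul_eq_one.1 h4).symm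
  have hs : Function.Surjective f := by
    apply ((Nat.bijective_iff_injective_and_card f).2 ⟨hf, ?_⟩).2
    rw [hN, Nat.card_eq_fintype_card, Fintype.card_coe]
  obtain ⟨w, hw⟩ := hs ⟨g x, (orb_apply hg).2 (self_mem_orb A x)⟩
  have hw1 : w.1 x = g x := congrArg Subtype.val hw
  refine ⟨w.1, w.2, w.1⁻¹ * g, ⟨A.mul_mem (A.inv_mem w.2.1) hg, ?_⟩, by group⟩
  rw [Perm.mul_apply, ← hw1, inv_app]

/-- The stabilizer is again optimal, if the orbit is chosen of the right size. -/
theorem Opt.stab {A : Subgroup (Perm α)} {T : Finset α} (h : Opt A T)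
    {x : α} (hx : x ∈ T) (hM : (orb A x).card * AbelArith.M (T.card - (orb A x).card) = AbelArith.M T.card) :
    Opt (stab A x) (T \ orb A x) where
  le := stab_le_fixOut h.comm h.le x
  comm := fun g hg k hk => h.comm g hg.1 k hk.1
  even := (stab_le A x).trans h.even
  card := by
    have hs := orb_subset h.le hx
    rw [Finset.card_sdiff_of_subset hs]
    have h1 := card_eq_orb A x
    rw [h.card, ← hM] at h1
    exact (Nat.eq_of_mul_eq_mul_left (Finset.card_pos.2 ⟨x, self_mem_orb A x⟩) h1).symm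

/-- There is an orbit of the right size. -/
theorem Opt.exists_orb {A : Subgroup (Perm α)} {T : Finset α} (h : Opt A T) (hn : 3 ≤ T.card)
    (h5 : T.card ≠ 5) : ∃ x ∈ T, (orb A x).card = if T.card % 3 = 0 then 3 else 4 := by
  classical
  split_ifs with h3
  · obtain ⟨x, hx⟩ : T.Nonempty := Finset.card_pos.1 (by omega)
    refine ⟨x, hx, ?_⟩
    rcases h.orb_card hn h5 hx with h1 | ⟨-, h1⟩
    · exact h1
    · exact absurd h3 h1
  · by_contra hcon
    push Not at hcon
    apply h3
    have h4 : ∀ x ∈ T, (orb A x).card = 3 := by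
      intro x hx
      rcases h.orb_card hn h5 hx with h1 | ⟨h1, -⟩
      · exact h1
      · exact absurd h1 (hcon x hx)
    have h6 := Finset.card_eq_sum_card_image (fun x => orb A x) T
    have h7 : ∀ b ∈ T.image (fun x => orb A x), (T.filter fun x => orb A x = b).card = 3 := by
      intro b hb
      obtain ⟨x, hx, rfl⟩ := Finset.mem_image.1 hb
      have h8 : (T.filter fun y => orb A y = orb A x) = orb A x := by
        ext y
        rw [Finset.mem_filter]
        constructor
        · rintro ⟨-, hy⟩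
          rw [← hy]
          exact self_mem_orb A y
        · intro hy
          exact ⟨orb_subset h.le hx hy, orb_eq hy⟩
      rw [h8]
      exact h4 x hx
    rw [Finset.sum_congr rfl h7, Finset.sum_const, smul_eq_mul] at h6
    omega

/-! ### Gluing -/

theorem exists_glue {Δ Δ' C C' : Finset α} (hd : Disjoint Δ C) (hd' : Disjoint Δ' C')
    (hcard : Δ.card = Δ'.card) (e : Perm α) (he : ∀ x, x ∈ C ↔ e x ∈ C') :
    ∃ f : Perm α, (∀ x ∈ C, f x = e x) ∧ (∀ x, x ∈ Δ ↔ f x ∈ Δ') := by
  classical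
  let b := Finset.equivOfCardEq hcard
  let φ : α → α := fun x => if h : x ∈ Δ then b ⟨x, h⟩ else e x
  have hφ1 : ∀ x (h : x ∈ Δ), φ x = b ⟨x, h⟩ := fun x h => dif_pos h
  have hφ2 : ∀ x, x ∈ C → φ x = e x := fun x h => dif_neg (Finset.disjoint_right.1 hd h)
  have hinj : Set.InjOn φ ((Δ ∪ C : Finset α) : Set α) := by
    intro x hx y hy hxy
    rw [Finset.mem_coe, Finset.mem_union] at hx hy
    rcases hx with hx | hx <;> rcases hy with hy | hy
    · rw [hφ1 x hx, hφ1 y hy] at hxy
      exact congrArg Subtype.val (b.injective (Subtype.ext hxy))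
    · rw [hφ1 x hx, hφ2 y hy] at hxy
      exfalso
      exact Finset.disjoint_left.1 hd' (b ⟨x, hx⟩).2 (by rw [hxy]; exact (he y).1 hy)
    · rw [hφ2 x hx, hφ1 y hy] at hxy
      exfalso
      exact Finset.disjoint_left.1 hd' (b ⟨y, hy⟩).2 (by rw [← hxy]; exact (he x).1 hx)
    · rw [hφ2 x hx, hφ2 y hy] at hxy
      exact e.injective hxy
  obtain ⟨g, hg⟩ := Finset.exists_equiv_extend_of_card_eq (t := (Finset.univ : Finset α))
    (Finset.card_univ).symm (Finset.subset_univ _) hinj
  let f : Perm α := g.trans (Equiv.subtypeUnivEquiv fun x => Finset.mem_univ x)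
  have hf : ∀ x, f x = (g x : α) := fun x => rfl
  refine ⟨f, ?_, ?_⟩
  · intro x hx
    rw [hf, hg x (Finset.mem_union_right _ hx), hφ2 x hx]
  · intro x
    constructor
    · intro hx
      rw [hf, hg x (Finset.mem_union_left _ hx), hφ1 x hx]
      exact (b ⟨x, hx⟩).2
    · intro hx
      let y := b.symm ⟨f x, hx⟩
      have h1 : f y.1 = f x := by
        rw [hf y.1, hg y.1 (Finset.mem_union_left _ y.2), hφ1 y.1 y.2]
        show ((b (b.symm ⟨f x, hx⟩)) : α) = f x
        rw [b.apply_symm_apply]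
      rw [← f.injective h1]
      exact y.2

theorem conj_mem_fixOut {Δ Δ' : Finset α} {f w : Perm α} (hf : ∀ x, x ∈ Δ ↔ f x ∈ Δ')
    (hw : w ∈ fixOut Δ) : f * w * f⁻¹ ∈ fixOut Δ' := by
  intro y hy
  have h1 : f⁻¹ y ∉ Δ := by
    rw [hf, app_inv]
    exact hy
  rw [Perm.mul_apply, Perm.mul_apply, hw _ h1, app_inv]

theorem conj_eq {C C' : Finset α} {e f k : Perm α} (he : ∀ x, x ∈ C ↔ e x ∈ C')
    (hf : ∀ x ∈ C, f x = e x) (hk : k ∈ fixOut C) : f * k * f⁻¹ = e * k * e⁻¹ := by
  have h1 : ∀ x, x ∈ C ↔ f x ∈ C' := by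
    intro x
    constructor
    · intro hx
      rw [hf x hx]
      exact (he x).1 hx
    · intro hx
      have h2 : e⁻¹ (f x) ∈ C := by
        rw [he, app_inv]
        exact hx
      have h3 := hf _ h2
      rw [app_inv] at h3
      rw [← f.injective h3]
      exact h2
  ext y
  by_cases hy : y ∈ C'
  · have h2 : e⁻¹ y ∈ C := by
      rw [he, app_inv]
      exact hy
    have h3 : f⁻¹ y = e⁻¹ y := by
      rw [Perm.inv_eq_iff_eq, hf _ h2, app_inv]
    rw [Perm.mul_apply, Perm.mul_apply, Perm.mul_apply, Perm.mul_apply, h3]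
    exact hf _ (apply_mem_of_fixOut hk h2)
  · rw [conj_mem_fixOut h1 hk y hy, conj_mem_fixOut he hk y hy]

/-- **Uniqueness.** -/
theorem uniq : ∀ (n : ℕ), n ≠ 5 → ∀ (T T' : Finset α) (A B : Subgroup (Perm α)), T.card = n →
    T'.card = n → Opt A T → Opt B T' →
    ∃ e : Perm α, (∀ x, x ∈ T ↔ e x ∈ T') ∧ ∀ g ∈ A, e * g * e⁻¹ ∈ B := by
  intro n
  induction n using Nat.strong_induction_on with
  | _ n ih =>
    intro hn5 T T' A B hT hT' hA hB
    by_cases hn : n < 3
    · have h1 : A = ⊥ := by
        rw [← Subgroup.card_eq_one, hA.card, hT]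
        interval_cases n <;> rfl
      obtain ⟨f, -, hf⟩ := exists_glue (Δ := T) (Δ' := T') (C := ∅) (C' := ∅)
        (Finset.disjoint_empty_right _) (Finset.disjoint_empty_right _) (hT.trans hT'.symm) 1
        (fun x => by simp)
      refine ⟨f, hf, ?_⟩
      intro g hg
      rw [h1, Subgroup.mem_bot] at hg
      rw [hg, mul_one, mul_inv_cancel]
      exact B.one_mem
    · obtain ⟨x, hx, hxo⟩ := hA.exists_orb (by omega) (by omega)
      obtain ⟨y, hy, hyo⟩ := hB.exists_orb (by omega) (by omega)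
      rw [hT] at hxo
      rw [hT'] at hyo
      obtain ⟨a, ha⟩ : ∃ a, a = if n % 3 = 0 then 3 else 4 := ⟨_, rfl⟩
      rw [← ha] at hxo hyo
      have hfacts : a ≤ n ∧ 3 ≤ a ∧ a * AbelArith.M (n - a) = AbelArith.M n ∧ n - a ≠ 5 := by
        by_cases h3 : n % 3 = 0
        · rw [if_pos h3] at ha
          subst ha
          refine ⟨by omega, le_rfl, ?_, by omega⟩
          obtain ⟨m, rfl⟩ : ∃ m, n = m + 3 := ⟨n - 3, by omega⟩
          rw [Nat.add_sub_cancel]
          exact AbelArith.three_M_eq m (by omega)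
        · rw [if_neg h3] at ha
          subst ha
          refine ⟨by omega, by omega, ?_, by omega⟩
          obtain ⟨m, rfl⟩ : ∃ m, n = m + 4 := ⟨n - 4, by omega⟩
          rw [Nat.add_sub_cancel]
          exact AbelArith.four_M_eq m (by omega) h3
      obtain ⟨han, ha3, hM, h5⟩ := hfacts
      have hs := orb_subset hA.le hx
      have hs' := orb_subset hB.le hy
      have hC : (T \ orb A x).card = n - a := by rw [Finset.card_sdiff_of_subset hs, hT, hxo]
      have hC' : (T' \ orb B y).card = n - a := by rw [Finset.card_sdiff_of_subset hs', hT', hyo]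
      have hAs := hA.stab hx (by rw [hxo, hT, hM])
      have hBs := hB.stab hy (by rw [hyo, hT', hM])
      obtain ⟨e, he1, he2⟩ := ih (n - a) (by omega) h5 _ _ _ _ hC hC' hAs hBs
      obtain ⟨f, hf1, hf2⟩ := exists_glue (Δ := orb A x) (Δ' := orb B y) Finset.disjoint_sdiff
        Finset.disjoint_sdiff (hxo.trans hyo.symm) e he1
      have hfC : ∀ z, z ∈ T \ orb A x ↔ f z ∈ T' \ orb B y := by
        intro z
        constructor
        · intro hz
          rw [hf1 z hz]
          exact (he1 z).1 hz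
        · intro hz
          have h2 : e⁻¹ (f z) ∈ T \ orb A x := by
            rw [he1, app_inv]
            exact hz
          have h3 := hf1 _ h2
          rw [app_inv] at h3
          rw [← f.injective h3]
          exact h2
      refine ⟨f, ?_, ?_⟩
      · intro z
        have e1 : z ∈ T ↔ z ∈ orb A x ∨ z ∈ T \ orb A x := by
          rw [← Finset.mem_union, Finset.union_sdiff_of_subset hs]
        have e2 : f z ∈ T' ↔ f z ∈ orb B y ∨ f z ∈ T' \ orb B y := by
          rw [← Finset.mem_union, Finset.union_sdiff_of_subset hs']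
        rw [e1, e2, hf2 z, hfC z]
      · intro g hg
        obtain ⟨w, hw, k, hk, rfl⟩ := hA.exists_mul (by omega) (by omega) hx hg
        have e1 : f * (w * k) * f⁻¹ = (f * w * f⁻¹) * (f * k * f⁻¹) := by group
        rw [e1]
        apply B.mul_mem
        · have hw2 := (hA.mem_iff (by omega) (by omega) hx w).1 hw
          refine ((hB.mem_iff (by omega) (by omega) hy _).2 ⟨conj_mem_fixOut hf2 hw2.1, ?_, ?_⟩).1
          · rw [Perm.sign_mul, Perm.sign_mul, hw2.2.1, mul_one, ← Perm.sign_mul, mul_inv_cancel,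
              Perm.sign_one]
          · rw [conj_pow, hyo, ← hxo, hw2.2.2, mul_one, mul_inv_cancel]
        · rw [conj_eq he1 hf1 (stab_le_fixOut hA.comm hA.le x hk)]
          exact stab_le B y (he2 k hk)

/-- An odd permutation normalizes `A`. -/
theorem Opt.exists_odd {A : Subgroup (Perm α)} {T : Finset α} (h : Opt A T) (hn : 2 ≤ T.card)
    (h5 : T.card ≠ 5) : ∃ t : Perm α, Perm.sign t = -1 ∧ ∀ g ∈ A, t * g * t⁻¹ ∈ A := by
  by_cases h2 : T.card = 2
  · obtain ⟨x, y, hxy, rfl⟩ := Finset.card_eq_two.1 h2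
    refine ⟨swap x y, Perm.sign_swap hxy, ?_⟩
    have h1 : A = ⊥ := by
      rw [← Subgroup.card_eq_one, h.card, h2]
      rfl
    intro g hg
    rw [h1, Subgroup.mem_bot] at hg
    rw [hg, mul_one, mul_inv_cancel]
    exact A.one_mem
  · obtain ⟨x, hx⟩ : T.Nonempty := Finset.card_pos.1 (by omega)
    have h3 := h.orb_card (by omega) h5 hx
    obtain ⟨y, hy, hyx⟩ := Finset.exists_mem_ne (s := orb A x) (by omega) x
    have ht : swap x y ∈ fixOut (orb A x) := by
      intro z hz
      rw [swap_apply_of_ne_of_ne]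
      · rintro rfl
        exact hz (self_mem_orb A _)
      · rintro rfl
        exact hz hy
    refine ⟨swap x y, Perm.sign_swap hyx.symm, ?_⟩
    intro g hg
    obtain ⟨w, hw, k, hk, rfl⟩ := h.exists_mul (by omega) h5 hx hg
    have e1 : swap x y * (w * k) * (swap x y)⁻¹ =
      (swap x y * w * (swap x y)⁻¹) * (swap x y * k * (swap x y)⁻¹) := by group
    rw [e1]
    apply A.mul_mem
    · have hw2 := (h.mem_iff (by omega) h5 hx w).1 hw
      refine ((h.mem_iff (by omega) h5 hx _).2 ⟨?_, ?_, ?_⟩).1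
      · exact (fixOut _).mul_mem ((fixOut _).mul_mem ht hw2.1) ((fixOut _).inv_mem ht)
      · rw [Perm.sign_mul, Perm.sign_mul, hw2.2.1, mul_one, ← Perm.sign_mul, mul_inv_cancel,
              Perm.sign_one]
      · rw [conj_pow, hw2.2.2, mul_one, mul_inv_cancel]
    · rw [comm_of_disjoint Finset.disjoint_sdiff ht (stab_le_fixOut h.comm h.le x hk),
        mul_inv_cancel_right]
      exact hk.1

end Cfsg.Agent.H158.AbelUniq
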