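import Mathlib
import Cfsg.Agent.H158.AbelUniq

/-!
# Abelian subgroups of largest order of `Perm (Fin n)` and `alternatingGroup (Fin n)`
-/

set_option autoImplicit false
set_option linter.unusedSectionVars false

namespace Cfsg.Agent.H158.AbelMain

open Equiv Cfsg.Agent.H158.AbelPerm

theorem comm_of_isMulCommutative {G : Type*} [Group G] {A : Subgroup G} (h : IsMulCommutative A) :
    ∀ g ∈ A, ∀ k ∈ A, g * k = k * g := by
  intro g hg k hk
  have := h.is_comm.comm (⟨g, hg⟩ : A) ⟨k, hk⟩
  exact congrArg Subtype.val this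

theorem isMulCommutative_of_comm {G : Type*} [Group G] {A : Subgroup G}
    (h : ∀ g ∈ A, ∀ k ∈ A, g * k = k * g) : IsMulCommutative A :=
  ⟨⟨fun a b => Subtype.ext (h a.1 a.2 b.1 b.2)⟩⟩

theorem isGreatest_sym (n : ℕ) :
    IsGreatest {c : ℕ | ∃ A : Subgroup (Equiv.Perm (Fin n)), IsMulCommutative A ∧ Nat.card A = c}
      (AbelArith.S n) := by
  constructor
  · obtain ⟨A, -, h2, h3⟩ := AbelW.exists_sym n (Finset.univ : Finset (Fin n)) (by simp)
    exact ⟨A, isMulCommutative_of_comm h2, h3⟩
  · rintro c ⟨A, hA, rfl⟩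
    exact card_le_S n (Finset.univ : Finset (Fin n)) (by simp) A
      (fun g _ x hx => absurd (Finset.mem_univ x) hx) (comm_of_isMulCommutative hA)

theorem card_map {n : ℕ} (A : Subgroup (alternatingGroup (Fin n))) :
    Nat.card (A.map (alternatingGroup (Fin n)).subtype) = Nat.card A :=
  (Nat.card_congr (A.equivMapOfInjective _ (Subgroup.subtype_injective _)).toEquiv).symm

theorem comm_map {n : ℕ} {A : Subgroup (alternatingGroup (Fin n))} (hA : IsMulCommutative A) :
    ∀ g ∈ A.map (alternatingGroup (Fin n)).subtype, ∀ k ∈ A.map (alternatingGroup (Fin n)).subtype,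
      g * k = k * g := by
  rintro _ ⟨x, hx, rfl⟩ _ ⟨y, hy, rfl⟩
  rw [← map_mul, comm_of_isMulCommutative hA x hx y hy, map_mul]

theorem map_le_alt {n : ℕ} (A : Subgroup (alternatingGroup (Fin n))) :
    A.map (alternatingGroup (Fin n)).subtype ≤ alternatingGroup (Fin n) := by
  rintro _ ⟨x, hx, rfl⟩
  exact x.2

theorem card_le {n : ℕ} {A : Subgroup (alternatingGroup (Fin n))} (hA : IsMulCommutative A) :
    Nat.card A ≤ AbelArith.M n := by
  rw [← card_map A]
  exact card_le_M n (Finset.univ : Finset (Fin n)) (by simp) _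
      (fun g _ x hx => absurd (Finset.mem_univ x) hx) (comm_map hA) (map_le_alt A)

theorem card_alt_five : Nat.card (alternatingGroup (Fin 5)) = 60 := by
  have h := two_mul_card_alternatingGroup (α := Fin 5)
  rw [← Nat.card_eq_fintype_card, ← Nat.card_eq_fintype_card, Nat.card_eq_fintype_card (α := Perm (Fin 5)),
    Fintype.card_perm, Fintype.card_fin] at h
  have h2 : Nat.factorial 5 = 120 := rfl
  omega

theorem exists_alt (n : ℕ) : ∃ A : Subgroup (alternatingGroup (Fin n)), IsMulCommutative A ∧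
    Nat.card A = AbelArith.M n := by
  by_cases h5 : n = 5
  · subst h5
    have : Fact (Nat.Prime 5) := ⟨by norm_num⟩
    obtain ⟨g, hg⟩ := exists_prime_orderOf_dvd_card' (G := alternatingGroup (Fin 5)) 5
      (by rw [card_alt_five]; norm_num)
    refine ⟨Subgroup.zpowers g, inferInstance, ?_⟩
    rw [Nat.card_zpowers, hg]
    rfl
  · obtain ⟨A, -, h2, h3, h4⟩ := AbelW.exists_even n h5 (Finset.univ : Finset (Fin n)) (by simp)
    have h6 : (A.subgroupOf (alternatingGroup (Fin n))).map (alternatingGroup (Fin n)).subtype = A := by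
      rw [Subgroup.subgroupOf_map_subtype, inf_eq_left]
      exact h3
    refine ⟨A.subgroupOf (alternatingGroup (Fin n)), ?_, ?_⟩
    · apply isMulCommutative_of_comm
      intro g hg k hk
      exact Subtype.ext (h2 _ hg _ hk)
    · rw [← h4, ← card_map, h6]

theorem isGreatest_alt (n : ℕ) :
    IsGreatest {c : ℕ | ∃ A : Subgroup (alternatingGroup (Fin n)), IsMulCommutative A ∧ Nat.card A = c}
      (AbelArith.M n) := by
  constructor
  · obtain ⟨A, h2, h3⟩ := exists_alt n
    exact ⟨A, h2, h3⟩
  · rintro c ⟨A, hA, rfl⟩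
    exact card_le hA

open scoped Pointwise

theorem conj_five (A B : Subgroup (alternatingGroup (Fin 5))) (hA : Nat.card A = 5)
    (hB : Nat.card B = 5) : ∃ g : alternatingGroup (Fin 5), B = MulAut.conj g • A := by
  have : Fact (Nat.Prime 5) := ⟨by norm_num⟩
  have hf : (Nat.card (alternatingGroup (Fin 5))).factorization 5 = 1 := by
    rw [card_alt_five]
    have : (60 : ℕ) = 5 * 12 := rfl
    rw [this, Nat.factorization_mul (by norm_num) (by norm_num), Finsupp.add_apply,
      Nat.Prime.factorization_self (by norm_num), Nat.factorization_eq_zero_of_not_dvd (by norm_num)]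
  let P : Sylow 5 (alternatingGroup (Fin 5)) := Sylow.ofCard A (by rw [hf, hA]; norm_num)
  let Q : Sylow 5 (alternatingGroup (Fin 5)) := Sylow.ofCard B (by rw [hf, hB]; norm_num)
  obtain ⟨g, hg⟩ := MulAction.exists_smul_eq (alternatingGroup (Fin 5)) P Q
  refine ⟨g, ?_⟩
  have := congrArg (fun S : Sylow 5 (alternatingGroup (Fin 5)) => S.toSubgroup) hg
  exact this.symm

theorem main (n : ℕ)
    (A B : Subgroup (alternatingGroup (Fin n))) (hA : IsMulCommutative A) (hB : IsMulCommutative B)
    (hAmax : ∀ C : Subgroup (alternatingGroup (Fin n)), IsMulCommutative C → Nat.card C ≤ Nat.card A)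
    (hBmax : ∀ C : Subgroup (alternatingGroup (Fin n)), IsMulCommutative C → Nat.card C ≤ Nat.card B) :
    ∃ g : alternatingGroup (Fin n), B = MulAut.conj g • A := by
  obtain ⟨C, hC1, hC2⟩ := exists_alt n
  have hAc : Nat.card A = AbelArith.M n := le_antisymm (card_le hA) (by rw [← hC2]; exact hAmax C hC1)
  have hBc : Nat.card B = AbelArith.M n := le_antisymm (card_le hB) (by rw [← hC2]; exact hBmax C hC1)
  by_cases h5 : n = 5
  · subst h5
    exact conj_five A B hAc hBc
  have key : ∀ D : Subgroup (alternatingGroup (Fin n)), IsMulCommutative D → Nat.card D = AbelArith.M n →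
      AbelUniq.Opt (D.map (alternatingGroup (Fin n)).subtype) (Finset.univ : Finset (Fin n)) := by
    intro D hD hDc
    refine ⟨fun g _ x hx => absurd (Finset.mem_univ x) hx, comm_map hD, map_le_alt D, ?_⟩
    rw [card_map, hDc, Finset.card_univ, Fintype.card_fin]
  have hAo := key A hA hAc
  have hBo := key B hB hBc
  obtain ⟨e, -, he⟩ := AbelUniq.uniq n h5 _ _ _ _ (by simp) (by simp) hAo hBo
  -- make `e` even
  obtain ⟨f, hf1, hf2⟩ : ∃ f : Perm (Fin n), Perm.sign f = 1 ∧
      ∀ g ∈ A.map (alternatingGroup (Fin n)).subtype, f * g * f⁻¹ ∈ B.map (alternatingGroup (Fin n)).subtype := by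
    rcases Int.units_eq_one_or (Perm.sign e) with h1 | h1
    · exact ⟨e, h1, he⟩
    · by_cases hn : 2 ≤ n
      · obtain ⟨t, ht1, ht2⟩ := hAo.exists_odd (by simpa using hn) (by simpa using h5)
        refine ⟨e * t, by rw [Perm.sign_mul, h1, ht1]; rfl, ?_⟩
        intro g hg
        have : e * t * g * (e * t)⁻¹ = e * (t * g * t⁻¹) * e⁻¹ := by group
        rw [this]
        exact he _ (ht2 g hg)
      · exfalso
        have : Subsingleton (Fin n) := by
          rw [← Finite.card_le_one_iff_subsingleton, Nat.card_fin]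
          omega
        have h2 : e = 1 := Subsingleton.elim _ _
        rw [h2, Perm.sign_one] at h1
        exact absurd h1 (by decide)
  have hfm : f ∈ alternatingGroup (Fin n) := Perm.mem_alternatingGroup.2 hf1
  refine ⟨⟨f, hfm⟩, ?_⟩
  symm
  apply Subgroup.eq_of_le_of_card_ge
  · intro x hx
    rw [Subgroup.mem_pointwise_smul_iff_inv_smul_mem] at hx
    have h1 := hf2 _ (Subgroup.mem_map_of_mem (alternatingGroup (Fin n)).subtype hx)
    obtain ⟨y, hy, hyx⟩ := Subgroup.mem_map.1 h1
    have h2 : y = x := by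
      apply Subtype.ext
      rw [← Subgroup.subtype_apply, hyx]
      show f * ((⟨f, hfm⟩ : alternatingGroup (Fin n))⁻¹ * x * (⟨f, hfm⟩ : alternatingGroup (Fin n))).1 * f⁻¹ = x.1
      simp [mul_assoc]
    rw [← h2]
    exact hy
  · rw [hBc, ← hAc]
    exact le_of_eq (Nat.card_congr (Subgroup.equivSMul _ _).toEquiv)

end Cfsg.Agent.H158.AbelMain
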