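import Cfsg.Agent.H822.Cls.Props
import Cfsg.Agent.Lib.CoprimeCommutator

/-!
# S4148, part T7: the imprimitive step of the linear theorem
-/

set_option autoImplicit false

namespace Cfsg.Agent.H158.Cls7

open scoped Pointwise commutatorElement
open Cfsg.Agent.H822.Cls

universe u

/-- A system of imprimitivity given by its projections. -/
structure Sys (L U Ω : Type*) [Group L] [AddCommGroup U] [DistribMulAction L U] [Fintype Ω] [MulAction L Ω] where
  π : Ω → U →+ U
  proj : ∀ i u, π i (π i u) = π i u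
  orth : ∀ i j u, i ≠ j → π i (π j u) = 0
  sum : ∀ u, ∑ i, π i u = u
  eqv : ∀ (g : L) i u, g • π i u = π (g • i) (g • u)

namespace Sys

section

variable {L U Ω : Type*} [Group L] [AddCommGroup U] [DistribMulAction L U] [Fintype Ω] [MulAction L Ω]

theorem ne_zero [Nontrivial U] [MulAction.IsPretransitive L Ω] (S : Sys L U Ω) (i : Ω) : ∃ u, S.π i u ≠ 0 := by
  by_contra! h
  obtain ⟨u, hu⟩ := exists_ne (0 : U)
  apply hu
  rw [← S.sum u]
  apply Finset.sum_eq_zero
  intro j _
  obtain ⟨g, hg⟩ := MulAction.exists_smul_eq L i j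
  have h1 := S.eqv g i (g⁻¹ • u)
  rw [h, smul_zero, hg, smul_inv_smul] at h1
  exact h1.symm

/-- the coarser system -/
noncomputable def coarse {Ω' : Type*} [Fintype Ω'] [DecidableEq Ω'] [MulAction L Ω'] (S : Sys L U Ω) (f : Ω → Ω')
    (hf : ∀ (g : L) i, f (g • i) = g • f i) : Sys L U Ω' where
  π j := ∑ i with f i = j, S.π i
  proj j u := by
    classical
    simp only [AddMonoidHom.finsetSum_apply, map_sum]
    apply Finset.sum_congr rfl
    intro i hi
    rw [Finset.sum_eq_single i]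
    · exact S.proj i u
    · intro k _ hk
      exact S.orth k i u hk
    · intro h; exact absurd hi h
  orth j k u hjk := by
    simp only [AddMonoidHom.finsetSum_apply, map_sum]
    apply Finset.sum_eq_zero
    intro i hi
    apply Finset.sum_eq_zero
    intro l hl
    apply S.orth
    rintro rfl
    simp only [Finset.mem_filter, Finset.mem_univ, true_and] at hi hl
    exact hjk (hl.symm.trans hi)
  sum u := by
    simp only [AddMonoidHom.finsetSum_apply]
    rw [Finset.sum_fiberwise]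
    exact S.sum u
  eqv g j u := by
    simp only [AddMonoidHom.finsetSum_apply, Finset.smul_sum, S.eqv]
    apply Finset.sum_bij (fun i _ => g • i)
    · intro i hi
      simp only [Finset.mem_filter, Finset.mem_univ, true_and] at hi ⊢
      rw [hf, hi]
    · intro a _ b _ h
      exact MulAction.injective g h
    · intro b hb
      simp only [Finset.mem_filter, Finset.mem_univ, true_and] at hb
      refine ⟨g⁻¹ • b, ?_, smul_inv_smul g b⟩
      simp only [Finset.mem_filter, Finset.mem_univ, true_and]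
      rw [hf, hb, inv_smul_smul]
    · intro a _
      rfl

end

section

variable {L U Ω : Type*} [Group L] [AddCommGroup U] [DistribMulAction L U] [Fintype Ω] [DecidableEq Ω] [MulAction L Ω]

omit [Fintype Ω] in
theorem bij_of_indep (V : Ω → AddSubgroup U) (hi : iSupIndep V) (hs : iSup V = ⊤) :
    Function.Bijective (DFinsupp.sumAddHom fun i => (V i).subtype) := by
  refine ⟨hi.dfinsuppSumAddHom_injective, ?_⟩
  rw [← AddMonoidHom.range_eq_top, eq_top_iff, ← hs, iSup_le_iff]
  intro i v hv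
  refine ⟨DFinsupp.single i ⟨v, hv⟩, ?_⟩
  rw [DFinsupp.sumAddHom_single]
  rfl

/-- the projection -/
noncomputable def prj (V : Ω → AddSubgroup U) (hi : iSupIndep V) (hs : iSup V = ⊤) (i : Ω) : U →+ U :=
  ((V i).subtype.comp (DFinsupp.evalAddMonoidHom i)).comp
    (AddEquiv.ofBijective _ (bij_of_indep V hi hs)).symm.toAddMonoidHom

omit [Fintype Ω] in
theorem prj_mem (V : Ω → AddSubgroup U) (hi : iSupIndep V) (hs : iSup V = ⊤) (i : Ω) (u : U) :
    prj V hi hs i u ∈ V i :=
  ((AddEquiv.ofBijective _ (bij_of_indep V hi hs)).symm u i).2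

omit [Fintype Ω] in
theorem prj_of_mem (V : Ω → AddSubgroup U) (hi : iSupIndep V) (hs : iSup V = ⊤) (i j : Ω) (v : U) (hv : v ∈ V i) :
    prj V hi hs j v = if i = j then v else 0 := by
  have h1 : (AddEquiv.ofBijective _ (bij_of_indep V hi hs)).symm v = DFinsupp.single i ⟨v, hv⟩ := by
    rw [AddEquiv.symm_apply_eq, AddEquiv.ofBijective_apply, DFinsupp.sumAddHom_single]
    rfl
  show (((AddEquiv.ofBijective _ (bij_of_indep V hi hs)).symm v) j : U) = _
  rw [h1]
  split_ifs with h
  · subst h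
    rw [DFinsupp.single_eq_same]
  · rw [DFinsupp.single_eq_of_ne (Ne.symm h)]
    rfl

theorem sum_prj (V : Ω → AddSubgroup U) (hi : iSupIndep V) (hs : iSup V = ⊤) (u : U) :
    ∑ i, prj V hi hs i u = u := by
  classical
  obtain ⟨f, rfl⟩ := (AddEquiv.ofBijective _ (bij_of_indep V hi hs)).surjective u
  have h1 : ∀ i, prj V hi hs i ((AddEquiv.ofBijective _ (bij_of_indep V hi hs)) f) = f i := by
    intro i
    show (((AddEquiv.ofBijective _ (bij_of_indep V hi hs)).symm _) i : U) = _
    rw [AddEquiv.symm_apply_apply]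
  simp only [h1]
  rw [AddEquiv.ofBijective_apply, DFinsupp.sumAddHom_apply, DFinsupp.sum_eq_sum_fintype]
  · rfl
  · intro i; rfl

/-- a system from an independent family -/
noncomputable def ofIndep (V : Ω → AddSubgroup U) (hi : iSupIndep V) (hs : iSup V = ⊤)
    (hV : ∀ (g : L) (i : Ω) (v : U), v ∈ V i → g • v ∈ V (g • i)) : Sys L U Ω where
  π := prj V hi hs
  proj i u := by rw [prj_of_mem V hi hs i i _ (prj_mem V hi hs i u), if_pos rfl]
  orth i j u hij := by rw [prj_of_mem V hi hs j i _ (prj_mem V hi hs j u), if_neg hij.symm]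
  sum := sum_prj V hi hs
  eqv g i u := by
    conv_rhs => rw [← sum_prj V hi hs u, Finset.smul_sum, map_sum]
    rw [Finset.sum_eq_single i]
    · rw [prj_of_mem V hi hs (g • i) (g • i) _ (hV g i _ (prj_mem V hi hs i u)), if_pos rfl]
    · intro j _ hj
      rw [prj_of_mem V hi hs (g • j) (g • i) _ (hV g j _ (prj_mem V hi hs j u)), if_neg]
      intro h
      exact hj (MulAction.injective g h)
    · intro h; exact absurd (Finset.mem_univ i) h

end

end Sys

section

variable {L U : Type*} [Group L] [Finite L] [AddCommGroup U] [DistribMulAction L U]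

omit [Finite L] in
theorem exists_sys (hirr : Irr L U) (hI : Imprim L U) :
    ∃ X : Subgroup L, X ≠ ⊤ ∧ ∀ (_ : Fintype (L ⧸ X)), Nonempty (Sys L U (L ⧸ X)) := by
  classical
  obtain ⟨𝒟, hfin, h2, hne, hinv, hind, hsup⟩ := hI
  have hn : 𝒟.Nonempty := by
    rw [Set.nonempty_iff_ne_empty]
    rintro rfl
    simp at h2
  obtain ⟨D, hD⟩ := hn
  let X : Subgroup L := MulAction.stabilizer L D
  let V : L ⧸ X → AddSubgroup U := MulAction.ofQuotientStabilizer L D
  have hV : ∀ (g : L) (i : L ⧸ X), V (g • i) = g • V i := fun g i => MulAction.ofQuotientStabilizer_smul L D g i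
  have hV1 : ∀ g : L, V (g : L ⧸ X) = g • D := fun g => rfl
  have hmem : ∀ i, V i ∈ 𝒟 := by
    intro i
    induction i using QuotientGroup.induction_on with
    | H g => rw [hV1]; exact hinv g D hD
  have hinj : Function.Injective V := MulAction.injective_ofQuotientStabilizer L D
  have hi : iSupIndep V := by
    have h1 := (sSupIndep_iff 𝒟).1 hind
    exact h1.comp (f := fun i => ⟨V i, hmem i⟩) (fun a b h => hinj (congrArg Subtype.val h))
  have hW : ∀ (g : L) (w : U), w ∈ iSup V → g • w ∈ iSup V := by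
    intro g
    have h1 : iSup V ≤ (iSup V).comap (DistribSMul.toAddMonoidHom U g) := by
      apply iSup_le
      intro i v hv
      rw [AddSubgroup.mem_comap]
      apply le_iSup V (g • i)
      rw [hV]
      exact AddSubgroup.smul_mem_pointwise_smul v g (V i) hv
    exact h1
  have hDW : D ≤ iSup V := by
    have h1 := le_iSup V ((1 : L) : L ⧸ X)
    rwa [hV1, one_smul] at h1
  have htop : iSup V = ⊤ := by
    rcases hirr (iSup V) hW with h | h
    · exfalso
      rw [h] at hDW
      exact hne D hD (le_bot_iff.1 hDW)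
    · exact h
  refine ⟨X, ?_, ?_⟩
  · intro hX
    have h1 : iSup V ≤ D := by
      apply iSup_le
      intro i
      induction i using QuotientGroup.induction_on with
      | H g =>
        rw [hV1]
        have h3 : g ∈ X := by rw [hX]; trivial
        exact (MulAction.mem_stabilizer_iff.1 h3).le
    have h2' : D = ⊤ := top_le_iff.1 (htop ▸ h1)
    obtain ⟨D', hD', hne'⟩ := Set.exists_ne_of_one_lt_ncard (by omega : 1 < 𝒟.ncard) D
    have h3 : Disjoint D' D := hind.pairwiseDisjoint hD' hD hne'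
    rw [h2', disjoint_top] at h3
    exact hne D' hD' h3
  · intro _
    exact ⟨Sys.ofIndep V hi htop (fun g i v hv => by
      rw [hV]
      exact AddSubgroup.smul_mem_pointwise_smul v g (V i) hv)⟩

theorem exists_coatom_sys (hirr : Irr L U) (hI : Imprim L U) :
    ∃ X : Subgroup L, IsCoatom X ∧ ∀ (_ : Fintype (L ⧸ X)), Nonempty (Sys L U (L ⧸ X)) := by
  classical
  let 𝒳 : Set (Subgroup L) := {X | X ≠ ⊤ ∧ ∀ (_ : Fintype (L ⧸ X)), Nonempty (Sys L U (L ⧸ X))}
  have hne : 𝒳.Nonempty := exists_sys hirr hI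
  obtain ⟨X, hX⟩ := (Set.toFinite 𝒳).exists_maximal hne
  refine ⟨X, ⟨hX.prop.1, fun Y hXY => ?_⟩, hX.prop.2⟩
  by_contra hY
  have hmem : Y ∈ 𝒳 := by
    refine ⟨hY, fun inst => ?_⟩
    let _ : Fintype (L ⧸ X) := Fintype.ofFinite _
    obtain ⟨S⟩ := hX.prop.2 inferInstance
    refine ⟨S.coarse (Subgroup.quotientMapOfLE hXY.le) ?_⟩
    intro g i
    induction i using QuotientGroup.induction_on with
    | H x => rfl
  exact absurd (hX.le_of_ge hmem hXY.le) (not_le_of_gt hXY)

end

theorem nilp_of_ker_le {E A B : Type*} [Group E] [Group A] [Group B] (f : E →* A) (g : E →* B) (h : f.ker ≤ g.ker)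
    (hn : Group.IsNilpotent A) : Group.IsNilpotent g.range := by
  have h1 : Group.IsNilpotent (E ⧸ f.ker) := Subgroup.isNilpotent_of_ker_le_center (QuotientGroup.kerLift f) (by
    rw [(MonoidHom.ker_eq_bot_iff _).2 (QuotientGroup.kerLift_injective f)]
    exact bot_le)
  have h2 : ∀ x ∈ f.ker, g.rangeRestrict x = 1 := by
    intro x hx
    apply Subtype.ext
    exact h hx
  apply Group.nilpotent_of_surjective (QuotientGroup.lift f.ker g.rangeRestrict h2)
  intro y
  obtain ⟨x, hx⟩ := g.rangeRestrict_surjective y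
  exact ⟨x, hx⟩

namespace Sys

section

variable {L U : Type*} [Group L] [AddCommGroup U] [DistribMulAction L U] {X : Subgroup L} [Fintype (L ⧸ X)]

/-- the first component -/
def V (S : Sys L U (L ⧸ X)) : AddSubgroup U := (S.π ((1 : L) : L ⧸ X)).range

omit [Fintype (L ⧸ X)] in
theorem smul_one_coe {x : L} (hx : x ∈ X) : x • ((1 : L) : L ⧸ X) = ((1 : L) : L ⧸ X) := by
  show ((x * 1 : L) : L ⧸ X) = _
  rw [mul_one, QuotientGroup.eq]
  simpa using hx

omit [Fintype (L ⧸ X)] in
theorem mem_of_smul_one {x : L} (hx : x • ((1 : L) : L ⧸ X) = ((1 : L) : L ⧸ X)) : x ∈ X := by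
  have h1 : ((x * 1 : L) : L ⧸ X) = ((1 : L) : L ⧸ X) := hx
  rw [mul_one, QuotientGroup.eq] at h1
  simpa using h1

theorem mem_V_iff (S : Sys L U (L ⧸ X)) (v : U) : v ∈ S.V ↔ S.π ((1 : L) : L ⧸ X) v = v := by
  constructor
  · rintro ⟨w, rfl⟩
    exact S.proj _ w
  · intro h
    exact ⟨v, h⟩

theorem smul_mem (S : Sys L U (L ⧸ X)) {x : L} (hx : x ∈ X) {v : U} (hv : v ∈ S.V) : x • v ∈ S.V := by
  obtain ⟨w, rfl⟩ := hv
  rw [S.eqv, smul_one_coe hx]
  exact ⟨_, rfl⟩

/-- an element fixing a nonzero vector of the first component lies in the stabiliser -/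
theorem mem_of_fix (S : Sys L U (L ⧸ X)) {g : L} {v : U} (hv : v ∈ S.V) (hv0 : v ≠ 0) (h : g • v = v) : g ∈ X := by
  by_contra hg
  have h1 := S.eqv g ((1 : L) : L ⧸ X) v
  rw [(S.mem_V_iff v).1 hv, h] at h1
  apply hv0
  rw [h1]
  conv_lhs => rw [← (S.mem_V_iff v).1 hv]
  apply S.orth
  intro h2
  exact hg (mem_of_smul_one h2)

/-- the action of the stabiliser on the first component -/
@[reducible] def act (S : Sys L U (L ⧸ X)) : DistribMulAction X S.V where
  smul x v := ⟨(x : L) • (v : U), S.smul_mem x.2 v.2⟩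
  one_smul v := Subtype.ext (one_smul L (v : U))
  mul_smul x y v := Subtype.ext (mul_smul (x : L) (y : L) (v : U))
  smul_zero x := Subtype.ext (smul_zero (x : L))
  smul_add x v w := Subtype.ext (smul_add (x : L) (v : U) (w : U))

theorem act_coe (S : Sys L U (L ⧸ X)) (x : X) (v : S.V) :
    (letI := S.act; (x • v : S.V) : U) = (x : L) • (v : U) := rfl

theorem out_inv_smul_mem (S : Sys L U (L ⧸ X)) (i : L ⧸ X) (u : U) : (i.out)⁻¹ • S.π i u ∈ S.V := by
  rw [S.eqv]
  have h1 : (i.out)⁻¹ • i = ((1 : L) : L ⧸ X) := by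
    rw [inv_smul_eq_iff]
    show i = ((i.out * 1 : L) : L ⧸ X)
    rw [mul_one]
    exact (QuotientGroup.out_eq' i).symm
  rw [h1]
  exact ⟨_, rfl⟩

theorem irr (S : Sys L U (L ⧸ X)) (hirr : Irr L U) : @Irr X S.V _ _ S.act := by
  let _ := S.act
  intro W hW
  let W' : AddSubgroup U := {
    carrier := {u | ∀ i : L ⧸ X, (⟨(i.out)⁻¹ • S.π i u, S.out_inv_smul_mem i u⟩ : S.V) ∈ W}
    zero_mem' := by
      intro i
      have h1 : (⟨(i.out)⁻¹ • S.π i 0, S.out_inv_smul_mem i 0⟩ : S.V) = 0 := by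
        apply Subtype.ext
        show (i.out)⁻¹ • S.π i 0 = 0
        rw [map_zero, smul_zero]
      rw [h1]
      exact zero_mem _
    add_mem' := by
      intro a b ha hb i
      have h1 : (⟨(i.out)⁻¹ • S.π i (a + b), S.out_inv_smul_mem i (a + b)⟩ : S.V) =
          ⟨(i.out)⁻¹ • S.π i a, S.out_inv_smul_mem i a⟩ + ⟨(i.out)⁻¹ • S.π i b, S.out_inv_smul_mem i b⟩ := by
        apply Subtype.ext
        show (i.out)⁻¹ • S.π i (a + b) = (i.out)⁻¹ • S.π i a + (i.out)⁻¹ • S.π i b
        rw [map_add, smul_add]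
      rw [h1]
      exact add_mem (ha i) (hb i)
    neg_mem' := by
      intro a ha i
      have h1 : (⟨(i.out)⁻¹ • S.π i (-a), S.out_inv_smul_mem i (-a)⟩ : S.V) =
          -⟨(i.out)⁻¹ • S.π i a, S.out_inv_smul_mem i a⟩ := by
        apply Subtype.ext
        show (i.out)⁻¹ • S.π i (-a) = -((i.out)⁻¹ • S.π i a)
        rw [map_neg, smul_neg]
      rw [h1]
      exact neg_mem (ha i) }
  have hinv : ∀ g : L, ∀ w ∈ W', g • w ∈ W' := by
    intro g w hw j
    have hx : (j.out)⁻¹ * g * (g⁻¹ • j).out ∈ X := by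
      have h1 : ((j.out : L) : L ⧸ X) = ((g * (g⁻¹ • j).out : L) : L ⧸ X) := by
        rw [QuotientGroup.out_eq']
        show j = g • (((g⁻¹ • j).out : L) : L ⧸ X)
        rw [QuotientGroup.out_eq', smul_inv_smul]
      rw [QuotientGroup.eq] at h1
      rwa [mul_assoc]
    have h2 := hW ⟨_, hx⟩ _ (hw (g⁻¹ • j))
    convert h2 using 1
    apply Subtype.ext
    show (j.out)⁻¹ • S.π j (g • w) = ((j.out)⁻¹ * g * (g⁻¹ • j).out) • ((g⁻¹ • j).out)⁻¹ • S.π (g⁻¹ • j) w
    rw [← mul_smul, mul_assoc, mul_assoc, mul_inv_cancel, mul_one, mul_smul, S.eqv g, smul_inv_smul]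
  have hmem : ∀ v : S.V, (v : U) ∈ W' → v ∈ W := by
    intro v hv
    have h1 := hv ((1 : L) : L ⧸ X)
    have hx : (((1 : L) : L ⧸ X).out : L) ∈ X := by
      have h2 := QuotientGroup.out_eq' ((1 : L) : L ⧸ X)
      rw [QuotientGroup.eq] at h2
      simpa using h2
    have h2 := hW ⟨_, hx⟩ _ h1
    convert h2 using 1
    apply Subtype.ext
    show (v : U) = (((1 : L) : L ⧸ X).out : L) • (((1 : L) : L ⧸ X).out : L)⁻¹ • S.π ((1 : L) : L ⧸ X) (v : U)
    rw [smul_inv_smul, (S.mem_V_iff _).1 v.2]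
  have hmem' : ∀ v ∈ W, (v : U) ∈ W' := by
    intro v hv i
    by_cases hi : i = ((1 : L) : L ⧸ X)
    · subst hi
      have hx : (((1 : L) : L ⧸ X).out : L)⁻¹ ∈ X := by
        have h2 := QuotientGroup.out_eq' ((1 : L) : L ⧸ X)
        rw [QuotientGroup.eq] at h2
        simpa using h2
      have h2 := hW ⟨_, hx⟩ _ hv
      convert h2 using 1
      apply Subtype.ext
      show (((1 : L) : L ⧸ X).out : L)⁻¹ • S.π ((1 : L) : L ⧸ X) (v : U) = (((1 : L) : L ⧸ X).out : L)⁻¹ • (v : U)
      rw [(S.mem_V_iff _).1 v.2]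
    · have h1 : (⟨(i.out)⁻¹ • S.π i (v : U), S.out_inv_smul_mem i (v : U)⟩ : S.V) = 0 := by
        apply Subtype.ext
        show (i.out)⁻¹ • S.π i (v : U) = 0
        rw [← (S.mem_V_iff _).1 v.2, S.orth _ _ _ hi, smul_zero]
      rw [h1]
      exact zero_mem _
  rcases hirr W' hinv with h | h
  · left
    rw [eq_bot_iff]
    intro v hv
    have h1 := hmem' v hv
    rw [h, AddSubgroup.mem_bot] at h1
    rw [AddSubgroup.mem_bot]
    exact Subtype.ext h1
  · right
    rw [eq_top_iff]
    intro v _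
    apply hmem
    rw [h]
    trivial

theorem nilp [Finite L] (S : Sys L U (L ⧸ X)) (E : Subgroup L) (hE : E.Normal) (hEX : E ≤ X)
    (hn : Group.IsNilpotent ((E.subgroupOf X).map (letI := S.act; DistribMulAction.toAddAut X S.V))) :
    Group.IsNilpotent (E.map (DistribMulAction.toAddAut L U)) := by
  let _ := S.act
  let f₁ : E →* Multiplicative (AddAut S.V) := (DistribMulAction.toAddAut X S.V).comp (Subgroup.inclusion hEX)
  have hr1 : f₁.range = (E.subgroupOf X).map (DistribMulAction.toAddAut X S.V) := by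
    ext a
    constructor
    · rintro ⟨e, rfl⟩
      exact ⟨Subgroup.inclusion hEX e, e.2, rfl⟩
    · rintro ⟨x, hx, rfl⟩
      exact ⟨⟨x, hx⟩, rfl⟩
  have hn1 : Group.IsNilpotent f₁.range := by rw [hr1]; exact hn
  let F : E →* (L → f₁.range) := MonoidHom.pi fun g =>
    f₁.rangeRestrict.comp (MulAut.conjNormal g⁻¹ : MulAut E).toMonoidHom
  have hr2 : ((DistribMulAction.toAddAut L U).comp E.subtype).range = E.map (DistribMulAction.toAddAut L U) := by
    rw [MonoidHom.range_comp, Subgroup.range_subtype]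
  rw [← hr2]
  apply nilp_of_ker_le F _ ?_ inferInstance
  intro e he
  rw [MonoidHom.mem_ker] at he ⊢
  have h1 : ∀ (g : L) (w : U), w ∈ S.V → (g⁻¹ * e * g) • w = w := by
    intro g w hw
    have h2 : F e g = 1 := by rw [he]; rfl
    have h3 : f₁ ((MulAut.conjNormal g⁻¹ : MulAut E) e) = 1 := congrArg Subtype.val h2
    have h4 := congrArg Subtype.val (DFunLike.congr_fun (congrArg Multiplicative.toAdd h3) (⟨w, hw⟩ : S.V))
    have h5 : (((MulAut.conjNormal g⁻¹ : MulAut E) e : E) : L) • w = w := h4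
    rw [MulAut.conjNormal_apply, inv_inv] at h5
    exact h5
  ext u
  show (e : L) • u = u
  conv_lhs => rw [← S.sum u, Finset.smul_sum]
  conv_rhs => rw [← S.sum u]
  apply Finset.sum_congr rfl
  intro i _
  have h2 := h1 i.out _ (S.out_inv_smul_mem i u)
  rw [mul_smul, smul_inv_smul, mul_smul] at h2
  exact (smul_left_cancel _ h2)

end

end Sys

/-! ### group theory of `Split` -/

section

variable {L : Type*} [Group L] [Finite L]

omit [Finite L] in
theorem commutator_le {M H : Subgroup L} (hS : Split M H) : _root_.commutator L ≤ M := by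
  have hM := hS.normal
  rw [_root_.commutator_def, Subgroup.commutator_le]
  have h1 : ∀ x : L, ∃ m ∈ M, ∃ h ∈ H, x = m * h := by
    intro x
    have h2 : x ∈ M ⊔ H := by rw [hS.compl]; trivial
    rw [Subgroup.mem_sup_of_normal_left] at h2
    obtain ⟨m, hm, h, hh, e⟩ := h2
    exact ⟨m, hm, h, hh, e.symm⟩
  intro x _ y _
  obtain ⟨m, hm, h, hh, rfl⟩ := h1 x
  obtain ⟨m', hm', h', hh', rfl⟩ := h1 y
  rw [← QuotientGroup.eq_one_iff]
  have e1 : ((m * h : L) : L ⧸ M) = ((h : L) : L ⧸ M) := by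
    rw [QuotientGroup.mk_mul, (QuotientGroup.eq_one_iff m).2 hm, one_mul]
  have e2 : ((m' * h' : L) : L ⧸ M) = ((h' : L) : L ⧸ M) := by
    rw [QuotientGroup.mk_mul, (QuotientGroup.eq_one_iff m').2 hm', one_mul]
  have e3 : ((⁅m * h, m' * h'⁆ : L) : L ⧸ M) = ⁅((m * h : L) : L ⧸ M), ((m' * h' : L) : L ⧸ M)⁆ := rfl
  rw [e3, e1, e2]
  have e4 : (⁅((h : L) : L ⧸ M), ((h' : L) : L ⧸ M)⁆) = ((⁅h, h'⁆ : L) : L ⧸ M) := rfl
  rw [e4, commutatorElement_def, hS.comm h hh h' hh', mul_assoc, mul_assoc, ← mul_assoc h h⁻¹, mul_inv_cancel, one_mul,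
    mul_inv_cancel]
  rfl

omit [Finite L] in
theorem isCompl {M H : Subgroup L} (hS : Split M H) : Subgroup.IsComplement' M H := by
  have hM := hS.normal
  apply Subgroup.isComplement'_of_disjoint_and_mul_eq_univ (Subgroup.disjoint_of_coprime_natCard hS.cop)
  rw [← Subgroup.normal_mul, hS.compl]
  rfl

omit [Finite L] in
theorem card_mul {M H : Subgroup L} (hS : Split M H) : Nat.card M * Nat.card H = Nat.card L :=
  (isCompl hS).card_mul_card

theorem index_eq {M H : Subgroup L} (hS : Split M H) : M.index = Nat.card H := by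
  have h1 := card_mul hS
  have h2 := M.card_mul_index
  rw [← h1] at h2
  exact Nat.eq_of_mul_eq_mul_left Nat.card_pos h2

theorem split_sub {M H : Subgroup L} (hS : Split M H) (X : Subgroup L) :
    ∃ H1 : Subgroup X, Split (M.subgroupOf X) H1 ∧ Nat.card H1 ∣ Nat.card H := by
  have hM := hS.normal
  have h1 : (M.subgroupOf X).index ∣ Nat.card H := by
    rw [← index_eq hS]
    exact Subgroup.relIndex_dvd_index_of_normal M X
  have h2 : Nat.card (M.subgroupOf X) ∣ Nat.card M := by
    have h3 : Nat.card (M.subgroupOf X) = Nat.card (M ⊓ X : Subgroup L) := by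
      rw [← Subgroup.subgroupOf_map_subtype]
      exact (Nat.card_congr ((M.subgroupOf X).equivMapOfInjective X.subtype X.subtype_injective).toEquiv)
    rw [h3]
    exact Subgroup.card_dvd_of_le inf_le_left
  have hcop : (Nat.card (M.subgroupOf X)).Coprime (M.subgroupOf X).index :=
    Nat.Coprime.coprime_dvd_left h2 (Nat.Coprime.coprime_dvd_right h1 hS.cop)
  obtain ⟨H1, hH1⟩ := Subgroup.exists_right_complement'_of_coprime hcop
  have hidx : (M.subgroupOf X).index = Nat.card H1 := hH1.symm.index_eq_card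
  refine ⟨H1, ⟨inferInstance, ?_, hidx ▸ hcop, hH1.sup_eq_top⟩, hidx ▸ h1⟩
  intro a ha b hb
  have h3 : ⁅a, b⁆ ∈ M.subgroupOf X := by
    rw [Subgroup.mem_subgroupOf]
    exact commutator_le hS (Subgroup.commutator_mem_commutator (Subgroup.mem_top (a : L)) (Subgroup.mem_top (b : L)))
  have h4 : ⁅a, b⁆ ∈ H1 := by
    rw [commutatorElement_def]
    exact mul_mem (mul_mem (mul_mem ha hb) (inv_mem ha)) (inv_mem hb)
  have h5 : ⁅a, b⁆ = 1 := Subgroup.disjoint_def.1 hH1.disjoint h3 h4
  exact commutatorElement_eq_one_iff_mul_comm.1 h5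

omit [Finite L] in
theorem comm_smul_le {M : Subgroup L} {p : ℕ} (P : Sylow p L) {m : L} (hm : m ∈ M) :
    ⁅M, ((m • P : Sylow p L) : Subgroup L)⁆ ≤ ⁅M, (P : Subgroup L)⁆ := by
  rw [Subgroup.commutator_le]
  intro k hk b hb
  rw [Sylow.coe_subgroup_smul, Subgroup.mem_pointwise_smul_iff_inv_smul_mem] at hb
  have hb' : m⁻¹ * b * m ∈ (P : Subgroup L) := by simpa [MulAut.smul_def, mul_assoc] using hb
  have h1 : ⁅m⁻¹ * k * m, m⁻¹ * b * m⁆ ∈ ⁅M, (P : Subgroup L)⁆ :=
    Subgroup.commutator_mem_commutator (mul_mem (mul_mem (inv_mem hm) hk) hm) hb'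
  have h2 := (Subgroup.mem_normalizer_iff.1
    (Lib.CoprimeCommutator.left_le_normalizer_commutator M (P : Subgroup L) hm) _).1 h1
  have h3 : ⁅k, b⁆ = m * ⁅m⁻¹ * k * m, m⁻¹ * b * m⁆ * m⁻¹ := by
    simp only [commutatorElement_def]; group
  rw [h3]
  exact h2

theorem comm_smul {M H : Subgroup L} (hS : Split M H) {p : ℕ} [Fact p.Prime] (P : Sylow p L) (g : L) :
    ⁅M, ((g • P : Sylow p L) : Subgroup L)⁆ = ⁅M, (P : Subgroup L)⁆ := by
  have hM := hS.normal
  let N : Subgroup L := M ⊔ (P : Subgroup L)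
  have hN : N.Normal := by
    apply Subgroup.Normal.of_commutator_le
    exact (commutator_le hS).trans le_sup_left
  have hP : (P : Subgroup L) ≤ N := le_sup_right
  have hgP : ((g • P : Sylow p L) : Subgroup L) ≤ N := by
    intro x hx
    rw [Sylow.coe_subgroup_smul, Subgroup.mem_pointwise_smul_iff_inv_smul_mem] at hx
    have h1 := hN.conj_mem _ (hP hx) g
    simpa [MulAut.smul_def, mul_assoc] using h1
  obtain ⟨x, hx⟩ := MulAction.exists_smul_eq N (P.subtype hP) ((g • P).subtype hgP)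
  have hx2 : ((x : L) • P : Sylow p L) = g • P := by
    have h2 := congrArg (fun Q : Sylow p N => (Q : Subgroup N).map N.subtype) hx
    apply Sylow.ext
    simp only [Sylow.coe_subtype, Subgroup.subgroupOf_map_subtype] at h2
    rw [inf_of_le_left hgP] at h2
    rw [← h2]
    ext y
    simp only [Sylow.coe_subgroup_smul, Subgroup.mem_map, Subgroup.mem_pointwise_smul_iff_inv_smul_mem]
    constructor
    · intro hy
      have hyN : y ∈ N := by
        have h3 := hN.conj_mem _ (hP hy) (x : L)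
        simpa [MulAut.smul_def, mul_assoc] using h3
      exact ⟨⟨y, hyN⟩, hy, rfl⟩
    · rintro ⟨z, hz, rfl⟩
      exact hz
  rw [← hx2]
  have h3 : (x : L) ∈ M ⊔ (P : Subgroup L) := x.2
  rw [Subgroup.mem_sup_of_normal_left] at h3
  obtain ⟨m, hm, a, ha, e⟩ := h3
  have h4 : ((x : L) • P : Sylow p L) = m • P := by
    rw [← e, mul_smul]
    congr 1
    exact Sylow.smul_eq_iff_mem_normalizer.2 (Subgroup.le_normalizer ha)
  rw [h4]
  apply le_antisymm (comm_smul_le P hm)
  have h5 := comm_smul_le (m • P) (inv_mem hm)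
  rwa [inv_smul_smul] at h5

theorem comm_normal {M H : Subgroup L} (hS : Split M H) {p : ℕ} [Fact p.Prime] (P : Sylow p L) :
    (⁅M, (P : Subgroup L)⁆).Normal := by
  have hM := hS.normal
  constructor
  intro n hn g
  have h1 : g * n * g⁻¹ ∈ (⁅M, (P : Subgroup L)⁆).map (MulAut.conj g).toMonoidHom := ⟨n, hn, rfl⟩
  rw [Subgroup.map_commutator] at h1
  rw [← comm_smul hS P g]
  refine Subgroup.commutator_mono ?_ ?_ h1
  · rintro _ ⟨m, hm, rfl⟩
    exact hM.conj_mem m hm g
  · rintro _ ⟨a, ha, rfl⟩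
    rw [Sylow.coe_subgroup_smul]
    exact ⟨a, ha, rfl⟩

theorem exists_sylow_le {S : Subgroup L} {p : ℕ} [Fact p.Prime] (h : ¬ p ∣ S.index) :
    ∃ Q : Sylow p L, (Q : Subgroup L) ≤ S := by
  obtain ⟨Q'⟩ := (inferInstance : Nonempty (Sylow p S))
  have h1 : IsPGroup p ((Q' : Subgroup S).map S.subtype) := Q'.isPGroup'.map S.subtype
  have h2 : ¬ p ∣ ((Q' : Subgroup S).map S.subtype).index := by
    rw [Subgroup.index_map_subtype]
    exact (Fact.out : p.Prime).not_dvd_mul Q'.not_dvd_index h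
  exact ⟨h1.toSylow h2, by
    rintro _ ⟨x, _, rfl⟩
    exact x.2⟩

theorem not_dvd_of_sylow_le {S : Subgroup L} {p : ℕ} [Fact p.Prime] (Q : Sylow p L) (h : (Q : Subgroup L) ≤ S) :
    ¬ p ∣ S.index := fun h' => Q.not_dvd_index (h'.trans (Subgroup.index_dvd_of_le h))

end

theorem nilp_mono {A : Type*} [Group A] {B C : Subgroup A} (h : B ≤ C) (hn : Group.IsNilpotent C) :
    Group.IsNilpotent B :=
  Subgroup.isNilpotent_of_ker_le_center (Subgroup.inclusion h) (by
    rw [(MonoidHom.ker_eq_bot_iff _).2 (Subgroup.inclusion_injective h)]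
    exact bot_le)

theorem key {L U : Type u} [Group L] [Finite L] [Group.IsSolvable L] [AddCommGroup U]
    [Finite U] [Nontrivial U] [DistribMulAction L U] (M H : Subgroup L) (r n : ℕ) (hS : Split M H) (hr : r.Prime)
    (hrU : ∀ u : U, r • u = 0) (hrH : ¬ r ∣ Nat.card H) (hirr : Irr L U)
    (hM : ∀ q : ℕ, q.Prime → q ∣ Nat.card M → q ∣ n) (hrn : r ∣ n) (IH : LinearStmt.{u} (Nat.card U))
    (X : Subgroup L) (hX : X ≠ ⊤) [Fintype (L ⧸ X)] (S : Sys L U (L ⧸ X)) :
    ∃ u₁ : U, u₁ ∈ S.V ∧ u₁ ≠ 0 ∧ ∀ p : ℕ, p.Prime → p ∣ Nat.card H → Good p n → ∀ Q : Sylow p L,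
      (Q : Subgroup L) ≤ X → (∀ g ∈ Q, g • u₁ = u₁) → ⁅M, (Q : Subgroup L)⁆ ≤ ⁅M ⊓ X, (Q : Subgroup L)⁆ →
      Group.IsNilpotent ((⁅M, (Q : Subgroup L)⁆).map (DistribMulAction.toAddAut L U)) := by
  classical
  let _ := S.act
  have hMn := hS.normal
  obtain ⟨H1, hS1, hH1⟩ := split_sub hS X
  have hMX : Nat.card (M.subgroupOf X) ∣ Nat.card M := by
    have h3 : Nat.card (M.subgroupOf X) = Nat.card (M ⊓ X : Subgroup L) := by
      rw [← Subgroup.subgroupOf_map_subtype]
      exact (Nat.card_congr ((M.subgroupOf X).equivMapOfInjective X.subtype X.subtype_injective).toEquiv)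
    rw [h3]
    exact Subgroup.card_dvd_of_le inf_le_left
  -- the first component
  have hVne : ∃ w : U, S.π ((1 : L) : L ⧸ X) w ≠ 0 := S.ne_zero _
  have hnt : Nontrivial S.V := by
    obtain ⟨w, hw⟩ := hVne
    exact ⟨⟨⟨_, ⟨w, rfl⟩⟩, 0, fun h => hw (congrArg Subtype.val h)⟩⟩
  have hlt : Nat.card S.V < Nat.card U := by
    have h1 : ∃ g : L, g ∉ X := by
      by_contra! h
      exact hX (eq_top_iff.2 fun g _ => h g)
    obtain ⟨g, hg⟩ := h1
    obtain ⟨w, hw⟩ := S.ne_zero ((g : L) : L ⧸ X)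
    have h2 : S.V ≠ ⊤ := by
      intro h
      have h3 : S.π ((g : L) : L ⧸ X) w ∈ S.V := by rw [h]; trivial
      rw [S.mem_V_iff, S.orth] at h3
      · exact hw h3.symm
      · intro h4
        rw [QuotientGroup.eq] at h4
        exact hg (by simpa using h4)
    have h3 : (S.V : Set U) ≠ Set.univ := by
      intro h
      exact h2 (SetLike.coe_injective h)
    have h4 : (S.V : Set U) ⊂ Set.univ := Set.ssubset_univ_iff.2 h3
    have h5 := Set.ncard_lt_ncard h4 (Set.toFinite _)
    rw [Set.ncard_univ] at h5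
    exact h5
  have hrV : ∀ v : S.V, r • v = 0 := fun v => Subtype.ext (hrU v)
  have hMX' : ∀ q : ℕ, q.Prime → q ∣ Nat.card (M.subgroupOf X) → q ∣ n := fun q hq h => hM q hq (h.trans hMX)
  obtain ⟨⟨u₁, hu₁⟩, hne, hconcl⟩ := IH X S.V (M.subgroupOf X) H1 r n hlt hS1 hr hrV (fun h => hrH (h.trans hH1))
    (S.irr hirr) hMX' hrn
  refine ⟨u₁, hu₁, fun h => hne (Subtype.ext h), ?_⟩
  intro p hp hpH hgood Q hQX hfix hle
  have : Fact p.Prime := ⟨hp⟩
  by_contra hnil
  have hpM : ¬ p ∣ Nat.card M := fun h => hp.one_lt.ne' (Nat.dvd_one.1 (hS.cop ▸ Nat.dvd_gcd h hpH))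
  have hpL : p ∣ Nat.card L := (card_mul hS) ▸ (hpH.mul_left _)
  have hpQ : p ∣ Nat.card Q := Q.dvd_card_of_dvd_card hpL
  have hpX : p ∣ Nat.card X := hpQ.trans (Subgroup.card_dvd_of_le hQX)
  have hpH1 : p ∣ Nat.card H1 := by
    rw [← card_mul hS1] at hpX
    exact (hp.dvd_mul.1 hpX).resolve_left fun h => hpM (h.trans hMX)
  have hEX : ⁅M, (Q : Subgroup L)⁆ ≤ X :=
    hle.trans ((Subgroup.commutator_mono inf_le_right hQX).trans (Subgroup.commutator_le_self X))
  have hdvd := hconcl p hp hpH1 hgood (Q.subtype hQX) (by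
    intro hn
    apply hnil
    apply S.nilp _ (comm_normal hS Q) hEX
    refine nilp_mono (Subgroup.map_mono ?_) hn
    have h1 : ((⁅M, (Q : Subgroup L)⁆).subgroupOf X).map X.subtype ≤
        (⁅M.subgroupOf X, ((Q.subtype hQX : Sylow p X) : Subgroup X)⁆).map X.subtype := by
      rw [Subgroup.map_commutator, Subgroup.subgroupOf_map_subtype, Sylow.coe_subtype, Subgroup.subgroupOf_map_subtype,
        Subgroup.subgroupOf_map_subtype, inf_of_le_left hQX]
      exact inf_le_left.trans hle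
    exact (Subgroup.map_le_map_iff_of_injective X.subtype_injective).1 h1)
  refine not_dvd_of_sylow_le (Q.subtype hQX) ?_ hdvd
  intro x hx
  rw [MulAction.mem_stabilizer_iff]
  apply Subtype.ext
  exact hfix (x : L) hx

theorem exists_eq_of_orderOf {Ω : Type*} [Finite Ω] {p : ℕ} [Fact p.Prime] {L : Type*} [Group L] [Finite L] [MulAction L Ω]
    (Q : Sylow p L) (h : ∀ g ∈ Q, orderOf (MulAction.toPermHom L Ω g) ≠ p) : ∀ g ∈ Q, ∀ i : Ω, g • i = i := by
  intro g hg i
  have h0 : MulAction.toPermHom L Ω g = 1 := by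
    by_contra hne
    obtain ⟨k, hk⟩ := Q.isPGroup' ⟨g, hg⟩
    have hk' : g ^ p ^ k = 1 := congrArg Subtype.val hk
    have h1 : orderOf (MulAction.toPermHom L Ω g) ∣ p ^ k := orderOf_dvd_of_pow_eq_one (by
      rw [← map_pow, hk', map_one])
    obtain ⟨m, _, hm⟩ := (Nat.dvd_prime_pow Fact.out).1 h1
    have hm0 : m ≠ 0 := by
      rintro rfl
      rw [pow_zero, orderOf_eq_one_iff] at hm
      exact hne hm
    obtain ⟨m', rfl⟩ := Nat.exists_eq_succ_of_ne_zero hm0
    apply h (g ^ p ^ m') (pow_mem hg _)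
    rw [map_pow, orderOf_pow_of_dvd (pow_ne_zero _ (Fact.out : p.Prime).ne_zero), hm, pow_succ, Nat.mul_div_cancel_left]
    · exact pow_pos (Fact.out : p.Prime).pos _
    · rw [hm]; exact pow_dvd_pow p (Nat.le_succ m')
  have h1 := congrArg (fun σ : Equiv.Perm Ω => σ i) h0
  exact h1

theorem imprim_step (hY : SetLemma.{u}) {L U : Type u} [Group L] [Finite L] [Group.IsSolvable L] [AddCommGroup U]
    [Finite U] [Nontrivial U] [DistribMulAction L U] (M H : Subgroup L) (r n : ℕ) (hS : Split M H) (hr : r.Prime)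
    (hrU : ∀ u : U, r • u = 0) (hrH : ¬ r ∣ Nat.card H) (hirr : Irr L U)
    (hM : ∀ q : ℕ, q.Prime → q ∣ Nat.card M → q ∣ n) (hrn : r ∣ n) (IH : LinearStmt.{u} (Nat.card U))
    (hI : Imprim L U) : Concl M H U n := by
  classical
  obtain ⟨X, hXc, hX⟩ := exists_coatom_sys hirr hI
  let _ : Fintype (L ⧸ X) := Fintype.ofFinite _
  obtain ⟨S⟩ := hX inferInstance
  have hMn := hS.normal
  obtain ⟨u₁, hu₁, hne, hkey⟩ := key M H r n hS hr hrU hrH hirr hM hrn IH X hXc.1 S
  by_cases hMX : M ≤ X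
  · refine ⟨u₁, hne, ?_⟩
    intro p hp hpH hgood P hnil
    have : Fact p.Prime := ⟨hp⟩
    by_contra hdvd
    obtain ⟨Q, hQ⟩ := exists_sylow_le hdvd
    apply hnil
    obtain ⟨g, hg⟩ := MulAction.exists_smul_eq L P Q
    rw [← comm_smul hS P g, hg]
    apply hkey p hp hpH hgood Q
    · intro x hx
      exact S.mem_of_fix hu₁ hne (hQ hx)
    · intro x hx
      exact hQ hx
    · rw [inf_of_le_left hMX]
  · -- `M X = L`
    have hsup : X ⊔ M = ⊤ := by
      have h1 : X < X ⊔ M := lt_of_le_of_ne le_sup_left fun h => hMX (h ▸ le_sup_right)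
      exact hXc.2 _ h1
    have hcard : X.index ∣ Nat.card M := by
      have h1 : M.relIndex X = M.index := by
        rw [← Subgroup.relIndex_sup_right, hsup, Subgroup.relIndex_top_right]
      have h2 : Nat.card (M.subgroupOf X) * M.relIndex X = Nat.card X := (M.subgroupOf X).card_mul_index
      have h3 := X.card_mul_index
      have h4 := M.card_mul_index
      rw [← h4, ← h2, h1] at h3
      have h5 : 0 < M.index := Nat.pos_of_ne_zero Subgroup.index_ne_zero_of_finite
      refine ⟨Nat.card (M.subgroupOf X), ?_⟩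
      apply Nat.eq_of_mul_eq_mul_right h5
      rw [← h3]
      ring
    have hntX : Nontrivial (L ⧸ X) := by
      have h1 : ∃ g : L, g ∉ X := by
        by_contra! h
        exact hXc.1 (eq_top_iff.2 fun g _ => h g)
      obtain ⟨g, hg⟩ := h1
      refine ⟨⟨((g : L) : L ⧸ X), ((1 : L) : L ⧸ X), fun h4 => ?_⟩⟩
      rw [QuotientGroup.eq] at h4
      exact hg (by simpa using h4)
    have hprim : MulAction.IsPreprimitive L (L ⧸ X) := by
      rw [← MulAction.isCoatom_stabilizer_iff_preprimitive L ((1 : L) : L ⧸ X), MulAction.stabilizer_quotient]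
      exact hXc
    let G := (MulAction.toPermHom L (L ⧸ X)).range
    have hprimG : MulAction.IsPreprimitive G (L ⧸ X) := by
      let f : (L ⧸ X) →ₑ[(MulAction.toPermHom L (L ⧸ X)).rangeRestrict] (L ⧸ X) := {
        toFun := id
        map_smul' := fun g i => rfl }
      exact MulAction.IsPreprimitive.of_surjective (f := f) Function.surjective_id
    have hsol : Group.IsSolvable G := Group.isSolvable_of_surjective (MulAction.toPermHom L (L ⧸ X)).rangeRestrict_surjective
    obtain ⟨Γ, hΓ, hΓ2⟩ := hY G (L ⧸ X) hprimG {p | p.Prime ∧ p ∣ Nat.card H ∧ Good p n} (by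
      rintro p ⟨hp, hpH, hg⟩
      refine ⟨hp, hg.1, fun h => ?_⟩
      exact hp.one_lt.ne' (Nat.dvd_one.1 (hS.cop ▸ Nat.dvd_gcd (h.trans hcard) hpH))) (by
      rintro ⟨_, _, hg⟩
      exact ⟨fun h => (hg.2.1 rfl).1 (hM 2 Nat.prime_two (h.trans hcard)),
        fun h => (hg.2.1 rfl).2 (hM 3 Nat.prime_three (h.trans hcard))⟩)
    let u : U := ∑ i with i ∈ Γ, i.out • u₁
    have hπ : ∀ i j : L ⧸ X, S.π j (i.out • u₁) = if j = i then i.out • u₁ else 0 := by
      intro i j
      have h1 : i.out • u₁ = S.π i (i.out • u₁) := by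
        conv_lhs => rw [← (S.mem_V_iff u₁).1 hu₁, S.eqv]
        congr 2
        show ((i.out * 1 : L) : L ⧸ X) = i
        rw [mul_one]
        exact QuotientGroup.out_eq' i
      split_ifs with h
      · rw [h, ← h1]
      · rw [h1, S.orth _ _ _ h]
    have hu : ∀ j, S.π j u = if j ∈ Γ then j.out • u₁ else 0 := by
      intro j
      show S.π j (∑ i with i ∈ Γ, i.out • u₁) = _
      rw [map_sum]
      simp only [hπ]
      rw [Finset.sum_ite_eq]
      simp
    have hmem : ∀ j, j ∈ Γ ↔ S.π j u ≠ 0 := by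
      intro j
      rw [hu]
      by_cases hj : j ∈ Γ
      · rw [if_pos hj]
        simp only [hj, true_iff]
        intro h
        apply hne
        rwa [smul_eq_zero_iff_eq] at h
      · rw [if_neg hj]
        simp [hj]
    refine ⟨u, ?_, ?_⟩
    · intro h
      obtain ⟨j, hj⟩ := hΓ
      apply (hmem j).1 hj
      rw [h, map_zero]
    · intro p hp hpH hgood P hnil
      have : Fact p.Prime := ⟨hp⟩
      by_contra hdvd
      obtain ⟨Q, hQ⟩ := exists_sylow_le hdvd
      have hQu : ∀ g ∈ Q, g • u = u := fun g hg => hQ hg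
      have hQπ : ∀ g ∈ Q, ∀ i, g • S.π i u = S.π (g • i) u := by
        intro g hg i
        rw [S.eqv, hQu g hg]
      have hQΓ : ∀ g ∈ Q, ∀ i, i ∈ Γ ↔ g • i ∈ Γ := by
        intro g hg i
        rw [hmem, hmem, ← hQπ g hg]
        rw [not_iff_not, smul_eq_zero_iff_eq]
      have htriv : ∀ g ∈ Q, ∀ i : L ⧸ X, g • i = i := by
        apply exists_eq_of_orderOf
        intro g hg hord
        apply hΓ2 ((MulAction.toPermHom L (L ⧸ X)).rangeRestrict g) p ⟨hp, hpH, hgood⟩
        · rw [← hord]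
          exact Subgroup.orderOf_mk _ _
        · ext i
          rw [Set.mem_smul_set_iff_inv_smul_mem]
          have h1 : ((MulAction.toPermHom L (L ⧸ X)).rangeRestrict g)⁻¹ • i = g⁻¹ • i := by
            rw [← map_inv]
            rfl
          rw [h1]
          have h2 := hQΓ g hg (g⁻¹ • i)
          rwa [smul_inv_smul] at h2
      obtain ⟨i, hi⟩ := hΓ
      apply hnil
      obtain ⟨g, hg⟩ := MulAction.exists_smul_eq L P ((i.out)⁻¹ • Q)
      rw [← comm_smul hS P g, hg]
      have hconj : ∀ x ∈ (i.out)⁻¹ • Q, i.out * x * (i.out)⁻¹ ∈ Q := by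
        intro x hx
        have h1 : x ∈ (((i.out)⁻¹ • Q : Sylow p L) : Subgroup L) := hx
        rw [Sylow.coe_subgroup_smul, Subgroup.mem_pointwise_smul_iff_inv_smul_mem] at h1
        have h2 : i.out * x * (i.out)⁻¹ ∈ (Q : Subgroup L) := by
          simpa [MulAut.smul_def, mul_assoc] using h1
        exact h2
      have hcore : (((i.out)⁻¹ • Q : Sylow p L) : Subgroup L) ≤ X.normalCore := by
        intro x hx b
        have h1 := htriv _ (hconj x hx) (i.out • (b⁻¹ : L) • ((1 : L) : L ⧸ X))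
        rw [mul_smul, mul_smul, inv_smul_smul] at h1
        have h2 := smul_left_cancel _ h1
        apply Sys.mem_of_smul_one
        rw [mul_smul, mul_smul, h2, smul_inv_smul]
      apply hkey p hp hpH hgood ((i.out)⁻¹ • Q)
      · exact hcore.trans X.normalCore_le
      · intro x hx
        have h1 := hQπ _ (hconj x hx) i
        rw [htriv _ (hconj x hx) i, hu, if_pos hi, mul_smul, mul_smul, inv_smul_smul] at h1
        exact smul_left_cancel _ h1
      · have hpM : ¬ p ∣ Nat.card M := fun h => hp.one_lt.ne' (Nat.dvd_one.1 (hS.cop ▸ Nat.dvd_gcd h hpH))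
        have h1 := Lib.CoprimeCommutator.commutator_commutator_eq (((i.out)⁻¹ • Q : Sylow p L) : Subgroup L) M
          (by rw [Subgroup.normalizer_eq_top]; exact le_top) (by
            obtain ⟨k, hk⟩ := (((i.out)⁻¹ • Q : Sylow p L)).isPGroup'.exists_card_eq
            rw [hk]
            exact Nat.Coprime.pow_left _ ((Nat.Prime.coprime_iff_not_dvd hp).2 hpM))
        conv_lhs => rw [← h1]
        refine Subgroup.commutator_mono (le_inf ?_ ?_) le_rfl
        · exact Subgroup.commutator_le_left _ _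
        · exact ((Subgroup.commutator_mono le_rfl hcore).trans (Subgroup.commutator_le_right _ _)).trans X.normalCore_le

end Cfsg.Agent.H158.Cls7
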