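import Cfsg.Agent.GenOrth.Rows
import Cfsg.Agent.H526.ObComp
import Cfsg.Agent.S0301
import Cfsg.Agent.S0302
import Cfsg.Agent.S0303

/-!
# S5004, S5007: the orthogonal groups in odd characteristic have more than one 2-block

An involution of `Ω(Q)` has a component `Ω(Q')` in its centralizer (`GenOrth.HasEmb`): `Q'` of dimension 5 if
`dim Q = 7`, of dimension 6 if `dim Q = 8`, of dimension 8 and plus type if `dim Q ≥ 9`.
-/

set_option autoImplicit false

namespace Cfsg.Agent.H158.ObOrth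

open QuadraticMap Cfsg Subgroup
open Cfsg.Agent.LieClassical.OrthCore Cfsg.Agent.LieClassical.OrthTrans Cfsg.Agent.LieClassical.OrthSimple
open Cfsg.Agent.LieClassical.OrthForms Cfsg.Agent.LieClassical.OrthFinite Cfsg.Agent.GenOrth
open Cfsg.Agent.H526.OB Cfsg.Agent.TitsThree.KSideO

section

variable {ι ι' : Type} [Fintype ι] [DecidableEq ι] [Fintype ι'] [DecidableEq ι'] {F : Type} [Field F] [Fintype F]
  {Q : QuadraticForm F (ι → F)} {Q' : QuadraticForm F (ι' → F)}

theorem finite_pomega : Finite (POmega F ⇑Q) := by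
  have : Finite (Matrix.GeneralLinearGroup ι F) := by
    unfold Matrix.GeneralLinearGroup; infer_instance
  infer_instance

omit [Fintype F] in
theorem nb_E (hG' : Good Q') [Finite (E Q')] (h : NB (POmega F ⇑Q')) : NB (E Q') := by
  refine NB.of_surjective (toPOmega hG') (toPOmega_surjective hG') ?_ h
  intro g hg
  exact center_of_toPOmega hG' hg

theorem nb_of_hasEmb (hG : Good Q) (h2 : (2 : F) ≠ 0) (hG' : Good Q') (h : HasEmb Q Q')
    (hNB : NB (POmega F ⇑Q')) : NB (POmega F ⇑Q) := by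
  have := finite_pomega (Q := Q)
  obtain ⟨e, ε, t, hε, htE, ht, v₀, hv₀, hπ⟩ := h
  let f := MulEquiv.refl (POmega F ⇑Q)
  obtain ⟨s, hs⟩ : ∃ s : E Q, s = ⟨t, htE⟩ := ⟨_, rfl⟩
  have ht' : e.IsInv ε s.1 := by rw [hs]; exact ht
  have hinj := proj_ext_injective hG f e hv₀ hπ
  have hcov := cover hG f h2 e hε ht'
  set K : Subgroup (POmega F ⇑Q) := ((proj hG f).comp e.extE).range with hK
  have iso : ↥(E Q') ≃* ↥K := MonoidHom.ofInjective hinj
  have : Finite (E Q') := Finite.of_equiv _ iso.symm.toEquiv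
  have hx : orderOf (proj hG f s) = 2 := orderOf_proj hG f h2 hG' e hε ht' hv₀ hπ
  have hcc : Subgroup.centralizer ((Subgroup.zpowers (proj hG f s) : Subgroup _) : Set (POmega F ⇑Q)) =
      Subgroup.centralizer ({proj hG f s} : Set _) := by
    rw [Subgroup.zpowers_eq_closure]
    exact Subgroup.centralizer_closure _
  refine NB.of_component (Subgroup.zpowers (proj hG f s)) ?_ K ?_ ?_ (MonoidHom.id K) (fun x => ⟨x, rfl⟩) ?_
    (NB.iso iso (nb_E hG' hNB))
  · apply IsPGroup.of_card (n := 1)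
    rw [Nat.card_zpowers, hx, pow_one]
  · rw [hcc]
    rintro _ ⟨h, rfl⟩
    rw [mem_centralizer_singleton_iff]
    exact hcov.comm h
  · rw [hcc]
    intro g hg
    obtain ⟨g, rfl⟩ := hcov.surj g
    rw [mem_centralizer_singleton_iff] at hg
    rcases hcov.conj g (by rw [map_mul, map_mul]; exact hg) with h | h
    · left
      rintro _ ⟨k, rfl⟩
      obtain ⟨h', hh⟩ := h k
      exact ⟨h', by
        change (proj hG f) (e.extE h') = (proj hG f) g * (proj hG f) (e.extE k) * ((proj hG f) g)⁻¹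
        rw [← hh, map_mul, map_mul, map_inv]⟩
    · right
      rintro _ ⟨k, rfl⟩ _ ⟨l, rfl⟩
      have h1 := h k l
      simp only [map_mul, map_inv] at h1
      exact h1
  · rw [MonoidHom.ker_id]; exact bot_le

/-- hypotheses: the rows `PSp₄(q)`, `PSL₄(q)`, `PSU₄(q)` -/
structure Small (F : Type) [Field F] [Fintype F] : Prop where
  psp : NB (PSp 2 F)
  psl : NB (Matrix.ProjectiveSpecialLinearGroup (Fin 4) F)
  psu : ∃ (K : Type) (_ : Field K) (_ : Fintype K), Fintype.card K = Fintype.card F ^ 2 ∧ NB (PSU 4 K (Fintype.card F))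

theorem nb_five (H : Small F) (h2 : Odd (Fintype.card F)) : NB (POmega F ⇑(oddForm 2 F)) := by
  obtain ⟨e⟩ := S0301.result (F := F) h2
  rw [coe_oddForm]
  exact NB.iso e.symm H.psp

theorem nb_six_plus (H : Small F) : NB (POmega F ⇑(plusForm 3 F)) := by
  obtain ⟨e⟩ := S0302.result (F := F)
  rw [coe_plusForm]
  exact NB.iso e.symm H.psl

theorem nb_six_minus (H : Small F) {a b : F} (hab : Aniso a b) : NB (POmega F ⇑(minusForm 2 F a b)) := by
  obtain ⟨K, _, _, hK, hNB⟩ := H.psu
  obtain ⟨e⟩ := S0303.result (F := F) (K := K) rfl hK a b hab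
  rw [coe_minusForm]
  exact NB.iso e.symm hNB

theorem nb_seven (H : Small F) (h2 : Odd (Fintype.card F)) (hG : Good Q) (hd : Fintype.card ι = 7) :
    NB (POmega F ⇑Q) :=
  nb_of_hasEmb hG (two_ne_zero_of_odd h2) (good_odd (by norm_num) (two_ne_zero_of_odd h2))
    (hasEmb_seven hG (two_ne_zero_of_odd h2) (by rwa [Module.finrank_fintype_fun_eq_card])) (nb_five H h2)

theorem nb_eight (H : Small F) (h2 : Odd (Fintype.card F)) (hG : Good Q) (hd : Fintype.card ι = 8) :
    NB (POmega F ⇑Q) := by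
  have h2' := two_ne_zero_of_odd h2
  rcases hasEmb_eight hG h2' (by rwa [Module.finrank_fintype_fun_eq_card]) with h | ⟨a, b, hab, h⟩
  · exact nb_of_hasEmb hG h2' (good_plus (by norm_num)) h (nb_six_plus H)
  · exact nb_of_hasEmb hG h2' (good_minus (by norm_num) hab) h (nb_six_minus H hab)

theorem nb_big (H : Small F) (h2 : Odd (Fintype.card F)) (hG : Good Q) (hd : 9 ≤ Fintype.card ι) :
    NB (POmega F ⇑Q) :=
  nb_of_hasEmb hG (two_ne_zero_of_odd h2) (good_plus (by norm_num))
    (hasEmb_big hG (two_ne_zero_of_odd h2) (by rwa [Module.finrank_fintype_fun_eq_card]))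
    (nb_eight H h2 (good_plus (by norm_num)) (by simp))

theorem nb_omega_odd (H : Small F) (h2 : Odd (Fintype.card F)) {m : ℕ} (hm : 3 ≤ m) :
    NB (POmega F (quadFormOdd m F)) := by
  rw [← coe_oddForm]
  have hG := good_odd (F := F) (m := m) (by omega) (two_ne_zero_of_odd h2)
  by_cases h3 : m = 3
  · subst h3
    exact nb_seven H h2 hG (by simp)
  · exact nb_big H h2 hG (by simp; omega)

theorem nb_omega_plus (H : Small F) (h2 : Odd (Fintype.card F)) {m : ℕ} (hm : 4 ≤ m) :
    NB (POmega F (quadFormPlus m F)) := by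
  rw [← coe_plusForm]
  have hG := good_plus (F := F) (m := m) (by omega)
  by_cases h3 : m = 4
  · subst h3
    exact nb_eight H h2 hG (by simp)
  · exact nb_big H h2 hG (by simp; omega)

theorem nb_omega_minus (H : Small F) (h2 : Odd (Fintype.card F)) {m : ℕ} (hm : 4 ≤ m) (a b : F)
    (hab : ∀ z₁ z₂ : F, z₁ ^ 2 + a * z₁ * z₂ + b * z₂ ^ 2 = 0 → z₁ = 0 ∧ z₂ = 0) :
    NB (POmega F (quadFormMinus (m - 1) F a b)) := by
  rw [← coe_minusForm]
  have hG := good_minus (F := F) (m := m - 1) (by omega) hab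
  by_cases h3 : m = 4
  · subst h3
    exact nb_eight H h2 hG (by simp)
  · exact nb_big H h2 hG (by simp; omega)

end

end Cfsg.Agent.H158.ObOrth
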