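import Cfsg.Agent.H166.Cov.Defs

/-!
# S2483, task A: a pencil without common invariant parts

We count the observable pairs `(φ, T)` by the injection `(g, c) ↦ (e₀ ∘ g, g⁻¹ C_c g)`, where `C_c`
is the companion operator.
-/

set_option autoImplicit false

namespace Cfsg.Agent.H158.Pencil

open Module Polynomial Cfsg.Agent.H166.Cov

universe u

variable {F : Type u} [Field F] {V W U : Type u} [AddCommGroup V] [Module F V]
  [AddCommGroup W] [Module F W] [AddCommGroup U] [Module F U]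

/-- companion operator -/
def cmp {k : ℕ} (c : Fin (k + 1) → F) : (Fin (k + 1) → F) →ₗ[F] (Fin (k + 1) → F) :=
  LinearMap.pi fun i => if h : (i : ℕ) < k then LinearMap.proj ⟨i + 1, by omega⟩
    else ∑ j, c j • LinearMap.proj j

theorem cmp_lt {k : ℕ} (c x : Fin (k + 1) → F) (i : ℕ) (h : i < k) :
    cmp c x ⟨i, by omega⟩ = x ⟨i + 1, by omega⟩ := by
  simp [cmp, h]

theorem cmp_last {k : ℕ} (c x : Fin (k + 1) → F) :
    cmp c x ⟨k, by omega⟩ = ∑ j, c j * x j := by
  simp [cmp]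

theorem obs_cmp {k : ℕ} (c : Fin (k + 1) → F) (S : Submodule F (Fin (k + 1) → F))
    (h0 : ∀ x ∈ S, x ⟨0, by omega⟩ = 0) (hS : ∀ x ∈ S, cmp c x ∈ S) : S = ⊥ := by
  have key : ∀ i : ℕ, ∀ hi : i < k + 1, ∀ x ∈ S, x ⟨i, hi⟩ = 0 := by
    intro i
    induction i with
    | zero => intro hi x hx; exact h0 x hx
    | succ i ih =>
      intro hi x hx
      rw [← cmp_lt c x i (by omega)]
      exact ih (by omega) _ (hS x hx)
  rw [eq_bot_iff]
  intro x hx
  rw [Submodule.mem_bot]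
  funext i
  exact key i i.2 x hx

/-- numerical inequality -/
theorem prod_ineq {q m : ℕ} (hq : 4 ≤ q) :
    q ^ (m * m) < 2 * ∏ i : Fin m, (q ^ m - q ^ (i : ℕ)) := by
  have key : ∀ k ≤ m, ((q : ℝ) ^ m) ^ k * ((q - 1) * (q : ℝ) ^ m - (q ^ k - 1)) ≤
      (q : ℝ) ^ m * (q - 1) * ∏ i ∈ Finset.range k, ((q : ℝ) ^ m - q ^ i) := by
    intro k
    induction k with
    | zero =>
      intro _
      simp
      ring_nf
      exact le_refl _
    | succ k ih =>
      intro hk
      have h1 := ih (by omega)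
      rw [Finset.prod_range_succ]
      have hq1 : (1 : ℝ) ≤ q := by
        have : (4 : ℝ) ≤ q := by exact_mod_cast hq
        linarith
      have h2 : (0 : ℝ) ≤ (q : ℝ) ^ m - q ^ k := by
        rw [sub_nonneg]
        exact pow_le_pow_right₀ hq1 (by omega)
      have h3 := mul_le_mul_of_nonneg_right h1 h2
      have h4 : (1 : ℝ) ≤ (q : ℝ) ^ k := one_le_pow₀ hq1
      have h5 : (0 : ℝ) ≤ ((q : ℝ) ^ m) ^ k := by positivity
      have h6 : 0 ≤ ((q : ℝ) ^ m) ^ k * (((q : ℝ) ^ k - 1) * q ^ k) := by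
        apply mul_nonneg h5
        apply mul_nonneg (by linarith) (by linarith)
      calc ((q : ℝ) ^ m) ^ (k + 1) * ((q - 1) * (q : ℝ) ^ m - (q ^ (k + 1) - 1))
          ≤ ((q : ℝ) ^ m) ^ k * ((q - 1) * (q : ℝ) ^ m - (q ^ k - 1)) * ((q : ℝ) ^ m - q ^ k) := by
            have e : ((q : ℝ) ^ m) ^ k * ((q - 1) * (q : ℝ) ^ m - (q ^ k - 1)) *
                ((q : ℝ) ^ m - q ^ k) = ((q : ℝ) ^ m) ^ (k + 1) *
                ((q - 1) * (q : ℝ) ^ m - (q ^ (k + 1) - 1)) +
                ((q : ℝ) ^ m) ^ k * (((q : ℝ) ^ k - 1) * q ^ k) := by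
              ring
            rw [e]
            linarith
        _ ≤ _ := h3
        _ = _ := by ring
  have h := key m le_rfl
  have hq1 : (4 : ℝ) ≤ q := by exact_mod_cast hq
  have hQ : (0 : ℝ) < (q : ℝ) ^ m := by positivity
  have hQm : (0 : ℝ) < ((q : ℝ) ^ m) ^ m := by positivity
  set r : ℝ := ∏ i ∈ Finset.range m, ((q : ℝ) ^ m - q ^ i) with hr
  have h7 : ((q : ℝ) ^ m) ^ m * ((q - 2) * (q : ℝ) ^ m) < (q : ℝ) ^ m * (q - 1) * r := by
    refine lt_of_lt_of_le ?_ h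
    apply mul_lt_mul_of_pos_left _ hQm
    linarith
  have h8 : ((q : ℝ) ^ m) ^ m * (q - 2) < (q - 1) * r := by
    have : (q : ℝ) ^ m * (((q : ℝ) ^ m) ^ m * (q - 2)) < (q : ℝ) ^ m * ((q - 1) * r) := by
      calc _ = ((q : ℝ) ^ m) ^ m * ((q - 2) * (q : ℝ) ^ m) := by ring
        _ < _ := h7
        _ = _ := by ring
    exact lt_of_mul_lt_mul_left this hQ.le
  have h9 : ((q : ℝ) ^ m) ^ m < 2 * r := by
    by_contra hcon
    rw [not_lt] at hcon
    have : (q - 1) * (2 * r) ≤ (q - 1) * ((q : ℝ) ^ m) ^ m :=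
      mul_le_mul_of_nonneg_left hcon (by linarith)
    nlinarith
  have h10 : ((∏ i : Fin m, (q ^ m - q ^ (i : ℕ)) : ℕ) : ℝ) = r := by
    rw [Nat.cast_prod, hr, Finset.prod_range]
    refine Finset.prod_congr rfl fun i _ => ?_
    rw [Nat.cast_sub (Nat.pow_le_pow_right (by omega) i.2.le)]
    push_cast
    rfl
  have h11 : ((q ^ (m * m) : ℕ) : ℝ) = ((q : ℝ) ^ m) ^ m := by
    push_cast
    rw [pow_mul]
  have : ((q ^ (m * m) : ℕ) : ℝ) < ((2 * ∏ i : Fin m, (q ^ m - q ^ (i : ℕ)) : ℕ) : ℝ) := by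
    rw [Nat.cast_mul, h10, h11]
    exact_mod_cast h9
  exact_mod_cast this

/-- the good maps -/
def Good (a : W →ₗ[F] U) : Set (W →ₗ[F] U) :=
  {D | ∀ S : Submodule F W, (∀ x ∈ S, ∃ y ∈ S, D x = a y) → S = ⊥}

/-- the coordinates `M *ᵥ e x` as an equivalence -/
noncomputable def crd {k : ℕ} (e : W ≃ₗ[F] (Fin (k + 1) → F)) (M : GL (Fin (k + 1)) F) :
    W ≃ₗ[F] (Fin (k + 1) → F) :=
  e.trans (LinearMap.GeneralLinearGroup.generalLinearEquiv F _
    (Matrix.GeneralLinearGroup.toLin M))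

theorem crd_inj {k : ℕ} (e : W ≃ₗ[F] (Fin (k + 1) → F)) : Function.Injective (crd e) := by
  intro M N h
  have h1 : ∀ x, crd e M x = crd e N x := fun x => by rw [h]
  apply Matrix.GeneralLinearGroup.toLin.injective
  apply (LinearMap.GeneralLinearGroup.generalLinearEquiv F _).injective
  ext1 x
  obtain ⟨y, rfl⟩ := e.surjective x
  exact h1 y

/-- the map built from coordinates `g` and coefficients `c` -/
noncomputable def mk {k : ℕ} (a : W →ₗ[F] U) (u : U) (g : W ≃ₗ[F] (Fin (k + 1) → F))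
    (c : Fin (k + 1) → F) : W →ₗ[F] U :=
  a ∘ₗ (g.symm : (Fin (k + 1) → F) →ₗ[F] W) ∘ₗ cmp c ∘ₗ (g : W →ₗ[F] (Fin (k + 1) → F)) +
    ((LinearMap.proj ⟨0, by omega⟩ : (Fin (k + 1) → F) →ₗ[F] F) ∘ₗ
      (g : W →ₗ[F] (Fin (k + 1) → F))).smulRight u

theorem mk_apply {k : ℕ} (a : W →ₗ[F] U) (u : U) (g : W ≃ₗ[F] (Fin (k + 1) → F))
    (c : Fin (k + 1) → F) (x : W) :
    mk a u g c x = a (g.symm (cmp c (g x))) + (g x) ⟨0, by omega⟩ • u := rfl

theorem decomp {a : W →ₗ[F] U} (ha : Function.Injective a) {u : U}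
    (hu : u ∉ LinearMap.range a) {w w' : W} {r r' : F} (h : a w + r • u = a w' + r' • u) :
    w = w' ∧ r = r' := by
  have hr : r = r' := by
    by_contra hne
    apply hu
    have h1 : (r - r') • u = a (w' - w) := by
      rw [sub_smul, map_sub, sub_eq_sub_iff_add_eq_add, add_comm, h, add_comm]
    have h2 : r - r' ≠ 0 := sub_ne_zero.2 hne
    refine ⟨(r - r')⁻¹ • (w' - w), ?_⟩
    rw [map_smul, ← h1, smul_smul, inv_mul_cancel₀ h2, one_smul]
  subst hr
  exact ⟨ha (add_right_cancel h), rfl⟩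

theorem mk_good {k : ℕ} {a : W →ₗ[F] U} (ha : Function.Injective a) {u : U}
    (hu : u ∉ LinearMap.range a) (g : W ≃ₗ[F] (Fin (k + 1) → F)) (c : Fin (k + 1) → F) :
    mk a u g c ∈ Good a := by
  intro S hS
  have h1 : ∀ x ∈ S, (g x) ⟨0, by omega⟩ = 0 ∧ g.symm (cmp c (g x)) ∈ S := by
    intro x hx
    obtain ⟨y, hy, h⟩ := hS x hx
    rw [mk_apply] at h
    have h2 : a (g.symm (cmp c (g x))) + (g x) ⟨0, by omega⟩ • u = a y + (0 : F) • u := by
      rw [h, zero_smul, add_zero]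
    obtain ⟨h3, h4⟩ := decomp ha hu h2
    exact ⟨h4, h3 ▸ hy⟩
  have h2 : S.map (g : W →ₗ[F] (Fin (k + 1) → F)) = ⊥ := by
    apply obs_cmp c
    · rintro _ ⟨x, hx, rfl⟩
      exact (h1 x hx).1
    · rintro _ ⟨x, hx, rfl⟩
      refine ⟨_, (h1 x hx).2, ?_⟩
      simp
  exact Submodule.map_eq_bot_iff.1 h2

theorem mk_inj {k : ℕ} {a : W →ₗ[F] U} (ha : Function.Injective a) {u : U}
    (hu : u ∉ LinearMap.range a) {g g' : W ≃ₗ[F] (Fin (k + 1) → F)} {c c' : Fin (k + 1) → F}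
    (h : mk a u g c = mk a u g' c') : g = g' ∧ c = c' := by
  have h1 : ∀ x, g.symm (cmp c (g x)) = g'.symm (cmp c' (g' x)) ∧
      (g x) ⟨0, by omega⟩ = (g' x) ⟨0, by omega⟩ := by
    intro x
    apply decomp ha hu
    rw [← mk_apply, ← mk_apply, h]
  have h2 : ∀ i : ℕ, ∀ hi : i < k + 1, ∀ x, (g x) ⟨i, hi⟩ = (g' x) ⟨i, hi⟩ := by
    intro i
    induction i with
    | zero => intro hi x; exact (h1 x).2
    | succ i ih =>
      intro hi x
      have h3 := ih (by omega) (g.symm (cmp c (g x)))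
      rw [LinearEquiv.apply_symm_apply, cmp_lt c (g x) i (by omega), (h1 x).1,
        LinearEquiv.apply_symm_apply, cmp_lt c' (g' x) i (by omega)] at h3
      exact h3
  have hg : g = g' := by
    ext x i
    exact h2 i i.2 x
  refine ⟨hg, ?_⟩
  subst hg
  have h4 : ∀ y, cmp c y = cmp c' y := by
    intro y
    obtain ⟨x, rfl⟩ := g.surjective y
    exact g.symm.injective (h1 x).1
  funext j
  have h5 := congrFun (h4 (Pi.single j 1)) ⟨k, by omega⟩
  rw [cmp_last, cmp_last] at h5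
  simpa [Pi.single_apply] using h5

theorem card_good [Finite F] (hq : 4 ≤ Nat.card F) [FiniteDimensional F W]
    [FiniteDimensional F U] {k : ℕ} (hW : finrank F W = k + 1)
    (hd : finrank F U = finrank F W + 1) (a : W →ₗ[F] U) (ha : Function.Injective a) :
    Nat.card (W →ₗ[F] U) < 2 * Nat.card (Good a) := by
  classical
  have : Fintype F := Fintype.ofFinite F
  have : Finite W := Module.finite_of_finite F
  have : Finite U := Module.finite_of_finite F
  have : Finite (W →ₗ[F] U) := Finite.of_injective (fun f => (f : W → U)) DFunLike.coe_injective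
  obtain ⟨u, hu⟩ : ∃ u, u ∉ LinearMap.range a := by
    by_contra hcon
    push Not at hcon
    have h1 : LinearMap.range a = ⊤ := by
      rw [eq_top_iff]; intro x _; exact hcon x
    have h2 := LinearMap.finrank_range_of_inj ha
    rw [h1, finrank_top] at h2
    omega
  let e : W ≃ₗ[F] (Fin (k + 1) → F) := LinearEquiv.ofFinrankEq _ _ (by rw [hW]; simp)
  let Φ : GL (Fin (k + 1)) F × (Fin (k + 1) → F) → Good a := fun p =>
    ⟨mk a u (crd e p.1) p.2, mk_good ha hu _ _⟩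
  have hΦ : Function.Injective Φ := by
    rintro ⟨M, c⟩ ⟨N, d⟩ h
    have h1 := congrArg Subtype.val h
    obtain ⟨h2, h3⟩ := mk_inj ha hu h1
    exact Prod.ext (crd_inj e h2) h3
  have h1 : Nat.card (GL (Fin (k + 1)) F × (Fin (k + 1) → F)) ≤ Nat.card (Good a) :=
    Nat.card_le_card_of_injective Φ hΦ
  rw [Nat.card_prod, Matrix.card_GL_field, Nat.card_fun, Nat.card_eq_fintype_card (α := Fin (k+1)),
    Fintype.card_fin, ← Nat.card_eq_fintype_card (α := F)] at h1
  have h2 : Nat.card (W →ₗ[F] U) = Nat.card F ^ ((k + 1) * (k + 2)) := by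
    rw [Module.natCard_eq_pow_finrank (K := F), finrank_linearMap, hd, hW]
  have h3 := prod_ineq (m := k + 1) hq
  rw [h2]
  have h4 : Nat.card F ^ ((k + 1) * (k + 2)) =
      Nat.card F ^ ((k + 1) * (k + 1)) * Nat.card F ^ (k + 1) := by
    rw [← pow_add]; ring_nf
  rw [h4]
  have hpos : 0 < Nat.card F ^ (k + 1) := by
    apply pow_pos; omega
  calc _ < (2 * ∏ i : Fin (k + 1), (Nat.card F ^ (k + 1) - Nat.card F ^ (i : ℕ))) *
        Nat.card F ^ (k + 1) := (Nat.mul_lt_mul_right hpos).2 h3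
    _ = 2 * ((∏ i : Fin (k + 1), (Nat.card F ^ (k + 1) - Nat.card F ^ (i : ℕ))) *
        Nat.card F ^ (k + 1)) := by ring
    _ ≤ _ := Nat.mul_le_mul_left _ h1

theorem exists_pencil [Finite F] (hq : 4 ≤ Nat.card F) [FiniteDimensional F W]
    [FiniteDimensional F U] (hd : finrank F U = finrank F W + 1) (a b : W →ₗ[F] U)
    (ha : Function.Injective a) (hb : Function.Injective b) :
    ∃ D : W →ₗ[F] U, (∀ S : Submodule F W, (∀ x ∈ S, ∃ y ∈ S, D x = a y) → S = ⊥) ∧
      (∀ S : Submodule F W, (∀ x ∈ S, ∃ y ∈ S, D x = b y) → S = ⊥) := by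
  classical
  have : Finite W := Module.finite_of_finite F
  have : Finite U := Module.finite_of_finite F
  have : Finite (W →ₗ[F] U) := Finite.of_injective (fun f => (f : W → U)) DFunLike.coe_injective
  rcases Nat.eq_zero_or_pos (finrank F W) with h0 | h0
  · have h1 : ∀ x : W, x = 0 := by
      have := finrank_zero_iff.1 h0
      exact fun x => Subsingleton.elim _ _
    refine ⟨0, fun S _ => ?_, fun S _ => ?_⟩ <;>
    · rw [eq_bot_iff]; intro x _; rw [Submodule.mem_bot]; exact h1 x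
  · obtain ⟨k, hk⟩ := Nat.exists_eq_succ_of_ne_zero h0.ne'
    have h1 := card_good hq hk hd a ha
    have h2 := card_good hq hk hd b hb
    by_contra hcon
    have hdis : Disjoint (Good a) (Good b) := by
      rw [Set.disjoint_left]
      intro D hDa hDb
      exact hcon ⟨D, hDa, hDb⟩
    have h3 : (Good a ∪ Good b).ncard = (Good a).ncard + (Good b).ncard :=
      Set.ncard_union_eq hdis (Set.toFinite _) (Set.toFinite _)
    have h4 : (Good a ∪ Good b).ncard ≤ Nat.card (W →ₗ[F] U) := by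
      rw [← Set.ncard_univ]
      exact Set.ncard_le_ncard (Set.subset_univ _) (Set.toFinite _)
    have h5 := Nat.card_coe_set_eq (Good a)
    have h6 := Nat.card_coe_set_eq (Good b)
    omega

end Cfsg.Agent.H158.Pencil
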