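import Cfsg.Agent.H158.PronH
import Cfsg.Agent.H158.PronProd

/-!
# Odd index subgroups of `GU n F`, 2 not a square (helper158)
-/

set_option autoImplicit false
set_option linter.unusedSectionVars false

namespace Cfsg.Agent.H158.PronA

open Quaternion Matrix Equiv
open Cfsg.Agent.H158.PronQ Cfsg.Agent.H158.PronMat Cfsg.Agent.H158.PronMono
open Cfsg.Agent.H158.PronFrame Cfsg.Agent.H158.PronTwo Cfsg.Agent.H158.PronK
open Cfsg.Agent.H158.PronT Cfsg.Agent.H158.PronH Cfsg.Agent.H158.PronP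

variable {F : Type*} [Field F] {n : Type*} [Fintype n] [DecidableEq n]

/-- A unitary matrix whose columns have only one nonzero entry is monomial. -/
theorem mono_of_cols {g : GU n F} (h1 : ∀ b, ∃ j, ∀ a, a ≠ j → g.1 a b = 0) :
    ∃ σ : Perm n, Mono g.1 σ := by
  choose σ hσ using h1
  have hN : ∀ b c, ip (g.1 *ᵥ e b) (g.1 *ᵥ e c) = star (g.1 (σ b) b) * g.1 (σ b) c := by
    intro b c
    rw [PronMono.mulVec_e, PronMono.mulVec_e]
    unfold ip
    refine Finset.sum_eq_single (σ b) (fun a _ ha => ?_) (fun h => absurd (Finset.mem_univ _) h)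
    show star (g.1 a b) * g.1 a c = 0
    rw [hσ b a ha, star_zero, zero_mul]
  have hinj : Function.Injective σ := by
    intro b c hbc
    by_contra hne
    have h3 := hN b b
    rw [ip_act, ip_e_e] at h3
    have h4 := hN b c
    rw [ip_act, ip_e, e, Pi.single_eq_of_ne hne] at h4
    have h5 : normSq (star (g.1 (σ b) b)) ≠ 0 := by
      intro h0
      have h6 := congrArg normSq h3
      rw [map_mul, h0, zero_mul, map_one] at h6
      exact one_ne_zero h6
    have h6 := mul_eq_zero_left h5 h4.symm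
    have h7 := hN c c
    rw [ip_act, ip_e_e, ← hbc, h6, mul_zero] at h7
    exact one_ne_zero h7
  refine ⟨Equiv.ofBijective σ (Finite.injective_iff_bijective.1 hinj), fun a b hab => ?_⟩
  exact hσ b a hab

section Main

variable [Finite F] (h2 : (2 : F) ≠ 0) (hns : ¬ IsSquare (2 : F)) (T : Sylow 2 (Perm n))
  (hT : ∀ a b : n, ∃ τ ∈ (T : Subgroup (Perm n)), τ a = b) {K : Subgroup (GU n F)}
  (hSK : SG (Q8 F) (T : Subgroup (Perm n)) ≤ K) (hom : sc (om h2) ∉ K)

include h2 hns hT hSK hom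

/-- The unit vectors of `K` are multiples of the basis vectors. -/
theorem thmA {y : n → ℍ[F]} (hy : InS K y) : ∃ j, ∀ a, a ≠ j → y a = 0 := by
  have hyy := hy.choose
  have hN : ∀ j, y j ≠ 0 → normSq (y j) = 1 := by
    intro j hj
    have h1 : ip (e j) y = y j := ip_e j y
    have := claim_g h2 hns T hT hSK hom (InS_e hSK j) hy (by rw [h1]; exact hj)
    rwa [h1] at this
  obtain ⟨j, hj⟩ : ∃ j, y j ≠ 0 := by
    by_contra hcon
    push Not at hcon
    have h1 : ip y y = 0 := by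
      unfold ip
      refine Finset.sum_eq_zero fun a _ => ?_
      rw [hcon a, mul_zero]
    rw [h1] at hyy
    exact zero_ne_one hyy
  refine ⟨j, fun k hkj => ?_⟩
  by_contra hk
  have Nj := hN j hj
  have Nk := hN k hk
  have key : ∀ w ∈ Q8 F, star (y j) * qi * y j + star (y k) * (w : ℍ[F]) * y k - 1 ≠ 0 →
      normSq (star (y j) * qi * y j + star (y k) * (w : ℍ[F]) * y k - 1) = 1 := by
    intro w hw h0
    have hg : Rj j uI * Rj k w ∈ K := mul_mem (hSK (Rj_mem _ j uI_mem)) (hSK (Rj_mem _ k hw))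
    have h1 := InS.act hy hg
    have h3 : (Rj j uI * Rj k w).1 *ᵥ y = fun a => if a = j then qi * y j else
        (fun a => if a = k then (w : ℍ[F]) * y k else y a) a := by
      have h4 : (Rj j uI * Rj k w).1 = (Rj j uI).1 * (Rj k w).1 := rfl
      rw [h4, ← Matrix.mulVec_mulVec, Rj_mulVec, Rj_mulVec]
      funext a
      by_cases haj : a = j
      · subst haj
        rw [if_pos rfl, if_pos rfl]
        simp only [if_neg (Ne.symm hkj)]
        rfl
      · rw [if_neg haj, if_neg haj]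
        by_cases hak : a = k
        · subst hak; rfl
        · simp only [if_neg hak]
    have h4 : ip y ((Rj j uI * Rj k w).1 *ᵥ y) =
        star (y j) * qi * y j + star (y k) * (w : ℍ[F]) * y k - 1 := by
      rw [h3, ip_change, ip_change, hyy]
      simp only [if_neg (Ne.symm hkj)]
      have e1 : star (y j) * y j = 1 := by rw [star_mul_self, Nj, Quaternion.coe_one]
      have e2 : star (y k) * y k = 1 := by rw [star_mul_self, Nk, Quaternion.coe_one]
      rw [mul_sub, mul_sub, e1, e2]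
      noncomm_ring
    have h5 := claim_g h2 hns T hT hSK hom hy h1 (by rw [h4]; exact h0)
    rwa [h4] at h5
  set u : ℍ[F] := star (y j) * qi * y j with hu
  set v : ℍ[F] := star (y k) * qi * y k with hv
  have hre : ∀ x : ℍ[F], (star x * qi * x).re = 0 := by
    intro x; simp; ring
  have hure : u.re = 0 := hre _
  have hvre : v.re = 0 := hre _
  have hqi : normSq (qi : ℍ[F]) = 1 := by rw [normSq_def']; simp
  have hNu : normSq u = 1 := by rw [hu, map_mul, map_mul, normSq_star, Nj, hqi, one_mul, one_mul]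
  have hNv : normSq v = 1 := by rw [hv, map_mul, map_mul, normSq_star, Nk, hqi, one_mul, one_mul]
  have k1 := key uI uI_mem (by
    intro h0
    have h1 := congrArg (fun q : ℍ[F] => q.re) h0
    have h3 : ((uI : U F) : ℍ[F]) = qi := rfl
    rw [h3, ← hv] at h1
    simp only [Quaternion.re_sub, Quaternion.re_add, hure, hvre, Quaternion.re_one,
      Quaternion.re_zero] at h1
    rw [add_zero, zero_sub, neg_eq_zero] at h1
    exact one_ne_zero h1)
  have k2 := key (nu * uI) (mul_mem (Or.inr (Or.inl rfl)) uI_mem) (by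
    intro h0
    have h1 := congrArg (fun q : ℍ[F] => q.re) h0
    have h3 : ((nu * uI : U F) : ℍ[F]) = -qi := by
      show (-1 : ℍ[F]) * qi = -qi
      rw [neg_one_mul]
    have h4 : star (y k) * -qi * y k = -v := by rw [hv]; noncomm_ring
    rw [h3, h4] at h1
    simp only [Quaternion.re_sub, Quaternion.re_add, Quaternion.re_neg, hure, hvre,
      Quaternion.re_one, Quaternion.re_zero] at h1
    rw [neg_zero, add_zero, zero_sub, neg_eq_zero] at h1
    exact one_ne_zero h1)
  have h3 : ((uI : U F) : ℍ[F]) = qi := rfl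
  have h3' : ((nu * uI : U F) : ℍ[F]) = -qi := by
    show (-1 : ℍ[F]) * qi = -qi
    rw [neg_one_mul]
  have h4 : star (y k) * -qi * y k = -v := by rw [hv]; noncomm_ring
  rw [h3, ← hv] at k1
  rw [h3', h4] at k2
  rw [normSq_def'] at hNu hNv k1 k2
  rw [hure] at hNu
  rw [hvre] at hNv
  simp only [Quaternion.re_sub, Quaternion.re_add, Quaternion.re_neg, Quaternion.imI_sub,
    Quaternion.imI_add, Quaternion.imI_neg, Quaternion.imJ_sub, Quaternion.imJ_add,
    Quaternion.imJ_neg, Quaternion.imK_sub, Quaternion.imK_add, Quaternion.imK_neg, hure, hvre,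
    Quaternion.re_one, Quaternion.imI_one, Quaternion.imJ_one, Quaternion.imK_one] at k1 k2
  have h5 : (2 : F) * 2 = 0 := by linear_combination k1 + k2 - 2 * hNu - 2 * hNv
  rcases mul_eq_zero.1 h5 with h | h <;> exact h2 h

/-- `K` is monomial. -/
theorem K_mono {g : GU n F} (hg : g ∈ K) : ∃ σ : Perm n, Mono g.1 σ := by
  apply mono_of_cols
  intro b
  obtain ⟨j, hj⟩ := thmA h2 hns T hT hSK hom (InS.act (InS_e hSK b) hg)
  refine ⟨j, fun a ha => ?_⟩
  have := hj a ha
  rwa [PronMono.mulVec_e] at this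

end Main

theorem comm_aux (h2 : (2 : F) ≠ 0) {u g : U F} (hg : g = om h2 ∨ g = (om h2)⁻¹)
    (hu : om h2 * u * (om h2)⁻¹ * u⁻¹ ∈ Q8 F) :
    g * u * g⁻¹ * u⁻¹ ∈ Q8 F := by
  rcases hg with rfl | rfl
  · exact hu
  · have h1 : (om h2)⁻¹ * (om h2 * u * (om h2)⁻¹ * u⁻¹)⁻¹ * om h2 ∈ Q8 F :=
      om_conj_mem' h2 (inv_mem hu)
    have h3 : (om h2)⁻¹ * (om h2 * u * (om h2)⁻¹ * u⁻¹)⁻¹ * om h2 =
        (om h2)⁻¹ * u * (om h2)⁻¹⁻¹ * u⁻¹ := by group
    rwa [h3] at h1

/-- The main step. -/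
theorem final_conj [Finite F] (h2 : (2 : F) ≠ 0) (hns : ¬ IsSquare (2 : F)) (T : Sylow 2 (Perm n))
    (hT : ∀ a b : n, ∃ τ ∈ (T : Subgroup (Perm n)), τ a = b) {H : Subgroup (GU n F)}
    (hSH : SG (Q8 F) (T : Subgroup (Perm n)) ≤ H) {g : U F}
    (hg : g = om h2 ∨ g = (om h2)⁻¹) :
    ∃ x ∈ H ⊔ H.map (MulAut.conj (sc g)).toMonoidHom,
      H.map (MulAut.conj (sc g)).toMonoidHom = H.map (MulAut.conj x).toMonoidHom := by
  set K := H ⊔ H.map (MulAut.conj (sc g)).toMonoidHom with hK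
  by_cases hgK : sc g ∈ K
  · exact ⟨sc g, hgK, rfl⟩
  have hom : sc (om h2) ∉ K := by
    rcases hg with rfl | rfl
    · exact hgK
    · intro h
      apply hgK
      rw [map_inv]
      exact inv_mem h
  have hHK : H ≤ K := le_sup_left
  have hSK : SG (Q8 F) (T : Subgroup (Perm n)) ≤ K := hSH.trans hHK
  have hHgK : ∀ h ∈ H, sc g * h * (sc g)⁻¹ ∈ K := by
    intro h hh
    have h1 : H.map (MulAut.conj (sc g)).toMonoidHom ≤ K := le_sup_right
    exact h1 (PronProd.conj_mem_map_conj hh)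
  have hscRj : ∀ (j : n) (a : U F), sc g * Rj j a * (sc g)⁻¹ = Rj j (g * a * g⁻¹) := by
    intro j a
    have hm : Mono (sc g : GU n F).1 1 := by
      intro b c hbc
      rw [coe_sc]
      exact Matrix.diagonal_apply_ne (fun _ => (g : ℍ[F])) hbc
    have h1 : (g : ℍ[F]) = (sc g : GU n F).1 ((1 : Perm n) j) j := by
      rw [coe_sc]
      exact (Matrix.diagonal_apply_eq (fun _ => (g : ℍ[F])) j).symm
    exact hm.conj_Rj j h1 a
  have hPj : ∀ j : n, H.comap (Rj j) ≤ Q8 F := by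
    intro j
    refine le_Q8_of_conj h2 hns (P₂ := K.comap (Rj j)) ?_ (Subgroup.comap_mono hHK)
      (om_notMem_comap h2 hns T hT hSK hom j) hg ?_
    · intro w hw
      exact hSH (Rj_mem _ j hw)
    · intro x hx
      show Rj j (g * x * g⁻¹) ∈ K
      rw [← hscRj]
      exact hHgK _ hx
  have hconj : ∀ h ∈ H, sc g * h * (sc g)⁻¹ ∈ H := by
    intro h hh
    obtain ⟨σ, hσ⟩ := K_mono h2 hns T hT hSK hom (hHK hh)
    have h1 : sc g * h * (sc g)⁻¹ * h⁻¹ ∈ SG (Q8 F) (T : Subgroup (Perm n)) := by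
      have hσi : Mono (h⁻¹).1 σ⁻¹ := by
        have := hσ.star
        rwa [← coe_inv_GU] at this
      refine ⟨1, one_mem _, ?_, fun b => ?_⟩
      · intro c d hcd
        have h3 : (sc g * h * (sc g)⁻¹ * h⁻¹).1 = (sc g * h * (sc g)⁻¹).1 * (h⁻¹).1 := rfl
        rw [h3, hσi.mul_apply, ← map_inv, mul_sc_apply, sc_mul_apply,
          hσ c (σ⁻¹ d) (by simpa using hcd), mul_zero, zero_mul, zero_mul]
      · obtain ⟨u, hu⟩ := hσ.entry (σ⁻¹ b)
        have hun : ∀ w ∈ Q8 F, u * w * u⁻¹ ∈ Q8 F := by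
          intro w hw
          apply hPj (σ (σ⁻¹ b))
          show Rj _ (u * w * u⁻¹) ∈ H
          rw [← hσ.conj_Rj (σ⁻¹ b) hu]
          exact mul_mem (mul_mem hh (hSH (Rj_mem _ _ hw))) (inv_mem hh)
        refine ⟨g * u * g⁻¹ * u⁻¹, comm_aux h2 hg (om_comm h2 (norm_Q8 h2 hns hun)), ?_⟩
        have h3 : (sc g * h * (sc g)⁻¹ * h⁻¹).1 = (sc g * h * (sc g)⁻¹).1 * (h⁻¹).1 := rfl
        rw [h3, hσi.mul_apply, ← map_inv, mul_sc_apply, sc_mul_apply, coe_inv_GU,
          Matrix.conjTranspose_apply]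
        have h4 : (1 : Perm n) b = σ (σ⁻¹ b) := by simp
        have h5 : h.1 b (σ⁻¹ b) = (u : ℍ[F]) := by rw [hu]; simp
        rw [h4, ← hu, h5]
        show (g : ℍ[F]) * u * ((g⁻¹ : U F) : ℍ[F]) * ((u⁻¹ : U F) : ℍ[F]) = _
        rw [PronQ.coe_inv u]
    have h3 := mul_mem (hSH h1) hh
    rwa [inv_mul_cancel_right] at h3
  refine ⟨1, one_mem _, ?_⟩
  rw [Cfsg.Agent.H94.Pronormal.map_conj_one]
  apply Subgroup.eq_of_le_of_card_ge
  · rintro _ ⟨x, hx, rfl⟩
    exact hconj x hx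
  · rw [Subgroup.card_map_of_injective (MulAut.conj (sc g : GU n F)).injective]

end Cfsg.Agent.H158.PronA
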