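import Cfsg.Agent.H158.PronA
import Cfsg.Agent.S2431
import Mathlib.NumberTheory.LegendreSymbol.QuadraticChar.GaussSum

/-!
# Odd index subgroups of `GU n F` are pronormal (helper158)
-/

set_option autoImplicit false
set_option linter.unusedSectionVars false

namespace Cfsg.Agent.H158.PronB

open Quaternion Matrix Equiv
open Cfsg.Agent.H158.PronQ Cfsg.Agent.H158.PronMat Cfsg.Agent.H158.PronMono
open Cfsg.Agent.H158.PronFrame Cfsg.Agent.H158.PronTwo Cfsg.Agent.H158.PronK
open Cfsg.Agent.H158.PronProd Cfsg.Agent.H158.PronM2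

section Abstract

variable {G : Type*} [Group G]

theorem pronormal_conj {H : Subgroup G} (h : Cfsg.IsPronormal H) (c : G) :
    Cfsg.IsPronormal (H.map (MulAut.conj c).toMonoidHom) := by
  intro g
  obtain ⟨x, hx, hxe⟩ := h (c⁻¹ * g * c)
  refine ⟨c * x * c⁻¹, ?_, ?_⟩
  · have h1 := conj_mem_map_conj (g := c) hx
    rw [Subgroup.map_sup] at h1
    rw [← Cfsg.Agent.H94.Pronormal.map_conj_mul] at h1
    rw [← Cfsg.Agent.H94.Pronormal.map_conj_mul]
    have h3 : c * (c⁻¹ * g * c) = g * c := by group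
    rwa [h3] at h1
  · rw [← Cfsg.Agent.H94.Pronormal.map_conj_mul, ← Cfsg.Agent.H94.Pronormal.map_conj_mul]
    have h3 : g * c = c * (c⁻¹ * g * c) := by group
    have h4 : c * x * c⁻¹ * c = c * x := by group
    rw [h3, h4, Cfsg.Agent.H94.Pronormal.map_conj_mul, hxe,
      ← Cfsg.Agent.H94.Pronormal.map_conj_mul]

/-- It suffices to look at the overgroups of a given Sylow subgroup. -/
theorem pn_of_sylow [Finite G] (S : Sylow 2 G)
    (h1 : ∀ H : Subgroup G, (S : Subgroup G) ≤ H →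
      ∀ m ∈ Subgroup.normalizer ((S : Subgroup G) : Set G),
      ∃ x ∈ H ⊔ H.map (MulAut.conj m).toMonoidHom,
        H.map (MulAut.conj m).toMonoidHom = H.map (MulAut.conj x).toMonoidHom)
    (h2 : ∀ a ∈ Subgroup.normalizer ((S : Subgroup G) : Set G),
      ∀ b ∈ Subgroup.normalizer ((S : Subgroup G) : Set G),
      a * b * a⁻¹ * b⁻¹ ∈ (S : Subgroup G)) : PN G := by
  refine ⟨fun H hH => ?_, fun P a ha b hb => ?_⟩
  · obtain ⟨P, hP⟩ := exists_sylow_le' hH
    obtain ⟨c, rfl⟩ := MulAction.exists_smul_eq G S P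
    have h3 : (S : Subgroup G) ≤ H.map (MulAut.conj c⁻¹).toMonoidHom := by
      intro s hs
      rw [mem_map_conj, inv_inv]
      apply hP
      rw [Sylow.coe_subgroup_smul, Subgroup.mem_pointwise_smul_iff_inv_smul_mem]
      have h0 : (MulAut.conj c)⁻¹ • (c * s * c⁻¹) = s := by
        rw [← map_inv, MulAut.smul_def, MulAut.conj_apply, inv_inv]
        group
      rw [h0]; exact hs
    have h4 := Cfsg.Agent.H94.Pronormal.isPronormal_of_sylow S _ h3 (h1 _ h3)
    have h5 := pronormal_conj h4 c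
    rw [← Cfsg.Agent.H94.Pronormal.map_conj_mul, mul_inv_cancel,
      Cfsg.Agent.H94.Pronormal.map_conj_one] at h5
    exact h5
  · obtain ⟨c, rfl⟩ := MulAction.exists_smul_eq G S P
    have hmem : ∀ x, x ∈ ((c • S : Sylow 2 G) : Subgroup G) ↔ c⁻¹ * x * c ∈ (S : Subgroup G) := by
      intro x
      rw [Sylow.coe_subgroup_smul, Subgroup.mem_pointwise_smul_iff_inv_smul_mem, ← map_inv,
        MulAut.smul_def, MulAut.conj_apply, inv_inv]
    have hn : ∀ x ∈ Subgroup.normalizer (((c • S : Sylow 2 G) : Subgroup G) : Set G),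
        c⁻¹ * x * c ∈ Subgroup.normalizer ((S : Subgroup G) : Set G) := by
      intro x hx
      rw [Subgroup.mem_normalizer_iff] at hx ⊢
      intro y
      have h3 := hx (c * y * c⁻¹)
      rw [hmem, hmem] at h3
      have e1 : c⁻¹ * (c * y * c⁻¹) * c = y := by group
      have e2 : c⁻¹ * (x * (c * y * c⁻¹) * x⁻¹) * c =
        c⁻¹ * x * c * y * (c⁻¹ * x * c)⁻¹ := by group
      rw [e1, e2] at h3
      exact h3
    rw [hmem]
    have h3 := h2 _ (hn a ha) _ (hn b hb)
    have e1 : c⁻¹ * a * c * (c⁻¹ * b * c) * (c⁻¹ * a * c)⁻¹ * (c⁻¹ * b * c)⁻¹ =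
      c⁻¹ * (a * b * a⁻¹ * b⁻¹) * c := by group
    rwa [e1] at h3

theorem pn_of_selfNorm [Finite G] (S : Sylow 2 G)
    (h : Subgroup.normalizer ((S : Subgroup G) : Set G) ≤ (S : Subgroup G)) : PN G := by
  refine pn_of_sylow S (fun H hH m hm => ?_) (fun a ha b hb => ?_)
  · refine ⟨m, Subgroup.mem_sup_left (hH (h hm)), rfl⟩
  · exact mul_mem (mul_mem (mul_mem (h ha) (h hb)) (inv_mem (h ha))) (inv_mem (h hb))

theorem comm_mod {S : Subgroup G} {x y s t : G} (hx : x ∈ Subgroup.normalizer (S : Set G))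
    (hy : y ∈ Subgroup.normalizer (S : Set G)) (hxy : x * y = y * x) (hs : s ∈ S) (ht : t ∈ S) :
    (x * s) * (y * t) * (x * s)⁻¹ * (y * t)⁻¹ ∈ S := by
  have h0 : y⁻¹ * x⁻¹ * y = x⁻¹ := by
    rw [← _root_.mul_inv_rev, hxy, _root_.mul_inv_rev]; group
  have h1 : (x * s) * (y * t) * (x * s)⁻¹ * (y * t)⁻¹ =
      (x * s * x⁻¹) * ((x * y) * (t * s⁻¹) * (x * y)⁻¹) * (y * t⁻¹ * y⁻¹) := by
    calc (x * s) * (y * t) * (x * s)⁻¹ * (y * t)⁻¹
        = x * s * y * t * s⁻¹ * x⁻¹ * t⁻¹ * y⁻¹ := by group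
      _ = x * s * y * t * s⁻¹ * (y⁻¹ * x⁻¹ * y) * t⁻¹ * y⁻¹ := by rw [h0]
      _ = _ := by group
  rw [h1]
  refine mul_mem (mul_mem ?_ ?_) ?_
  · exact (Subgroup.mem_normalizer_iff.1 hx s).1 hs
  · exact (Subgroup.mem_normalizer_iff.1 (mul_mem hx hy) _).1 (mul_mem ht (inv_mem hs))
  · exact (Subgroup.mem_normalizer_iff.1 hy _).1 (inv_mem ht)

/-- A Sylow `p`-subgroup of a transitive group of prime power degree is transitive. -/
theorem sylow_transitive {α : Type*} [Fintype α] [DecidableEq α] {k : ℕ}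
    (hα : Fintype.card α = 2 ^ k) (T : Sylow 2 (Perm α)) (a b : α) :
    ∃ τ ∈ (T : Subgroup (Perm α)), τ a = b := by
  have h1 : (MulAction.stabilizer (Perm α) a).index = 2 ^ k := by
    rw [MulAction.index_stabilizer_of_transitive, Nat.card_eq_fintype_card, hα]
  have h3 : 2 ^ k ∣ ((MulAction.stabilizer (Perm α) a) ⊓ (T : Subgroup (Perm α))).index := by
    rw [← h1]
    exact Subgroup.index_dvd_of_le inf_le_left
  have h4 : (MulAction.stabilizer (Perm α) a).relIndex (T : Subgroup (Perm α)) *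
      (T : Subgroup (Perm α)).index =
      ((MulAction.stabilizer (Perm α) a) ⊓ (T : Subgroup (Perm α))).index := by
    rw [← Subgroup.inf_relIndex_right]
    exact Subgroup.relIndex_mul_index inf_le_right
  rw [← h4] at h3
  have h5 : Nat.Coprime (2 ^ k) (T : Subgroup (Perm α)).index :=
    Nat.Coprime.pow_left k ((Nat.Prime.coprime_iff_not_dvd Nat.prime_two).2 T.not_dvd_index)
  have h6 := h5.dvd_of_dvd_mul_right h3
  have h7 : (MulAction.stabilizer (Perm α) a).relIndex (T : Subgroup (Perm α)) =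
      (MulAction.orbit (T : Subgroup (Perm α)) a).ncard := by
    rw [← MulAction.index_stabilizer]
    rfl
  rw [h7] at h6
  have h8 : (MulAction.orbit (T : Subgroup (Perm α)) a).ncard ≤ 2 ^ k := by
    rw [← hα, ← Nat.card_eq_fintype_card]
    exact Set.ncard_le_card _
  have h9 : 0 < (MulAction.orbit (T : Subgroup (Perm α)) a).ncard :=
    (Set.ncard_pos (Set.toFinite _)).2 ⟨a, MulAction.mem_orbit_self a⟩
  have h10 : (MulAction.orbit (T : Subgroup (Perm α)) a).ncard = Nat.card α := by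
    rw [Nat.card_eq_fintype_card, hα]
    exact le_antisymm h8 (Nat.le_of_dvd h9 h6)
  have h11 : MulAction.orbit (T : Subgroup (Perm α)) a = Set.univ := by
    apply Set.eq_univ_of_forall
    intro x
    by_contra hx
    have h12 : MulAction.orbit (T : Subgroup (Perm α)) a ⊂ Set.univ :=
      ⟨Set.subset_univ _, fun h => hx (h (Set.mem_univ x))⟩
    have h13 := Set.ncard_lt_ncard h12 (Set.toFinite _)
    rw [h10, Set.ncard_univ] at h13
    exact lt_irrefl _ h13
  have h12 : b ∈ MulAction.orbit (T : Subgroup (Perm α)) a := by rw [h11]; trivial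
  obtain ⟨τ, hτ⟩ := h12
  exact ⟨τ.1, τ.2, hτ⟩

end Abstract

variable {F : Type*} [Field F] {n : Type*} [Fintype n] [DecidableEq n]

/-- The case where 2 is not a square. -/
theorem pn_nonsq [Finite F] (h2 : (2 : F) ≠ 0) (hns : ¬ IsSquare (2 : F)) {k : ℕ}
    (hn : Fintype.card n = 2 ^ k) : PN (GU n F) := by
  obtain ⟨T⟩ : Nonempty (Sylow 2 (Perm n)) := inferInstance
  have hT := sylow_transitive hn T
  obtain ⟨S, hS⟩ := exists_sylow_SG (F := F) h2 hns T hT
  have hcop : ∀ x ∈ Subgroup.normalizer ((S : Subgroup (GU n F)) : Set (GU n F)),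
      ∃ u : U F, (u = 1 ∨ u = om h2 ∨ u = (om h2)⁻¹) ∧ ∃ s ∈ (S : Subgroup (GU n F)), x = sc u * s := by
    intro x hx
    rw [hS] at hx ⊢
    rcases norm_SG_Q8 h2 hns T hT hx with h | h | h
    · exact ⟨1, Or.inl rfl, x, h, by rw [map_one, one_mul]⟩
    · exact ⟨om h2, Or.inr (Or.inl rfl), _, h, by group⟩
    · exact ⟨(om h2)⁻¹, Or.inr (Or.inr rfl), _, h, by rw [map_inv]; group⟩
  have hsc : ∀ u : U F, (u = 1 ∨ u = om h2 ∨ u = (om h2)⁻¹) →
      sc u ∈ Subgroup.normalizer ((S : Subgroup (GU n F)) : Set (GU n F)) := by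
    have h1 : sc (om h2) ∈ Subgroup.normalizer ((S : Subgroup (GU n F)) : Set (GU n F)) := by
      rw [Subgroup.mem_normalizer_iff, hS]
      intro s
      refine ⟨fun h => sc_om_conj h2 h, fun h => ?_⟩
      have h3 := sc_om_conj' h2 h
      have h4 : (sc (om h2))⁻¹ * (sc (om h2) * s * (sc (om h2))⁻¹) * sc (om h2) = s := by group
      rwa [h4] at h3
    rintro u (rfl | rfl | rfl)
    · rw [map_one]; exact one_mem _
    · exact h1
    · rw [map_inv]; exact inv_mem h1
  have hcomm : ∀ u v : U F, (u = 1 ∨ u = om h2 ∨ u = (om h2)⁻¹) →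
      (v = 1 ∨ v = om h2 ∨ v = (om h2)⁻¹) → u * v = v * u := by
    rintro u v (rfl | rfl | rfl) (rfl | rfl | rfl) <;> group
  refine pn_of_sylow S (fun H hH m hm => ?_) (fun a ha b hb => ?_)
  · obtain ⟨u, hu, s, hs, rfl⟩ := hcop m hm
    have h3 : H.map (MulAut.conj (sc u * s)).toMonoidHom = H.map (MulAut.conj (sc u)).toMonoidHom := by
      rw [Cfsg.Agent.H94.Pronormal.map_conj_mul,
        Cfsg.Agent.H94.Pronormal.map_conj_of_mem_normalizer (Subgroup.le_normalizer (hH hs))]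
    rw [h3]
    rw [hS] at hH
    rcases hu with rfl | hu
    · exact ⟨1, one_mem _, by rw [map_one]⟩
    · exact PronA.final_conj h2 hns T hT hH hu
  · obtain ⟨u, hu, s, hs, rfl⟩ := hcop a ha
    obtain ⟨v, hv, t, ht, rfl⟩ := hcop b hb
    refine comm_mod (hsc u hu) (hsc v hv) ?_ hs ht
    rw [← map_mul, ← map_mul, hcomm u v hu hv]

/-- The case where 2 is a square. -/
theorem pn_sq [Finite F] (h2 : (2 : F) ≠ 0) (hs : IsSquare (2 : F)) : PN (GU n F) := by
  have := Fintype.ofFinite F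
  obtain ⟨T⟩ : Nonempty (Sylow 2 (Perm n)) := inferInstance
  -- a Sylow subgroup of `U F` containing `i`
  have hu4 : (uI : U F) * uI = nu := by
    apply Subtype.ext; show (qi : ℍ[F]) * qi = -1; exact qi_mul_qi
  have hz : IsPGroup 2 (Subgroup.zpowers (uI : U F)) := by
    rintro ⟨y, hy⟩
    obtain ⟨l, rfl⟩ := Subgroup.mem_zpowers_iff.1 hy
    refine ⟨2, Subtype.ext ?_⟩
    show ((uI : U F) ^ l) ^ 2 ^ 2 = 1
    rw [← zpow_natCast, ← _root_.zpow_mul, mul_comm, _root_.zpow_mul, zpow_natCast,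
      show 2 ^ 2 = 2 * 2 from rfl, pow_mul, pow_two uI, hu4, pow_two, nu_sq, _root_.one_zpow]
  obtain ⟨W, hW⟩ := hz.exists_le_sylow
  have hself : ∀ u : U F, (∀ w ∈ (W : Subgroup (U F)), u * w * u⁻¹ ∈ (W : Subgroup (U F))) →
      u ∈ (W : Subgroup (U F)) := by
    obtain ⟨e⟩ := exists_equivSL (F := F) h2
    have hodd : Odd (Fintype.card F) := by
      refine Nat.odd_iff.2 (FiniteField.odd_card_of_char_ne_two fun h => h2 ?_)
      have h0 := ringChar.Nat.cast_ringChar (R := F)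
      rw [h] at h0
      exact_mod_cast h0
    have h8 : Fintype.card F % 8 = 1 ∨ Fintype.card F % 8 = 7 := by
      have h3 := FiniteField.isSquare_two_iff.1 hs
      obtain ⟨l, hl⟩ := hodd
      omega
    intro u hu
    have h3 := (S2431.result hodd (W.mapSurjective (f := e.toMonoidHom) e.surjective)).2.1 h8
    have h4 : e u ∈ Subgroup.normalizer ((W.mapSurjective (f := e.toMonoidHom) e.surjective :
        Subgroup (Matrix.SpecialLinearGroup (Fin 2) F)) : Set _) := by
      apply Subgroup.mem_normalizer_fintype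
      rintro _ ⟨w, hw, rfl⟩
      refine ⟨u * w * u⁻¹, hu w hw, ?_⟩
      rw [map_mul, map_mul, map_inv]
      rfl
    rw [h3] at h4
    obtain ⟨w, hw, hwe⟩ := h4
    have h5 : w = u := e.injective hwe
    rw [← h5]; exact hw
  have hnorm := SG_self h2 T ⟨uI, hW (Subgroup.mem_zpowers _), hu4⟩ hself
  obtain ⟨S, hS⟩ := exists_sylow_eq (SG (W : Subgroup (U F)) (T : Subgroup (Perm n)))
    (SG_isPGroup W.isPGroup' T.isPGroup') (by
      intro m hm _
      apply hnorm
      exact Subgroup.mem_normalizer_fintype hm)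
  apply pn_of_selfNorm S
  rw [hS]
  exact hnorm

theorem pn_GU [Finite F] (h2 : (2 : F) ≠ 0) {k : ℕ} (hn : Fintype.card n = 2 ^ k) :
    PN (GU n F) := by
  by_cases hs : IsSquare (2 : F)
  · exact pn_sq h2 hs
  · exact pn_nonsq h2 hs hn

end Cfsg.Agent.H158.PronB
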