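import Mathlib.Algebra.Quaternion
import Mathlib.Algebra.Star.Unitary
import Mathlib.Tactic
import Mathlib.FieldTheory.Finite.Basic
import Mathlib.GroupTheory.PGroup
import Mathlib.GroupTheory.Sylow
import Mathlib.GroupTheory.Nilpotent

/-!
# Norm one quaternions over a field in which 2 is not a square (helper158)
-/

set_option autoImplicit false
set_option linter.unreachableTactic false
set_option linter.unnecessarySeqFocus false
set_option linter.unusedTactic false

namespace Cfsg.Agent.H158.PronQ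

open Quaternion

/-- The group of quaternions of norm one. -/
abbrev U (F : Type*) [Field F] := unitary ℍ[F]

section Basic

variable {F : Type*} [Field F]

theorem mem_U {q : ℍ[F]} : q ∈ unitary ℍ[F] ↔ normSq q = 1 := by
  rw [Unitary.mem_iff, star_mul_self, self_mul_star, and_self_iff]
  constructor
  · intro h
    exact Quaternion.coe_injective (by rw [h]; rfl)
  · intro h
    rw [h]; rfl

theorem normSq_U (u : U F) : normSq (u : ℍ[F]) = 1 := mem_U.1 u.2

theorem normSq_U' (u : U F) : (u : ℍ[F]).re ^ 2 + (u : ℍ[F]).imI ^ 2 + (u : ℍ[F]).imJ ^ 2 +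
    (u : ℍ[F]).imK ^ 2 = 1 := by rw [← normSq_def', normSq_U]

theorem coe_inv (u : U F) : ((u⁻¹ : U F) : ℍ[F]) = star (u : ℍ[F]) := by
  rw [← Unitary.star_eq_inv]; rfl

/-- The quaternion units. -/
def qi : ℍ[F] := ⟨0, 1, 0, 0⟩
def qj : ℍ[F] := ⟨0, 0, 1, 0⟩
def qk : ℍ[F] := ⟨0, 0, 0, 1⟩

@[simp] theorem qi_re : (qi : ℍ[F]).re = 0 := rfl
@[simp] theorem qi_imI : (qi : ℍ[F]).imI = 1 := rfl
@[simp] theorem qi_imJ : (qi : ℍ[F]).imJ = 0 := rfl
@[simp] theorem qi_imK : (qi : ℍ[F]).imK = 0 := rfl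
@[simp] theorem qj_re : (qj : ℍ[F]).re = 0 := rfl
@[simp] theorem qj_imI : (qj : ℍ[F]).imI = 0 := rfl
@[simp] theorem qj_imJ : (qj : ℍ[F]).imJ = 1 := rfl
@[simp] theorem qj_imK : (qj : ℍ[F]).imK = 0 := rfl
@[simp] theorem qk_re : (qk : ℍ[F]).re = 0 := rfl
@[simp] theorem qk_imI : (qk : ℍ[F]).imI = 0 := rfl
@[simp] theorem qk_imJ : (qk : ℍ[F]).imJ = 0 := rfl
@[simp] theorem qk_imK : (qk : ℍ[F]).imK = 1 := rfl

@[simp] theorem qi_mul_qi : (qi : ℍ[F]) * qi = -1 := by apply Quaternion.ext <;> simp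
@[simp] theorem qj_mul_qj : (qj : ℍ[F]) * qj = -1 := by apply Quaternion.ext <;> simp
@[simp] theorem qk_mul_qk : (qk : ℍ[F]) * qk = -1 := by apply Quaternion.ext <;> simp
@[simp] theorem qi_mul_qj : (qi : ℍ[F]) * qj = qk := by apply Quaternion.ext <;> simp
@[simp] theorem qj_mul_qi : (qj : ℍ[F]) * qi = -qk := by apply Quaternion.ext <;> simp
@[simp] theorem qj_mul_qk : (qj : ℍ[F]) * qk = qi := by apply Quaternion.ext <;> simp
@[simp] theorem qk_mul_qj : (qk : ℍ[F]) * qj = -qi := by apply Quaternion.ext <;> simp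
@[simp] theorem qk_mul_qi : (qk : ℍ[F]) * qi = qj := by apply Quaternion.ext <;> simp
@[simp] theorem qi_mul_qk : (qi : ℍ[F]) * qk = -qj := by apply Quaternion.ext <;> simp
@[simp] theorem star_qi : star (qi : ℍ[F]) = -qi := by apply Quaternion.ext <;> simp
@[simp] theorem star_qj : star (qj : ℍ[F]) = -qj := by apply Quaternion.ext <;> simp
@[simp] theorem star_qk : star (qk : ℍ[F]) = -qk := by apply Quaternion.ext <;> simp
@[simp] theorem normSq_qi : normSq (qi : ℍ[F]) = 1 := by simp [normSq_def']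
@[simp] theorem normSq_qj : normSq (qj : ℍ[F]) = 1 := by simp [normSq_def']
@[simp] theorem normSq_qk : normSq (qk : ℍ[F]) = 1 := by simp [normSq_def']

/-- The eight elements of the quaternion group. -/
def IsQ8 (u : ℍ[F]) : Prop :=
  u = 1 ∨ u = -1 ∨ u = qi ∨ u = -qi ∨ u = qj ∨ u = -qj ∨ u = qk ∨ u = -qk

theorem IsQ8.neg {u : ℍ[F]} (h : IsQ8 u) : IsQ8 (-u) := by
  rcases h with h | h | h | h | h | h | h | h <;> subst h <;> simp [IsQ8]

theorem IsQ8.mul {u v : ℍ[F]} (h : IsQ8 u) (h' : IsQ8 v) : IsQ8 (u * v) := by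
  have key : ∀ x ∈ ({1, qi, qj, qk} : Set ℍ[F]), ∀ y ∈ ({1, qi, qj, qk} : Set ℍ[F]),
      IsQ8 (x * y) := by
    rintro x (rfl | rfl | rfl | rfl) y (rfl | rfl | rfl | rfl) <;> simp [IsQ8]
  have red : ∀ u : ℍ[F], IsQ8 u → ∃ x ∈ ({1, qi, qj, qk} : Set ℍ[F]), u = x ∨ u = -x := by
    rintro u (h | h | h | h | h | h | h | h) <;> subst h
    · exact ⟨1, by simp, by simp⟩
    · exact ⟨1, by simp, by simp⟩
    · exact ⟨qi, by simp, by simp⟩
    · exact ⟨qi, by simp, by simp⟩
    · exact ⟨qj, by simp, by simp⟩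
    · exact ⟨qj, by simp, by simp⟩
    · exact ⟨qk, by simp, by simp⟩
    · exact ⟨qk, by simp, by simp⟩
  obtain ⟨x, hx, h | h⟩ := red u h <;> obtain ⟨y, hy, h' | h'⟩ := red v h' <;> rw [h, h']
  · exact key x hx y hy
  · rw [mul_neg]; exact (key x hx y hy).neg
  · rw [neg_mul]; exact (key x hx y hy).neg
  · rw [neg_mul_neg]; exact key x hx y hy

theorem IsQ8.star {u : ℍ[F]} (h : IsQ8 u) : IsQ8 (star u) := by
  rcases h with h | h | h | h | h | h | h | h <;> subst h <;> simp [IsQ8]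

theorem IsQ8.normSq {u : ℍ[F]} (h : IsQ8 u) : normSq u = 1 := by
  rcases h with h | h | h | h | h | h | h | h <;> subst h <;> simp

variable (F) in
/-- The quaternion group of order 8. -/
def Q8 : Subgroup (U F) where
  carrier := {u | IsQ8 (u : ℍ[F])}
  mul_mem' := fun {a b} ha hb => IsQ8.mul ha hb
  one_mem' := Or.inl rfl
  inv_mem' := fun {a} ha => by
    show IsQ8 _
    rw [coe_inv]
    exact IsQ8.star ha

theorem mem_Q8 {u : U F} : u ∈ Q8 F ↔ IsQ8 (u : ℍ[F]) := Iff.rfl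

def uI : U F := ⟨qi, mem_U.2 (by simp)⟩
def uJ : U F := ⟨qj, mem_U.2 (by simp)⟩
def uK : U F := ⟨qk, mem_U.2 (by simp)⟩

@[simp] theorem coe_uI : ((uI : U F) : ℍ[F]) = qi := rfl
@[simp] theorem coe_uJ : ((uJ : U F) : ℍ[F]) = qj := rfl
@[simp] theorem coe_uK : ((uK : U F) : ℍ[F]) = qk := rfl

theorem uI_mem : (uI : U F) ∈ Q8 F := Or.inr (Or.inr (Or.inl rfl))
theorem uJ_mem : (uJ : U F) ∈ Q8 F := Or.inr (Or.inr (Or.inr (Or.inr (Or.inl rfl))))
theorem uK_mem : (uK : U F) ∈ Q8 F :=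
  Or.inr (Or.inr (Or.inr (Or.inr (Or.inr (Or.inr (Or.inl rfl))))))

/-- A quaternion commuting with the units is central. -/
theorem eq_coe_of_comm {q : ℍ[F]} (h2 : (2 : F) ≠ 0) (hi : q * qi = qi * q) (hj : q * qj = qj * q) :
    q = (q.re : ℍ[F]) := by
  have h1 := congrArg QuaternionAlgebra.imJ hi
  have h3 := congrArg QuaternionAlgebra.imK hi
  have h4 := congrArg QuaternionAlgebra.imK hj
  simp at h1 h3 h4
  have e1 : q.imK = 0 := by
    have : (2 : F) * q.imK = 0 := by linear_combination h1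
    exact (mul_eq_zero.1 this).resolve_left h2
  have e2 : q.imJ = 0 := by
    have : (2 : F) * q.imJ = 0 := by linear_combination -h3
    exact (mul_eq_zero.1 this).resolve_left h2
  have e3 : q.imI = 0 := by
    have : (2 : F) * q.imI = 0 := by linear_combination h4
    exact (mul_eq_zero.1 this).resolve_left h2
  apply Quaternion.ext <;> simp [e1, e2, e3]

/-- If `b̄ w b = 0` for `w = 1, i, j, k`, then `b = 0`. -/
theorem eq_zero_of_sandwich {b : ℍ[F]} (h2 : (2 : F) ≠ 0) (h0 : star b * b = 0)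
    (hi : star b * qi * b = 0) (hj : star b * qj * b = 0) (hk : star b * qk * b = 0) : b = 0 := by
  have e0 := congrArg QuaternionAlgebra.re h0
  have e1 := congrArg QuaternionAlgebra.imI hi
  have e2 := congrArg QuaternionAlgebra.imJ hj
  have e3 := congrArg QuaternionAlgebra.imK hk
  simp at e0 e1 e2 e3
  have hh : (2 : F) * 2 ≠ 0 := mul_ne_zero h2 h2
  have f0 : b.re = 0 := by
    have : (2 : F) * 2 * (b.re * b.re) = 0 := by linear_combination e0 + e1 + e2 + e3
    exact mul_self_eq_zero.1 ((mul_eq_zero.1 this).resolve_left hh)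
  have f1 : b.imI = 0 := by
    have : (2 : F) * 2 * (b.imI * b.imI) = 0 := by linear_combination e0 + e1 - e2 - e3
    exact mul_self_eq_zero.1 ((mul_eq_zero.1 this).resolve_left hh)
  have f2 : b.imJ = 0 := by
    have : (2 : F) * 2 * (b.imJ * b.imJ) = 0 := by linear_combination e0 - e1 + e2 - e3
    exact mul_self_eq_zero.1 ((mul_eq_zero.1 this).resolve_left hh)
  have f3 : b.imK = 0 := by
    have : (2 : F) * 2 * (b.imK * b.imK) = 0 := by linear_combination e0 - e1 - e2 + e3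
    exact mul_self_eq_zero.1 ((mul_eq_zero.1 this).resolve_left hh)
  apply Quaternion.ext <;> simp [f0, f1, f2, f3]

/-- `n t n = tr(tn) n - N(n) t̄`. -/
theorem sandwich (n t : ℍ[F]) : n * t * n = (2 * (t * n).re) • n - normSq n • star t := by
  apply Quaternion.ext <;> simp [normSq_def'] <;> ring

/-- If `n` is a pure null quaternion and `x n x̄ = 0`, then `x n = 0`. -/
theorem mul_eq_zero_of_conj {x n : ℍ[F]} (h2 : (2 : F) ≠ 0) (hn : n.re = 0) (hN : normSq n = 0)
    (h : x * n * star x = 0) : x * n = 0 := by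
  have hsn : star n = -n := by apply Quaternion.ext <;> simp [hn]
  have key : ∀ t : ℍ[F], (x * n) * t * star (x * n) = 0 := by
    intro t
    have h1 : (x * n) * t * star (x * n) = -(x * (n * t * n) * star x) := by
      rw [star_mul, hsn]; noncomm_ring
    rw [h1, sandwich, hN, zero_smul, sub_zero, mul_smul_comm, smul_mul_assoc, h, smul_zero,
      neg_zero]
  have h3 : star (x * n) = 0 := by
    apply eq_zero_of_sandwich h2
    · rw [star_star]; simpa using key 1
    · rw [star_star]; exact key qi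
    · rw [star_star]; exact key qj
    · rw [star_star]; exact key qk
  exact star_eq_zero.1 h3

/-- All coordinates are `±1/2`. -/
def Half (q : ℍ[F]) : Prop :=
  (2 * q.re) * (2 * q.re) = 1 ∧ (2 * q.imI) * (2 * q.imI) = 1 ∧
    (2 * q.imJ) * (2 * q.imJ) = 1 ∧ (2 * q.imK) * (2 * q.imK) = 1

theorem Q8_vals {x y : ℍ[F]} (hx : IsQ8 x) (hy : IsQ8 y) (hx0 : x.re = 0) (hy0 : y.re = 0) :
    (x.imI = 0 ∧ y.imJ = 0 ∧ (x * y).imK = 0) ∨
    ((x.imI = 1 ∨ x.imI = -1) ∧ y.imJ = 0 ∧ (x * y).imK = 0) ∨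
    (x.imI = 0 ∧ (y.imJ = 1 ∨ y.imJ = -1) ∧ (x * y).imK = 0) ∨
    (x.imI = 0 ∧ y.imJ = 0 ∧ ((x * y).imK = 1 ∨ (x * y).imK = -1)) ∨
    ((x.imI = 1 ∨ x.imI = -1) ∧ (y.imJ = 1 ∨ y.imJ = -1) ∧ (x * y).imK = x.imI * y.imJ) := by
  rcases hx with h | h | h | h | h | h | h | h <;> subst h <;>
    rcases hy with h | h | h | h | h | h | h | h <;> subst h <;> simp at hx0 hy0 ⊢

theorem normalizes {u : U F} (h2 : (2 : F) ≠ 0) (hns : ¬ IsSquare (2 : F))
    (hi : IsQ8 ((u : ℍ[F]) * qi * star (u : ℍ[F])))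
    (hj : IsQ8 ((u : ℍ[F]) * qj * star (u : ℍ[F]))) : IsQ8 (u : ℍ[F]) ∨ Half (u : ℍ[F]) := by
  have hN := normSq_U' u
  have hu : star (u : ℍ[F]) * u = 1 := Unitary.coe_star_mul_self u
  generalize (u : ℍ[F]) = q at *
  have hprod : (q * qi * star q) * (q * qj * star q) = q * qk * star q := by
    calc (q * qi * star q) * (q * qj * star q) = q * qi * (star q * q) * qj * star q := by
          noncomm_ring
      _ = q * (qi * qj) * star q := by rw [hu]; noncomm_ring
      _ = q * qk * star q := by rw [qi_mul_qj]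
  have h0 : (q * qi * star q).re = 0 := by simp; ring
  have h0' : (q * qj * star q).re = 0 := by simp; ring
  have hv := Q8_vals hi hj h0 h0'
  rw [hprod] at hv
  have r1 : (q * qi * star q).imI = q.re ^ 2 + q.imI ^ 2 - q.imJ ^ 2 - q.imK ^ 2 := by
    simp; ring
  have r2 : (q * qj * star q).imJ = q.re ^ 2 - q.imI ^ 2 + q.imJ ^ 2 - q.imK ^ 2 := by
    simp; ring
  have r3 : (q * qk * star q).imK = q.re ^ 2 - q.imI ^ 2 - q.imJ ^ 2 + q.imK ^ 2 := by
    simp; ring
  rw [r1, r2, r3] at hv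
  have h4 : (4 : F) ≠ 0 := by
    have : (4 : F) = 2 * 2 := by norm_num
    rw [this]; exact mul_ne_zero h2 h2
  have sq0 : ∀ x : F, 4 * (x * x) = 0 → x = 0 := fun x h =>
    mul_self_eq_zero.1 ((mul_eq_zero.1 h).resolve_left h4)
  have sq1 : ∀ x : F, 4 * (x * x) = 4 → x = 1 ∨ x = -1 := fun x h => by
    have : x * x = 1 := by
      have h5 : 4 * (x * x - 1) = 0 := by linear_combination h
      exact sub_eq_zero.1 ((mul_eq_zero.1 h5).resolve_left h4)
    exact mul_self_eq_one_iff.1 this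
  rcases hv with ⟨e1, e2, e3⟩ | ⟨e1, e2, e3⟩ | ⟨e1, e2, e3⟩ | ⟨e1, e2, e3⟩ | ⟨e1, e2, e3⟩
  · right
    refine ⟨?_, ?_, ?_, ?_⟩
    · linear_combination hN + e1 + e2 + e3
    · linear_combination hN + e1 - e2 - e3
    · linear_combination hN - e1 + e2 - e3
    · linear_combination hN - e1 - e2 + e3
  · exfalso
    rcases e1 with e1 | e1
    · exact hns ⟨2 * q.re, by linear_combination -hN - e1 - e2 - e3⟩
    · exact hns ⟨2 * q.imJ, by linear_combination -hN + e1 - e2 + e3⟩
  · exfalso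
    rcases e2 with e2 | e2
    · exact hns ⟨2 * q.re, by linear_combination -hN - e1 - e2 - e3⟩
    · exact hns ⟨2 * q.imI, by linear_combination -hN - e1 + e2 + e3⟩
  · exfalso
    rcases e3 with e3 | e3
    · exact hns ⟨2 * q.re, by linear_combination -hN - e1 - e2 - e3⟩
    · exact hns ⟨2 * q.imI, by linear_combination -hN - e1 + e2 + e3⟩
  · left
    rcases e1 with e1 | e1 <;> rcases e2 with e2 | e2
    · rw [e1, e2] at e3
      have f1 : q.imI = 0 := sq0 _ (by linear_combination hN + e1 - e2 - e3)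
      have f2 : q.imJ = 0 := sq0 _ (by linear_combination hN - e1 + e2 - e3)
      have f3 : q.imK = 0 := sq0 _ (by linear_combination hN - e1 - e2 + e3)
      rcases sq1 q.re (by linear_combination hN + e1 + e2 + e3) with f0 | f0
      · exact Or.inl (by apply Quaternion.ext <;> simp [f0, f1, f2, f3])
      · exact Or.inr (Or.inl (by apply Quaternion.ext <;> simp [f0, f1, f2, f3]))
    · rw [e1, e2] at e3
      have f0 : q.re = 0 := sq0 _ (by linear_combination hN + e1 + e2 + e3)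
      have f2 : q.imJ = 0 := sq0 _ (by linear_combination hN - e1 + e2 - e3)
      have f3 : q.imK = 0 := sq0 _ (by linear_combination hN - e1 - e2 + e3)
      rcases sq1 q.imI (by linear_combination hN + e1 - e2 - e3) with f1 | f1
      · exact Or.inr (Or.inr (Or.inl (by apply Quaternion.ext <;> simp [f0, f1, f2, f3])))
      · exact Or.inr (Or.inr (Or.inr (Or.inl (by apply Quaternion.ext <;> simp [f0, f1, f2, f3]))))
    · rw [e1, e2] at e3
      have f0 : q.re = 0 := sq0 _ (by linear_combination hN + e1 + e2 + e3)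
      have f1 : q.imI = 0 := sq0 _ (by linear_combination hN + e1 - e2 - e3)
      have f3 : q.imK = 0 := sq0 _ (by linear_combination hN - e1 - e2 + e3)
      rcases sq1 q.imJ (by linear_combination hN - e1 + e2 - e3) with f2 | f2
      · exact Or.inr (Or.inr (Or.inr (Or.inr (Or.inl (by
          apply Quaternion.ext <;> simp [f0, f1, f2, f3])))))
      · exact Or.inr (Or.inr (Or.inr (Or.inr (Or.inr (Or.inl (by
          apply Quaternion.ext <;> simp [f0, f1, f2, f3]))))))
    · rw [e1, e2] at e3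
      have f0 : q.re = 0 := sq0 _ (by linear_combination hN + e1 + e2 + e3)
      have f1 : q.imI = 0 := sq0 _ (by linear_combination hN + e1 - e2 - e3)
      have f2 : q.imJ = 0 := sq0 _ (by linear_combination hN - e1 + e2 - e3)
      rcases sq1 q.imK (by linear_combination hN - e1 - e2 + e3) with f3 | f3
      · exact Or.inr (Or.inr (Or.inr (Or.inr (Or.inr (Or.inr (Or.inl (by
          apply Quaternion.ext <;> simp [f0, f1, f2, f3])))))))
      · exact Or.inr (Or.inr (Or.inr (Or.inr (Or.inr (Or.inr (Or.inr (by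
          apply Quaternion.ext <;> simp [f0, f1, f2, f3])))))))

/-- The quaternion with given coordinates. -/
def mkQ (a b c d : F) : ℍ[F] := ⟨a, b, c, d⟩

@[simp] theorem mkQ_re (a b c d : F) : (mkQ a b c d).re = a := rfl
@[simp] theorem mkQ_imI (a b c d : F) : (mkQ a b c d).imI = b := rfl
@[simp] theorem mkQ_imJ (a b c d : F) : (mkQ a b c d).imJ = c := rfl
@[simp] theorem mkQ_imK (a b c d : F) : (mkQ a b c d).imK = d := rfl

theorem eq_mkQ (q : ℍ[F]) : q = mkQ q.re q.imI q.imJ q.imK := rfl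

/-- An element with all coordinates `±1/2` is `ω^{±1} v` with `v` in `Q8`. -/
theorem half_cases {t : F} (ht : 2 * t = 1) {s0 s1 s2 s3 : F} (h0 : s0 = 1 ∨ s0 = -1)
    (h1 : s1 = 1 ∨ s1 = -1) (h2 : s2 = 1 ∨ s2 = -1) (h3 : s3 = 1 ∨ s3 = -1) :
    IsQ8 (mkQ (-t) (-t) (-t) (-t) * mkQ (s0 * t) (s1 * t) (s2 * t) (s3 * t)) ∨
      IsQ8 (mkQ (-t) t t t * mkQ (s0 * t) (s1 * t) (s2 * t) (s3 * t)) := by
  rcases h0 with h0 | h0 <;> rcases h1 with h1 | h1 <;> rcases h2 with h2 | h2 <;>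
    rcases h3 with h3 | h3 <;> subst h0 h1 h2 h3
  · right; exact Or.inr (Or.inl (by apply Quaternion.ext <;> simp <;> first | ring1 | linear_combination (2 * t + 1) * ht | linear_combination -(2 * t + 1) * ht))
  · left; exact Or.inr (Or.inr (Or.inr (Or.inr (Or.inr (Or.inl (by apply Quaternion.ext <;> simp <;> first | ring1 | linear_combination (2 * t + 1) * ht | linear_combination -(2 * t + 1) * ht))))))
  · left; exact Or.inr (Or.inr (Or.inr (Or.inl (by apply Quaternion.ext <;> simp <;> first | ring1 | linear_combination (2 * t + 1) * ht | linear_combination -(2 * t + 1) * ht))))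
  · right; exact Or.inr (Or.inr (Or.inr (Or.inr (Or.inl (by apply Quaternion.ext <;> simp <;> first | ring1 | linear_combination (2 * t + 1) * ht | linear_combination -(2 * t + 1) * ht)))))
  · left; exact Or.inr (Or.inr (Or.inr (Or.inr (Or.inr (Or.inr (Or.inr ((by apply Quaternion.ext <;> simp <;> first | ring1 | linear_combination (2 * t + 1) * ht | linear_combination -(2 * t + 1) * ht))))))))
  · right; exact Or.inr (Or.inr (Or.inr (Or.inr (Or.inr (Or.inr (Or.inl (by apply Quaternion.ext <;> simp <;> first | ring1 | linear_combination (2 * t + 1) * ht | linear_combination -(2 * t + 1) * ht)))))))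
  · right; exact Or.inr (Or.inr (Or.inl (by apply Quaternion.ext <;> simp <;> first | ring1 | linear_combination (2 * t + 1) * ht | linear_combination -(2 * t + 1) * ht)))
  · left; exact Or.inr (Or.inl (by apply Quaternion.ext <;> simp <;> first | ring1 | linear_combination (2 * t + 1) * ht | linear_combination -(2 * t + 1) * ht))
  · left; exact Or.inl (by apply Quaternion.ext <;> simp <;> first | ring1 | linear_combination (2 * t + 1) * ht | linear_combination -(2 * t + 1) * ht)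
  · right; exact Or.inr (Or.inr (Or.inr (Or.inl (by apply Quaternion.ext <;> simp <;> first | ring1 | linear_combination (2 * t + 1) * ht | linear_combination -(2 * t + 1) * ht))))
  · right; exact Or.inr (Or.inr (Or.inr (Or.inr (Or.inr (Or.inr (Or.inr ((by apply Quaternion.ext <;> simp <;> first | ring1 | linear_combination (2 * t + 1) * ht | linear_combination -(2 * t + 1) * ht))))))))
  · left; exact Or.inr (Or.inr (Or.inr (Or.inr (Or.inr (Or.inr (Or.inl (by apply Quaternion.ext <;> simp <;> first | ring1 | linear_combination (2 * t + 1) * ht | linear_combination -(2 * t + 1) * ht)))))))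
  · right; exact Or.inr (Or.inr (Or.inr (Or.inr (Or.inr (Or.inl (by apply Quaternion.ext <;> simp <;> first | ring1 | linear_combination (2 * t + 1) * ht | linear_combination -(2 * t + 1) * ht))))))
  · left; exact Or.inr (Or.inr (Or.inl (by apply Quaternion.ext <;> simp <;> first | ring1 | linear_combination (2 * t + 1) * ht | linear_combination -(2 * t + 1) * ht)))
  · left; exact Or.inr (Or.inr (Or.inr (Or.inr (Or.inl (by apply Quaternion.ext <;> simp <;> first | ring1 | linear_combination (2 * t + 1) * ht | linear_combination -(2 * t + 1) * ht)))))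
  · right; exact Or.inl (by apply Quaternion.ext <;> simp <;> first | ring1 | linear_combination (2 * t + 1) * ht | linear_combination -(2 * t + 1) * ht)

variable (F) in
/-- The quaternion `ω = (-1 + i + j + k) / 2`. -/
def omQ : ℍ[F] := mkQ (-2⁻¹) 2⁻¹ 2⁻¹ 2⁻¹

theorem two_half (h2 : (2 : F) ≠ 0) : (2 : F) * 2⁻¹ = 1 := mul_inv_cancel₀ h2

theorem normSq_omQ (h2 : (2 : F) ≠ 0) : normSq (omQ F) = 1 := by
  have ht := two_half h2
  rw [normSq_def']
  simp only [omQ, mkQ_re, mkQ_imI, mkQ_imJ, mkQ_imK]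
  linear_combination (2 * (2 : F)⁻¹ + 1) * ht

/-- `ω` as an element of the norm one group. -/
def om (h2 : (2 : F) ≠ 0) : U F := ⟨omQ F, mem_U.2 (normSq_omQ h2)⟩

@[simp] theorem coe_om (h2 : (2 : F) ≠ 0) : ((om h2 : U F) : ℍ[F]) = omQ F := rfl

theorem om_conj (h2 : (2 : F) ≠ 0) (q : ℍ[F]) :
    omQ F * q * star (omQ F) = mkQ q.re q.imJ q.imK q.imI := by
  have ht := two_half h2
  apply Quaternion.ext <;> simp [omQ] <;> field_simp <;> ring1

theorem om_conj' (h2 : (2 : F) ≠ 0) (q : ℍ[F]) :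
    star (omQ F) * q * omQ F = mkQ q.re q.imK q.imI q.imJ := by
  have ht := two_half h2
  apply Quaternion.ext <;> simp [omQ] <;> field_simp <;> ring1

theorem isQ8_shift {q : ℍ[F]} (h : IsQ8 q) : IsQ8 (mkQ q.re q.imJ q.imK q.imI) := by
  rcases h with h | h | h | h | h | h | h | h <;> subst h
  · exact Or.inl (by apply Quaternion.ext <;> simp)
  · exact Or.inr (Or.inl (by apply Quaternion.ext <;> simp))
  · exact Or.inr (Or.inr (Or.inr (Or.inr (Or.inr (Or.inr (Or.inl (by
      apply Quaternion.ext <;> simp)))))))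
  · exact Or.inr (Or.inr (Or.inr (Or.inr (Or.inr (Or.inr (Or.inr (by
      apply Quaternion.ext <;> simp)))))))
  · exact Or.inr (Or.inr (Or.inl (by apply Quaternion.ext <;> simp)))
  · exact Or.inr (Or.inr (Or.inr (Or.inl (by apply Quaternion.ext <;> simp))))
  · exact Or.inr (Or.inr (Or.inr (Or.inr (Or.inl (by apply Quaternion.ext <;> simp)))))
  · exact Or.inr (Or.inr (Or.inr (Or.inr (Or.inr (Or.inl (by
      apply Quaternion.ext <;> simp))))))

theorem om_conj_mem (h2 : (2 : F) ≠ 0) {v : U F} (hv : v ∈ Q8 F) :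
    om h2 * v * (om h2)⁻¹ ∈ Q8 F := by
  show IsQ8 _
  have : ((om h2 * v * (om h2)⁻¹ : U F) : ℍ[F]) = omQ F * v * star (omQ F) := by
    rw [Submonoid.coe_mul, Submonoid.coe_mul, coe_inv]; rfl
  rw [this, om_conj h2]
  exact isQ8_shift hv

theorem om_conj_mem' (h2 : (2 : F) ≠ 0) {v : U F} (hv : v ∈ Q8 F) :
    (om h2)⁻¹ * v * om h2 ∈ Q8 F := by
  show IsQ8 _
  have : (((om h2)⁻¹ * v * om h2 : U F) : ℍ[F]) = star (omQ F) * v * omQ F := by
    rw [Submonoid.coe_mul, Submonoid.coe_mul, coe_inv]; rfl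
  rw [this, om_conj' h2]
  exact isQ8_shift (isQ8_shift hv)

theorem om_cube (h2 : (2 : F) ≠ 0) : om h2 ^ 3 = 1 := by
  apply Subtype.ext
  have ht := two_half h2
  have h1 : omQ F * omQ F = star (omQ F) := by
    apply Quaternion.ext <;> simp [omQ] <;> field_simp <;> ring1
  have h3 : ((om h2 ^ 3 : U F) : ℍ[F]) = omQ F * omQ F * omQ F := by
    rw [pow_succ, pow_two]; rfl
  rw [h3, h1, star_mul_self, normSq_omQ h2]; rfl

theorem half_mem (h2 : (2 : F) ≠ 0) {u : U F} (h : Half (u : ℍ[F])) :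
    (om h2)⁻¹ * u ∈ Q8 F ∨ om h2 * u ∈ Q8 F := by
  obtain ⟨e0, e1, e2, e3⟩ := h
  have ht := two_half h2
  have hc := half_cases ht (mul_self_eq_one_iff.1 e0) (mul_self_eq_one_iff.1 e1)
    (mul_self_eq_one_iff.1 e2) (mul_self_eq_one_iff.1 e3)
  have hu : mkQ (2 * (u : ℍ[F]).re * 2⁻¹) (2 * (u : ℍ[F]).imI * 2⁻¹) (2 * (u : ℍ[F]).imJ * 2⁻¹)
      (2 * (u : ℍ[F]).imK * 2⁻¹) = (u : ℍ[F]) := by
    apply Quaternion.ext <;> simp [mul_comm (2 : F), h2]
  rw [hu] at hc
  have hs : mkQ (-(2 : F)⁻¹) (-2⁻¹) (-2⁻¹) (-2⁻¹) = star (omQ F) := by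
    apply Quaternion.ext <;> simp [omQ]
  rw [hs] at hc
  rcases hc with hc | hc
  · left
    show IsQ8 _
    rw [Submonoid.coe_mul, coe_inv]
    exact hc
  · right
    exact hc

theorem half_cube {u : U F} (h : Half (u : ℍ[F])) : u ^ 3 ∈ Q8 F := by
  obtain ⟨e0, -, -, -⟩ := h
  have hN := normSq_U u
  have hsq : (u : ℍ[F]) * u = (2 * (u : ℍ[F]).re) • (u : ℍ[F]) - 1 := by
    have h1 := sandwich (u : ℍ[F]) 1
    rw [hN, one_smul, star_one, mul_one, one_mul] at h1
    exact h1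
  have h3 : ((u ^ 3 : U F) : ℍ[F]) = (u : ℍ[F]) * u * u := by
    rw [pow_succ, pow_two]; rfl
  show IsQ8 _
  rw [h3, hsq, sub_mul, smul_mul_assoc, hsq, one_mul, smul_sub, smul_smul, e0, one_smul]
  rcases mul_self_eq_one_iff.1 e0 with e | e
  · rw [e]; exact Or.inr (Or.inl (by rw [one_smul]; abel))
  · rw [e]; exact Or.inl (by rw [neg_smul, one_smul]; abel)

theorem isQ8_re {q : ℍ[F]} (h : IsQ8 q) : q.re = 0 ∨ q.re = 1 ∨ q.re = -1 := by
  rcases h with h | h | h | h | h | h | h | h <;> subst h <;> simp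

theorem om_notMem (h2 : (2 : F) ≠ 0) : om h2 ∉ Q8 F := by
  intro h
  have ht := two_half h2
  have h' : IsQ8 (omQ F) := h
  have key : ∀ q : ℍ[F], IsQ8 q → q.re * q.imI = 0 := by
    rintro q (h | h | h | h | h | h | h | h) <;> subst h <;> simp
  have h3 := key _ h'
  simp [omQ] at h3
  exact h2 h3

theorem om_comm (h2 : (2 : F) ≠ 0) {u : U F} (h : u ∈ Q8 F ∨ Half (u : ℍ[F])) :
    om h2 * u * (om h2)⁻¹ * u⁻¹ ∈ Q8 F := by
  have key : ∀ v ∈ Q8 F, om h2 * v * (om h2)⁻¹ * v⁻¹ ∈ Q8 F := fun v hv =>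
    mul_mem (om_conj_mem h2 hv) (inv_mem hv)
  rcases h with h | h
  · exact key u h
  · rcases half_mem h2 h with h | h
    · have h1 : om h2 * u * (om h2)⁻¹ * u⁻¹ = om h2 * (om h2 * ((om h2)⁻¹ * u) * (om h2)⁻¹ *
          ((om h2)⁻¹ * u)⁻¹) * (om h2)⁻¹ := by group
      rw [h1]
      exact om_conj_mem h2 (key _ h)
    · have h1 : om h2 * u * (om h2)⁻¹ * u⁻¹ = (om h2)⁻¹ * (om h2 * (om h2 * u) * (om h2)⁻¹ *
          (om h2 * u)⁻¹) * om h2 := by group
      rw [h1]
      exact om_conj_mem' h2 (key _ h)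

theorem norm_Q8 (h2 : (2 : F) ≠ 0) (hns : ¬ IsSquare (2 : F)) {u : U F}
    (h : ∀ v ∈ Q8 F, u * v * u⁻¹ ∈ Q8 F) : u ∈ Q8 F ∨ Half (u : ℍ[F]) := by
  refine normalizes h2 hns ?_ ?_
  · have := h uI uI_mem
    rw [mem_Q8, Submonoid.coe_mul, Submonoid.coe_mul, coe_inv] at this
    exact this
  · have := h uJ uJ_mem
    rw [mem_Q8, Submonoid.coe_mul, Submonoid.coe_mul, coe_inv] at this
    exact this

/-- A subgroup containing `Q8` and a further element of its normalizer contains `ω`. -/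
theorem om_mem_of_norm (h2 : (2 : F) ≠ 0) (hns : ¬ IsSquare (2 : F)) {P : Subgroup (U F)}
    (hP : Q8 F ≤ P) {u : U F} (huP : u ∈ P) (h : ∀ v ∈ Q8 F, u * v * u⁻¹ ∈ Q8 F)
    (hu : u ∉ Q8 F) : om h2 ∈ P := by
  rcases norm_Q8 h2 hns h with h1 | h1
  · exact absurd h1 hu
  · rcases half_mem h2 h1 with h3 | h3
    · have h4 : om h2 = u * ((om h2)⁻¹ * u)⁻¹ := by group
      rw [h4]
      exact mul_mem huP (inv_mem (hP h3))
    · have h4 : om h2 = (om h2 * u) * u⁻¹ := by group
      rw [h4]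
      exact mul_mem (hP h3) (inv_mem huP)

theorem Q8_pow {u : U F} (hu : u ∈ Q8 F) : u ^ 4 = 1 := by
  apply Subtype.ext
  have h3 : ((u ^ 4 : U F) : ℍ[F]) = (u : ℍ[F]) * u * (u * u) := by
    rw [show 4 = 2 + 2 from rfl, pow_add, pow_two]; rfl
  rw [h3]
  have hu' : IsQ8 (u : ℍ[F]) := hu
  generalize (u : ℍ[F]) = q at *
  rcases hu' with h | h | h | h | h | h | h | h <;> subst h <;> simp

theorem Q8_isPGroup : IsPGroup 2 (Q8 F) := fun u => ⟨2, Subtype.ext (Q8_pow u.2)⟩

end Basic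

/-- A `p`-subgroup containing all `p`-elements of its normalizer is a Sylow subgroup. -/
theorem exists_sylow_eq {G : Type*} [Group G] [Finite G] {p : ℕ} [Fact p.Prime]
    (S : Subgroup G) (hS : IsPGroup p S)
    (h : ∀ n : G, (∀ s ∈ S, n * s * n⁻¹ ∈ S) → (∃ k : ℕ, n ^ p ^ k = 1) → n ∈ S) :
    ∃ P : Sylow p G, (P : Subgroup G) = S := by
  obtain ⟨P, hP⟩ := hS.exists_le_sylow
  refine ⟨P, le_antisymm ?_ hP⟩
  by_contra hne
  have hlt : S < (P : Subgroup G) := lt_of_le_of_ne hP (fun h => hne h.ge)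
  have hnil : Group.IsNilpotent (P : Subgroup G) := P.isPGroup'.isNilpotent
  have hlt' : S.subgroupOf P < ⊤ := by
    rw [lt_top_iff_ne_top]
    intro htop
    rw [Subgroup.subgroupOf_eq_top] at htop
    exact absurd htop hlt.not_ge
  have hn := Group.normalizerCondition_of_isNilpotent (G := (P : Subgroup G)) _ hlt'
  obtain ⟨⟨n, hnP⟩, hn1, hn2⟩ := SetLike.exists_of_lt hn
  apply hn2
  rw [Subgroup.mem_subgroupOf]
  refine h n ?_ ?_
  · intro s hs
    have h1 := (Subgroup.mem_normalizer_iff.1 hn1 ⟨s, hP hs⟩).1 hs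
    exact h1
  · obtain ⟨k, hk⟩ := P.isPGroup' ⟨n, hnP⟩
    exact ⟨k, congrArg Subtype.val hk⟩

section Finite

variable {F : Type*} [Field F] [Finite F]

instance : Finite ℍ[F] := Finite.of_equiv _ (Quaternion.equivTuple F).symm

theorem mem_of_pow_coprime {G : Type*} [Group G] (S : Subgroup G) {n : G} {a b : ℕ}
    (hab : Nat.Coprime a b) (ha : n ^ a ∈ S) (hb : n ^ b ∈ S) : n ∈ S := by
  have h1 : n = (n ^ a) ^ (a.gcdA b) * (n ^ b) ^ (a.gcdB b) := by
    rw [← zpow_natCast n a, ← zpow_natCast n b, ← zpow_mul, ← zpow_mul, ← zpow_add,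
      ← Nat.gcd_eq_gcd_ab, hab.gcd_eq_one]
    simp
  rw [h1]
  exact mul_mem (zpow_mem ha _) (zpow_mem hb _)

theorem exists_sylow_Q8 (h2 : (2 : F) ≠ 0) (hns : ¬ IsSquare (2 : F)) :
    ∃ P : Sylow 2 (U F), (P : Subgroup (U F)) = Q8 F := by
  apply exists_sylow_eq (Q8 F) Q8_isPGroup
  rintro n hn ⟨k, hk⟩
  rcases norm_Q8 h2 hns hn with h | h
  · exact h
  · refine mem_of_pow_coprime (Q8 F) (a := 3) (b := 2 ^ k) ?_ (half_cube h) ?_
    · exact Nat.Coprime.pow_right k (by norm_num)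
    · rw [hk]; exact one_mem _

end Finite

end Cfsg.Agent.H158.PronQ
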