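import Mathlib.LinearAlgebra.Matrix.ConjTranspose
import Cfsg.Agent.H158.PronQ

/-!
# Unitary groups over the quaternions (helper158)

The group `GU n F` of unitary matrices over `ℍ[F]`, reflections `R x h = 1 + x (h - 1) x*`, for
unit vectors `x`, and the embeddings `Phi X A = 1 + X (A - 1) X*` for isometric embeddings `X`.
-/

set_option autoImplicit false
set_option linter.unusedSectionVars false

namespace Cfsg.Agent.H158.PronMat

open Quaternion Matrix
open Cfsg.Agent.H158.PronQ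

/-- The unitary group over the quaternions. -/
abbrev GU (n : Type*) [Fintype n] [DecidableEq n] (F : Type*) [Field F] :=
  unitary (Matrix n n ℍ[F])

section Vec

variable {F : Type*} [Field F] {n m : Type*} [Fintype n] [Fintype m]

/-- The hermitian product. -/
def ip (x y : n → ℍ[F]) : ℍ[F] := ∑ a, star (x a) * y a

/-- The matrix `x c y*`. -/
def tv (x : m → ℍ[F]) (c : ℍ[F]) (y : n → ℍ[F]) : Matrix m n ℍ[F] :=
  Matrix.of fun a b => x a * c * star (y b)

theorem tv_apply (x : m → ℍ[F]) (c : ℍ[F]) (y : n → ℍ[F]) (a : m) (b : n) :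
    tv x c y a b = x a * c * star (y b) := rfl

theorem star_ip (x y : n → ℍ[F]) : star (ip x y) = ip y x := by
  unfold ip
  rw [star_sum]
  refine Finset.sum_congr rfl fun a _ => ?_
  rw [star_mul, star_star]

theorem ip_smul_right (x y : n → ℍ[F]) (c : ℍ[F]) : ip x (fun a => y a * c) = ip x y * c := by
  unfold ip
  rw [Finset.sum_mul]
  refine Finset.sum_congr rfl fun a _ => ?_
  rw [mul_assoc]

theorem ip_smul_left (x y : n → ℍ[F]) (c : ℍ[F]) : ip (fun a => x a * c) y = star c * ip x y := by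
  unfold ip
  rw [Finset.mul_sum]
  refine Finset.sum_congr rfl fun a _ => ?_
  rw [star_mul, mul_assoc]

theorem ip_add_right (x y z : n → ℍ[F]) : ip x (y + z) = ip x y + ip x z := by
  unfold ip
  rw [← Finset.sum_add_distrib]
  refine Finset.sum_congr rfl fun a _ => ?_
  rw [Pi.add_apply, mul_add]

theorem ip_sub_right (x y z : n → ℍ[F]) : ip x (y - z) = ip x y - ip x z := by
  unfold ip
  rw [← Finset.sum_sub_distrib]
  refine Finset.sum_congr rfl fun a _ => ?_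
  rw [Pi.sub_apply, mul_sub]

theorem ip_add_left (x y z : n → ℍ[F]) : ip (x + y) z = ip x z + ip y z := by
  rw [← star_ip, ip_add_right, star_add, star_ip, star_ip]

theorem ip_sub_left (x y z : n → ℍ[F]) : ip (x - y) z = ip x z - ip y z := by
  rw [← star_ip, ip_sub_right, star_sub, star_ip, star_ip]

theorem tv_mul_tv {l : Type*} [Fintype l] (x : m → ℍ[F]) (c : ℍ[F]) (y z : n → ℍ[F]) (d : ℍ[F])
    (w : l → ℍ[F]) : tv x c y * tv z d w = tv x (c * ip y z * d) w := by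
  ext1 a b
  rw [Matrix.mul_apply, tv_apply, ip, Finset.mul_sum, Finset.sum_mul, Finset.mul_sum,
    Finset.sum_mul]
  refine Finset.sum_congr rfl fun e _ => ?_
  rw [tv_apply, tv_apply]
  simp only [mul_assoc]

theorem tv_conjTranspose (x : m → ℍ[F]) (c : ℍ[F]) (y : n → ℍ[F]) :
    (tv x c y)ᴴ = tv y (star c) x := by
  ext1 a b
  rw [Matrix.conjTranspose_apply, tv_apply, tv_apply, star_mul, star_mul, star_star, mul_assoc]

theorem tv_add (x : m → ℍ[F]) (c d : ℍ[F]) (y : n → ℍ[F]) :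
    tv x (c + d) y = tv x c y + tv x d y := by
  ext1 a b
  rw [Matrix.add_apply, tv_apply, tv_apply, tv_apply, mul_add, add_mul]

theorem tv_sub (x : m → ℍ[F]) (c d : ℍ[F]) (y : n → ℍ[F]) :
    tv x (c - d) y = tv x c y - tv x d y := by
  ext1 a b
  rw [Matrix.sub_apply, tv_apply, tv_apply, tv_apply, mul_sub, sub_mul]

theorem tv_zero (x : m → ℍ[F]) (y : n → ℍ[F]) : tv x 0 y = 0 := by
  ext1 a b
  rw [tv_apply, mul_zero, zero_mul, Matrix.zero_apply]

theorem tv_smul (x : m → ℍ[F]) (c d e : ℍ[F]) (y : n → ℍ[F]) :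
    tv (fun a => x a * d) c (fun a => y a * e) = tv x (d * c * star e) y := by
  ext1 a b
  rw [tv_apply, tv_apply, star_mul]
  simp only [mul_assoc]

theorem mul_tv {l : Type*} [Fintype l] (A : Matrix l m ℍ[F]) (x : m → ℍ[F]) (c : ℍ[F])
    (y : n → ℍ[F]) : A * tv x c y = tv (A *ᵥ x) c y := by
  ext1 a b
  rw [Matrix.mul_apply, tv_apply, Matrix.mulVec, dotProduct, Finset.sum_mul, Finset.sum_mul]
  refine Finset.sum_congr rfl fun e _ => ?_
  rw [tv_apply]
  simp only [mul_assoc]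

theorem tv_mul {l : Type*} [Fintype l] (A : Matrix n l ℍ[F]) (x : m → ℍ[F]) (c : ℍ[F])
    (y : n → ℍ[F]) : tv x c y * A = tv x c (Aᴴ *ᵥ y) := by
  have h := mul_tv (Aᴴ) y (star c) x
  have h1 := congrArg Matrix.conjTranspose h
  rw [Matrix.conjTranspose_mul, tv_conjTranspose, tv_conjTranspose, star_star,
    Matrix.conjTranspose_conjTranspose] at h1
  exact h1

theorem tv_mulVec (x : m → ℍ[F]) (c : ℍ[F]) (y z : n → ℍ[F]) :
    tv x c y *ᵥ z = fun a => x a * (c * ip y z) := by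
  funext a
  rw [Matrix.mulVec, dotProduct, ip, Finset.mul_sum, Finset.mul_sum]
  refine Finset.sum_congr rfl fun e _ => ?_
  rw [tv_apply]
  simp only [mul_assoc]

theorem mulVec_smul_right (A : Matrix m n ℍ[F]) (x : n → ℍ[F]) (c : ℍ[F]) :
    A *ᵥ (fun a => x a * c) = fun a => (A *ᵥ x) a * c := by
  funext a
  rw [Matrix.mulVec, dotProduct, Matrix.mulVec, dotProduct, Finset.sum_mul]
  refine Finset.sum_congr rfl fun e _ => ?_
  rw [mul_assoc]

theorem ip_mulVec (A : Matrix m n ℍ[F]) (x : m → ℍ[F]) (y : n → ℍ[F]) :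
    ip x (A *ᵥ y) = ip (Aᴴ *ᵥ x) y := by
  unfold ip
  simp only [Matrix.mulVec, dotProduct, Finset.mul_sum, star_sum, Finset.sum_mul]
  rw [Finset.sum_comm]
  refine Finset.sum_congr rfl fun e _ => Finset.sum_congr rfl fun f _ => ?_
  rw [star_mul, Matrix.conjTranspose_apply, star_star, mul_assoc]

end Vec

section Grp

variable {F : Type*} [Field F] {n : Type*} [Fintype n] [DecidableEq n]

theorem mem_GU {A : Matrix n n ℍ[F]} : A ∈ unitary (Matrix n n ℍ[F]) ↔ Aᴴ * A = 1 ∧ A * Aᴴ = 1 :=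
  Unitary.mem_iff

theorem star_mul_coe (g : GU n F) : (g : Matrix n n ℍ[F])ᴴ * g = 1 := (mem_GU.1 g.2).1

theorem coe_mul_star (g : GU n F) : (g : Matrix n n ℍ[F]) * (g : Matrix n n ℍ[F])ᴴ = 1 :=
  (mem_GU.1 g.2).2

theorem coe_inv_GU (g : GU n F) : ((g⁻¹ : GU n F) : Matrix n n ℍ[F]) = (g : Matrix n n ℍ[F])ᴴ := by
  rw [← Unitary.star_eq_inv]; rfl

theorem one_add_tv_mul {x : n → ℍ[F]} (hx : ip x x = 1) (c d : ℍ[F]) :
    (1 + tv x c x) * (1 + tv x d x) = 1 + tv x (c + d + c * d) x := by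
  rw [mul_add, add_mul, add_mul, tv_mul_tv, hx, one_mul, one_mul, mul_one, mul_one, tv_add, tv_add]
  abel

/-- The reflection `1 + x (h - 1) x*`. -/
def R (x : n → ℍ[F]) (hx : ip x x = 1) : U F →* GU n F where
  toFun h := ⟨1 + tv x ((h : ℍ[F]) - 1) x, by
    have h1 : (1 + tv x ((h : ℍ[F]) - 1) x)ᴴ = 1 + tv x (star (h : ℍ[F]) - 1) x := by
      rw [Matrix.conjTranspose_add, Matrix.conjTranspose_one, tv_conjTranspose, star_sub, star_one]
    have h2 : ∀ a b : ℍ[F], a * b = 1 → (1 + tv x (a - 1) x) * (1 + tv x (b - 1) x) = 1 := by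
      intro a b hab
      rw [one_add_tv_mul hx]
      have h3 : (a - 1) + (b - 1) + (a - 1) * (b - 1) = 0 := by
        have : (a - 1) + (b - 1) + (a - 1) * (b - 1) = a * b - 1 := by noncomm_ring
        rw [this, hab, sub_self]
      rw [h3, tv_zero, add_zero]
    rw [mem_GU, h1]
    exact ⟨h2 _ _ (Unitary.coe_star_mul_self h), h2 _ _ (Unitary.coe_mul_star_self h)⟩⟩
  map_one' := by
    apply Subtype.ext
    show 1 + tv x (1 - 1) x = 1
    rw [sub_self, tv_zero, add_zero]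
  map_mul' := by
    intro a b
    apply Subtype.ext
    show 1 + tv x ((a : ℍ[F]) * b - 1) x = (1 + tv x (a - 1) x) * (1 + tv x (b - 1) x)
    rw [one_add_tv_mul hx]
    congr 2
    noncomm_ring

theorem coe_R (x : n → ℍ[F]) (hx : ip x x = 1) (h : U F) :
    ((R x hx h : GU n F) : Matrix n n ℍ[F]) = 1 + tv x ((h : ℍ[F]) - 1) x := rfl

theorem ip_act (g : GU n F) (x y : n → ℍ[F]) :
    ip ((g : Matrix n n ℍ[F]) *ᵥ x) ((g : Matrix n n ℍ[F]) *ᵥ y) = ip x y := by
  rw [ip_mulVec, Matrix.mulVec_mulVec, star_mul_coe, Matrix.one_mulVec]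

theorem R_conj (g : GU n F) (x : n → ℍ[F]) (hx : ip x x = 1)
    (hgx : ip ((g : Matrix n n ℍ[F]) *ᵥ x) ((g : Matrix n n ℍ[F]) *ᵥ x) = 1) (h : U F) :
    g * R x hx h * g⁻¹ = R ((g : Matrix n n ℍ[F]) *ᵥ x) hgx h := by
  apply Subtype.ext
  rw [Submonoid.coe_mul, Submonoid.coe_mul, coe_inv_GU, coe_R, coe_R, mul_add, add_mul, mul_one,
    coe_mul_star, mul_tv, tv_mul, Matrix.conjTranspose_conjTranspose]

/-- `R (x u) h = R x (u h u⁻¹)`. -/
theorem R_smul (x : n → ℍ[F]) (hx : ip x x = 1) (u : U F)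
    (hxu : ip (fun a => x a * (u : ℍ[F])) (fun a => x a * (u : ℍ[F])) = 1) (h : U F) :
    R (fun a => x a * (u : ℍ[F])) hxu h = R x hx (u * h * u⁻¹) := by
  apply Subtype.ext
  rw [coe_R, coe_R, tv_smul, Submonoid.coe_mul, Submonoid.coe_mul, PronQ.coe_inv]
  congr 2
  have h1 : (u : ℍ[F]) * star (u : ℍ[F]) = 1 := Unitary.coe_mul_star_self u
  rw [mul_sub, sub_mul, mul_one, h1]

theorem ip_smul_unit {x : n → ℍ[F]} (hx : ip x x = 1) (u : U F) :
    ip (fun a => x a * (u : ℍ[F])) (fun a => x a * (u : ℍ[F])) = 1 := by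
  rw [ip_smul_left, ip_smul_right, hx, one_mul]
  exact Unitary.coe_star_mul_self u

variable {k : Type*} [Fintype k] [DecidableEq k]

theorem phi_mul {X : Matrix n k ℍ[F]} (hX : Xᴴ * X = 1) (A B : Matrix k k ℍ[F]) :
    (1 + X * (A - 1) * Xᴴ) * (1 + X * (B - 1) * Xᴴ) = 1 + X * (A * B - 1) * Xᴴ := by
  have h1 : X * (A - 1) * Xᴴ * (X * (B - 1) * Xᴴ) = X * ((A - 1) * (B - 1)) * Xᴴ := by
    calc X * (A - 1) * Xᴴ * (X * (B - 1) * Xᴴ)
        = X * (A - 1) * (Xᴴ * X) * (B - 1) * Xᴴ := by simp only [Matrix.mul_assoc]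
      _ = X * ((A - 1) * (B - 1)) * Xᴴ := by rw [hX, Matrix.mul_one]; simp only [Matrix.mul_assoc]
  have h2 : A * B - 1 = (A - 1) + (B - 1) + (A - 1) * (B - 1) := by noncomm_ring
  have h3 : X * (A * B - 1) * Xᴴ = X * (A - 1) * Xᴴ + X * (B - 1) * Xᴴ +
      X * ((A - 1) * (B - 1)) * Xᴴ := by
    rw [h2, Matrix.mul_add X (A - 1 + (B - 1)), Matrix.mul_add X (A - 1), Matrix.add_mul,
      Matrix.add_mul]
  rw [h3, mul_add, add_mul, add_mul, h1, mul_one, one_mul, mul_one]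
  abel

/-- The embedding `A ↦ 1 + X (A - 1) X*`. -/
def Phi (X : Matrix n k ℍ[F]) (hX : Xᴴ * X = 1) : GU k F →* GU n F where
  toFun A := ⟨1 + X * ((A : Matrix k k ℍ[F]) - 1) * Xᴴ, by
    have h1 : (1 + X * ((A : Matrix k k ℍ[F]) - 1) * Xᴴ)ᴴ =
        1 + X * ((A : Matrix k k ℍ[F])ᴴ - 1) * Xᴴ := by
      rw [Matrix.conjTranspose_add, Matrix.conjTranspose_one, Matrix.conjTranspose_mul,
        Matrix.conjTranspose_mul, Matrix.conjTranspose_conjTranspose, Matrix.conjTranspose_sub,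
        Matrix.conjTranspose_one, Matrix.mul_assoc]
    rw [mem_GU, h1, phi_mul hX, phi_mul hX, star_mul_coe, coe_mul_star, sub_self, Matrix.mul_zero,
      Matrix.zero_mul, add_zero]
    exact ⟨rfl, rfl⟩⟩
  map_one' := by
    apply Subtype.ext
    show 1 + X * (1 - 1) * Xᴴ = 1
    rw [sub_self, Matrix.mul_zero, Matrix.zero_mul, add_zero]
  map_mul' := by
    intro A B
    apply Subtype.ext
    exact (phi_mul hX _ _).symm

theorem coe_Phi (X : Matrix n k ℍ[F]) (hX : Xᴴ * X = 1) (A : GU k F) :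
    ((Phi X hX A : GU n F) : Matrix n n ℍ[F]) = 1 + X * ((A : Matrix k k ℍ[F]) - 1) * Xᴴ := rfl

theorem Phi_injective (X : Matrix n k ℍ[F]) (hX : Xᴴ * X = 1) :
    Function.Injective (Phi X hX) := by
  intro A B h
  have h1 : 1 + X * ((A : Matrix k k ℍ[F]) - 1) * Xᴴ = 1 + X * ((B : Matrix k k ℍ[F]) - 1) * Xᴴ :=
    congrArg Subtype.val h
  have h2 := add_left_cancel h1
  have h3 : ∀ C : Matrix k k ℍ[F], Xᴴ * (X * C * Xᴴ) * X = C := by
    intro C
    calc Xᴴ * (X * C * Xᴴ) * X = (Xᴴ * X) * C * (Xᴴ * X) := by simp only [Matrix.mul_assoc]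
      _ = C := by rw [hX, Matrix.one_mul, Matrix.mul_one]
  have h4 := congrArg (fun M => Xᴴ * M * X) h2
  simp only [h3] at h4
  exact Subtype.ext (sub_left_injective h4)

theorem ip_Phi {X : Matrix n k ℍ[F]} (hX : Xᴴ * X = 1) (x y : k → ℍ[F]) :
    ip (X *ᵥ x) (X *ᵥ y) = ip x y := by
  rw [ip_mulVec, Matrix.mulVec_mulVec, hX, Matrix.one_mulVec]

theorem Phi_R {X : Matrix n k ℍ[F]} (hX : Xᴴ * X = 1) (x : k → ℍ[F]) (hx : ip x x = 1)
    (hXx : ip (X *ᵥ x) (X *ᵥ x) = 1) (h : U F) : Phi X hX (R x hx h) = R (X *ᵥ x) hXx h := by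
  apply Subtype.ext
  rw [coe_Phi, coe_R, coe_R, add_sub_cancel_left, mul_tv, tv_mul,
    Matrix.conjTranspose_conjTranspose]

theorem Phi_mulVec {X : Matrix n k ℍ[F]} (hX : Xᴴ * X = 1) (A : GU k F) (x : k → ℍ[F]) :
    ((Phi X hX A : GU n F) : Matrix n n ℍ[F]) *ᵥ (X *ᵥ x) =
      X *ᵥ ((A : Matrix k k ℍ[F]) *ᵥ x) := by
  rw [coe_Phi, Matrix.mulVec_mulVec, Matrix.mulVec_mulVec]
  congr 1
  rw [Matrix.add_mul, Matrix.one_mul, Matrix.mul_assoc, hX, Matrix.mul_one, Matrix.mul_sub,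
    Matrix.mul_one, add_sub_cancel]

end Grp

end Cfsg.Agent.H158.PronMat
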