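import Mathlib.GroupTheory.Perm.Sign
import Mathlib.GroupTheory.Sylow
import Cfsg.Agent.H158.PronMat

/-!
# Monomial unitary matrices over the quaternions (helper158)
-/

set_option autoImplicit false
set_option linter.unusedSectionVars false

namespace Cfsg.Agent.H158.PronMono

open Quaternion Matrix Equiv
open Cfsg.Agent.H158.PronQ Cfsg.Agent.H158.PronMat

variable {F : Type*} [Field F] {n : Type*} [Fintype n] [DecidableEq n]

/-- The matrix `g` is monomial with permutation `σ`. -/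
def Mono (g : Matrix n n ℍ[F]) (σ : Perm n) : Prop := ∀ a b, a ≠ σ b → g a b = 0

theorem Mono.mul_apply {g h : Matrix n n ℍ[F]} {τ : Perm n} (hh : Mono h τ)
    (a b : n) : (g * h) a b = g a (τ b) * h (τ b) b := by
  rw [Matrix.mul_apply]
  refine Finset.sum_eq_single (τ b) (fun c _ hc => ?_) (fun h => absurd (Finset.mem_univ _) h)
  rw [hh c b hc, mul_zero]

theorem Mono.mul {g h : Matrix n n ℍ[F]} {σ τ : Perm n} (hg : Mono g σ) (hh : Mono h τ) :
    Mono (g * h) (σ * τ) := by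
  intro a b hab
  rw [hh.mul_apply, hg a (τ b) hab, zero_mul]

theorem Mono.star {g : Matrix n n ℍ[F]} {σ : Perm n} (hg : Mono g σ) : Mono gᴴ σ⁻¹ := by
  intro a b hab
  rw [Matrix.conjTranspose_apply, hg b a (fun h => hab (by rw [h]; simp)), star_zero]

theorem Mono.one : Mono (1 : Matrix n n ℍ[F]) 1 := by
  intro a b hab
  exact Matrix.one_apply_ne hab

theorem Mono.entry {g : GU n F} {σ : Perm n} (hg : Mono (g : Matrix n n ℍ[F]) σ) (b : n) :
    ∃ u : U F, (u : ℍ[F]) = (g : Matrix n n ℍ[F]) (σ b) b := by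
  have h1 := congrFun (congrFun (star_mul_coe g) b) b
  rw [hg.mul_apply, Matrix.conjTranspose_apply, Matrix.one_apply_eq] at h1
  refine ⟨⟨(g : Matrix n n ℍ[F]) (σ b) b, ?_⟩, rfl⟩
  rw [mem_U]
  rw [star_mul_self] at h1
  exact Quaternion.coe_injective (by rw [h1]; rfl)

theorem U_ne_zero (u : U F) : (u : ℍ[F]) ≠ 0 := by
  intro h
  have := normSq_U u
  rw [h, map_zero] at this
  exact zero_ne_one this

theorem Mono.unique {g : GU n F} {σ τ : Perm n} (hg : Mono (g : Matrix n n ℍ[F]) σ)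
    (hg' : Mono (g : Matrix n n ℍ[F]) τ) : σ = τ := by
  ext b
  by_contra h
  obtain ⟨u, hu⟩ := hg.entry b
  rw [hg' (σ b) b h] at hu
  exact U_ne_zero u hu

/-- The standard basis vectors. -/
def e (b : n) : n → ℍ[F] := Pi.single b 1

theorem ip_e (b : n) (y : n → ℍ[F]) : ip (e b) y = y b := by
  unfold ip e
  rw [Finset.sum_eq_single b]
  · rw [Pi.single_eq_same, star_one, one_mul]
  · intro c _ hc
    rw [Pi.single_eq_of_ne hc, star_zero, zero_mul]
  · intro h; exact absurd (Finset.mem_univ _) h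

theorem ip_e_e (b : n) : ip (e b) (e b : n → ℍ[F]) = 1 := by
  rw [ip_e, e, Pi.single_eq_same]

theorem mulVec_e (g : Matrix n n ℍ[F]) (b : n) : g *ᵥ e b = fun a => g a b := by
  funext a
  rw [Matrix.mulVec, dotProduct, Finset.sum_eq_single b]
  · rw [e, Pi.single_eq_same, mul_one]
  · intro c _ hc
    rw [e, Pi.single_eq_of_ne hc, mul_zero]
  · intro h; exact absurd (Finset.mem_univ _) h

theorem e_mul_apply (b a : n) (c : ℍ[F]) : (e b : n → ℍ[F]) a * c = if a = b then c else 0 := by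
  by_cases h : a = b
  · rw [if_pos h, h, e, Pi.single_eq_same, one_mul]
  · rw [if_neg h, e, Pi.single_eq_of_ne h, zero_mul]

theorem Mono.mulVec_e {g : Matrix n n ℍ[F]} {σ : Perm n} (hg : Mono g σ) (b : n) :
    g *ᵥ e b = fun a => (e (σ b) : n → ℍ[F]) a * g (σ b) b := by
  rw [PronMono.mulVec_e]
  funext a
  rw [e_mul_apply]
  split_ifs with h
  · rw [h]
  · exact hg a b h

/-- The norm one group acting on the `b`-th coordinate. -/
def Rj (b : n) : U F →* GU n F := R (e b) (ip_e_e b)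

theorem Rj_apply (b : n) (h : U F) (c d : n) : ((Rj b h : GU n F) : Matrix n n ℍ[F]) c d =
    if c = d then (if c = b then (h : ℍ[F]) else 1) else 0 := by
  rw [Rj, coe_R, Matrix.add_apply, tv_apply, e_mul_apply]
  by_cases hcd : c = d
  · subst hcd
    rw [if_pos rfl, Matrix.one_apply_eq]
    by_cases hcb : c = b
    · subst hcb
      rw [if_pos rfl, if_pos rfl, e, Pi.single_eq_same, star_one, mul_one, add_sub_cancel]
    · rw [if_neg hcb, if_neg hcb, zero_mul, add_zero]
  · rw [if_neg hcd, Matrix.one_apply_ne hcd]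
    by_cases hcb : c = b
    · subst hcb
      rw [if_pos rfl, e, Pi.single_eq_of_ne (fun h => hcd h.symm), star_zero, mul_zero, add_zero]
    · rw [if_neg hcb, zero_mul, add_zero]

theorem Rj_mono (b : n) (h : U F) : Mono ((Rj b h : GU n F) : Matrix n n ℍ[F]) 1 := by
  intro c d hcd
  rw [Rj_apply, if_neg (show ¬ c = d from hcd)]

theorem R_congr {x y : n → ℍ[F]} (hxy : x = y) (hx : ip x x = 1) (hy : ip y y = 1) (h : U F) :
    R x hx h = R y hy h := by subst hxy; rfl

theorem Mono.conj_Rj {g : GU n F} {σ : Perm n} (hg : Mono (g : Matrix n n ℍ[F]) σ) (b : n)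
    {u : U F} (hu : (u : ℍ[F]) = (g : Matrix n n ℍ[F]) (σ b) b) (h : U F) :
    g * Rj b h * g⁻¹ = Rj (σ b) (u * h * u⁻¹) := by
  rw [Rj, R_conj g (e b) (ip_e_e b) (by rw [ip_act, ip_e_e])]
  rw [R_congr (hg.mulVec_e b) _ (by rw [← hu]; exact ip_smul_unit (ip_e_e _) u)]
  rw [Rj, ← R_smul (e (σ b)) (ip_e_e _) u (ip_smul_unit (ip_e_e _) u)]
  exact R_congr (by rw [hu]) _ _ _

/-- The wreath product of `W` and `T`. -/
def SG (W : Subgroup (U F)) (T : Subgroup (Perm n)) : Subgroup (GU n F) where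
  carrier := {g | ∃ σ ∈ T, Mono (g : Matrix n n ℍ[F]) σ ∧
    ∀ b, ∃ w ∈ W, (w : ℍ[F]) = (g : Matrix n n ℍ[F]) (σ b) b}
  one_mem' := by
    refine ⟨1, one_mem _, Mono.one, fun b => ⟨1, one_mem _, ?_⟩⟩
    show (1 : ℍ[F]) = (1 : Matrix n n ℍ[F]) b b
    rw [Matrix.one_apply_eq]
  mul_mem' := by
    rintro g h ⟨σ, hσ, hg, hg'⟩ ⟨τ, hτ, hh, hh'⟩
    refine ⟨σ * τ, mul_mem hσ hτ, hg.mul hh, fun b => ?_⟩
    obtain ⟨w, hw, hwe⟩ := hg' (τ b)
    obtain ⟨v, hv, hve⟩ := hh' b
    refine ⟨w * v, mul_mem hw hv, ?_⟩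
    rw [Submonoid.coe_mul, Submonoid.coe_mul, hh.mul_apply, hwe, hve]
    rfl
  inv_mem' := by
    rintro g ⟨σ, hσ, hg, hg'⟩
    refine ⟨σ⁻¹, inv_mem hσ, ?_, fun b => ?_⟩
    · rw [coe_inv_GU]; exact hg.star
    · obtain ⟨w, hw, hwe⟩ := hg' (σ⁻¹ b)
      refine ⟨w⁻¹, inv_mem hw, ?_⟩
      rw [coe_inv_GU, Matrix.conjTranspose_apply, PronQ.coe_inv, hwe]
      simp

theorem mem_SG {W : Subgroup (U F)} {T : Subgroup (Perm n)} {g : GU n F} :
    g ∈ SG W T ↔ ∃ σ ∈ T, Mono (g : Matrix n n ℍ[F]) σ ∧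
      ∀ b, ∃ w ∈ W, (w : ℍ[F]) = (g : Matrix n n ℍ[F]) (σ b) b := Iff.rfl

theorem Rj_mem {W : Subgroup (U F)} (T : Subgroup (Perm n)) (b : n) {w : U F} (hw : w ∈ W) :
    Rj b w ∈ SG W T := by
  refine ⟨1, one_mem _, Rj_mono b w, fun c => ?_⟩
  rw [Perm.one_apply, Rj_apply, if_pos rfl]
  by_cases h : c = b
  · exact ⟨w, hw, by rw [if_pos h]⟩
  · exact ⟨1, one_mem _, by rw [if_neg h]; rfl⟩

theorem mem_of_Rj_mem {W : Subgroup (U F)} {T : Subgroup (Perm n)} {b : n} {w : U F}
    (hw : Rj b w ∈ SG W T) : w ∈ W := by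
  obtain ⟨σ, -, hσ, hent⟩ := hw
  have h1 := hσ.unique (Rj_mono b w)
  subst h1
  obtain ⟨v, hv, hve⟩ := hent b
  rw [Perm.one_apply, Rj_apply, if_pos rfl, if_pos rfl] at hve
  have : v = w := Subtype.ext hve
  rw [← this]; exact hv

/-- Permutation matrices. -/
def PM : Perm n →* GU n F where
  toFun σ := ⟨Matrix.of fun a b => if a = σ b then 1 else 0, by
    rw [mem_GU]
    constructor
    · ext1 a b
      rw [Matrix.mul_apply, Finset.sum_eq_single (σ b)]
      · simp only [Matrix.conjTranspose_apply, Matrix.of_apply, if_true, mul_one]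
        by_cases hab : a = b
        · subst hab; rw [if_pos rfl, star_one, Matrix.one_apply_eq]
        · rw [if_neg (fun h => hab (σ.injective h.symm)), star_zero, Matrix.one_apply_ne hab]
      · intro c _ hc
        simp only [Matrix.conjTranspose_apply, Matrix.of_apply]
        rw [if_neg hc, mul_zero]
      · intro h; exact absurd (Finset.mem_univ _) h
    · ext1 a b
      rw [Matrix.mul_apply, Finset.sum_eq_single (σ⁻¹ a)]
      · simp only [Matrix.conjTranspose_apply, Matrix.of_apply]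
        by_cases hab : a = b
        · subst hab; simp
        · have h1 : b ≠ σ (σ⁻¹ a) := by simpa using fun h => hab h.symm
          rw [if_neg h1, star_zero, mul_zero, Matrix.one_apply_ne hab]
      · intro c _ hc
        simp only [Matrix.conjTranspose_apply, Matrix.of_apply]
        have h1 : a ≠ σ c := fun h => hc (by rw [h]; simp)
        rw [if_neg h1, zero_mul]
      · intro h; exact absurd (Finset.mem_univ _) h⟩
  map_one' := by
    apply Subtype.ext
    ext1 a b
    show (if a = (1 : Perm n) b then (1 : ℍ[F]) else 0) = (1 : Matrix n n ℍ[F]) a b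
    rw [Perm.one_apply, Matrix.one_apply]
  map_mul' := by
    intro σ τ
    apply Subtype.ext
    ext1 a b
    show (if a = (σ * τ) b then (1 : ℍ[F]) else 0) = ((Matrix.of fun a b => if a = σ b then 1 else 0) *
      (Matrix.of fun a b => if a = τ b then 1 else 0) : Matrix n n ℍ[F]) a b
    rw [Matrix.mul_apply, Finset.sum_eq_single (τ b)]
    · simp only [Matrix.of_apply, if_true, mul_one, Perm.mul_apply]
      congr
    · intro c _ hc
      simp only [Matrix.of_apply]
      rw [if_neg hc, mul_zero]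
    · intro h; exact absurd (Finset.mem_univ _) h

theorem PM_apply (σ : Perm n) (a b : n) : ((PM σ : GU n F) : Matrix n n ℍ[F]) a b =
    if a = σ b then 1 else 0 := rfl

theorem PM_mono (σ : Perm n) : Mono ((PM σ : GU n F) : Matrix n n ℍ[F]) σ := by
  intro a b hab
  rw [PM_apply, if_neg hab]

theorem PM_mem (W : Subgroup (U F)) {T : Subgroup (Perm n)} {σ : Perm n} (hσ : σ ∈ T) :
    PM σ ∈ SG W T :=
  ⟨σ, hσ, PM_mono σ, fun b => ⟨1, one_mem _, by rw [PM_apply, if_pos rfl]; rfl⟩⟩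

/-- Scalar matrices. -/
def sc : U F →* GU n F where
  toFun u := ⟨Matrix.diagonal fun _ => (u : ℍ[F]), by
    rw [mem_GU, Matrix.diagonal_conjTranspose, Matrix.diagonal_mul_diagonal,
      Matrix.diagonal_mul_diagonal]
    constructor
    · rw [← Matrix.diagonal_one]
      congr 1
      funext a
      exact Unitary.coe_star_mul_self u
    · rw [← Matrix.diagonal_one]
      congr 1
      funext a
      exact Unitary.coe_mul_star_self u⟩
  map_one' := Subtype.ext Matrix.diagonal_one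
  map_mul' := fun u v => Subtype.ext (Matrix.diagonal_mul_diagonal _ _).symm

theorem coe_sc (u : U F) : ((sc u : GU n F) : Matrix n n ℍ[F]) = Matrix.diagonal fun _ => (u : ℍ[F]) :=
  rfl

theorem sc_mul_apply (u : U F) (g : GU n F) (a b : n) :
    ((sc u * g : GU n F) : Matrix n n ℍ[F]) a b = u * (g : Matrix n n ℍ[F]) a b := by
  rw [Submonoid.coe_mul, coe_sc, Matrix.diagonal_mul]

theorem mul_sc_apply (u : U F) (g : GU n F) (a b : n) :
    ((g * sc u : GU n F) : Matrix n n ℍ[F]) a b = (g : Matrix n n ℍ[F]) a b * u := by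
  rw [Submonoid.coe_mul, coe_sc, Matrix.mul_diagonal]

theorem SG_isPGroup [Finite F] {W : Subgroup (U F)} {T : Subgroup (Perm n)} (hW : IsPGroup 2 W)
    (hT : IsPGroup 2 T) : IsPGroup 2 (SG W T) := by
  rintro ⟨g, σ, hσ, hg, hent⟩
  obtain ⟨k, hk⟩ := hT ⟨σ, hσ⟩
  have hk' : σ ^ 2 ^ k = 1 := congrArg Subtype.val hk
  obtain ⟨l, hl⟩ := IsPGroup.iff_card.1 hW
  -- powers of `g` are monomial
  have hgS : g ∈ SG W T := ⟨σ, hσ, hg, hent⟩
  have hpow : ∀ j : ℕ, Mono ((g ^ j : GU n F) : Matrix n n ℍ[F]) (σ ^ j) := by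
    intro j
    induction j with
    | zero => rw [pow_zero, pow_zero]; exact Mono.one
    | succ j ih => rw [pow_succ, pow_succ, Submonoid.coe_mul]; exact ih.mul hg
  obtain ⟨τ, hτ, hd, hdent⟩ := pow_mem hgS (2 ^ k)
  have hd1 := hpow (2 ^ k)
  rw [hk'] at hd1
  have := hd.unique hd1
  subst this
  set d := g ^ 2 ^ k with hdd
  choose w hw hwe using hdent
  have hdpow : ∀ j : ℕ, Mono ((d ^ j : GU n F) : Matrix n n ℍ[F]) 1 ∧
      ∀ b, ((d ^ j : GU n F) : Matrix n n ℍ[F]) b b = ((w b ^ j : U F) : ℍ[F]) := by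
    intro j
    induction j with
    | zero =>
      refine ⟨by rw [pow_zero]; exact Mono.one, fun b => ?_⟩
      rw [pow_zero, pow_zero]
      exact Matrix.one_apply_eq b
    | succ j ih =>
      refine ⟨?_, fun b => ?_⟩
      · rw [pow_succ, Submonoid.coe_mul]
        have := ih.1.mul hd
        rwa [mul_one] at this
      · rw [pow_succ, pow_succ, Submonoid.coe_mul, hd.mul_apply]
        have h1 := hwe b
        rw [Perm.one_apply] at h1
        rw [Perm.one_apply, ih.2 b, ← h1]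
        rfl
  refine ⟨k + l, Subtype.ext ?_⟩
  show g ^ 2 ^ (k + l) = 1
  rw [pow_add, pow_mul, ← hdd]
  apply Subtype.ext
  ext1 a b
  show _ = (1 : Matrix n n ℍ[F]) a b
  obtain ⟨h1, h3⟩ := hdpow (2 ^ l)
  by_cases hab : a = b
  · subst hab
    have h4 : w a ^ 2 ^ l = 1 := by
      rw [← hl]
      have : (⟨w a, hw a⟩ : W) ^ Nat.card W = 1 := pow_card_eq_one'
      exact congrArg Subtype.val this
    rw [h3, h4, Matrix.one_apply_eq]; rfl
  · rw [h1 a b hab, Matrix.one_apply_ne hab]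

end Cfsg.Agent.H158.PronMono
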