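import Mathlib.GroupTheory.Sylow
import Mathlib.Tactic
import Cfsg.Agent.Blocks.CentralSylow
import Cfsg.Agent.H710.NormalCompl

/-!
# Elements of odd order in groups with a central Sylow 2-subgroup (helper158)
-/

set_option autoImplicit false

namespace Cfsg.Agent.H158.PronOdd

open Subgroup

/-- If the only 2-elements of `N` are `1` and a central element `c` with `c² = 1`, then the
elements of odd order of `N` form a subgroup `O`, and `N ⊆ O ∪ c O`. -/
theorem odd_part {G : Type*} [Group G] [Finite G] (N : Subgroup G) (c : G) (hcc : c * c = 1)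
    (hc : ∀ x : G, c * x = x * c) (h2 : ∀ n ∈ N, (∃ k : ℕ, n ^ 2 ^ k = 1) → n = 1 ∨ n = c) :
    ∃ O : Subgroup G, (∀ e, e ∈ O ↔ e ∈ N ∧ Odd (orderOf e)) ∧ ∀ n ∈ N, n ∈ O ∨ c * n ∈ O := by
  obtain ⟨P⟩ : Nonempty (Sylow 2 N) := inferInstance
  have hP : (P : Subgroup N) ≤ Subgroup.center N := by
    intro x hx
    rw [Subgroup.mem_center_iff]
    intro y
    apply Subtype.ext
    obtain ⟨k, hk⟩ := P.isPGroup' ⟨x, hx⟩
    have hk' : (x : G) ^ 2 ^ k = 1 := congrArg (fun z : (P : Subgroup N) => ((z : N) : G)) hk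
    rcases h2 x x.2 ⟨k, hk'⟩ with h | h
    · show (y : G) * x = x * y
      rw [h]; simp
    · show (y : G) * x = x * y
      rw [h]; exact (hc _).symm
  obtain ⟨K, -, -, -, hK⟩ := Cfsg.Agent.Blocks.CentralSylow.exists_complement P hP
  have hO : ∀ e, e ∈ K.map N.subtype ↔ e ∈ N ∧ Odd (orderOf e) := by
    intro e
    constructor
    · rintro ⟨x, hx, rfl⟩
      refine ⟨x.2, ?_⟩
      have h1 := (hK x).1 hx
      rw [← Nat.not_even_iff_odd, even_iff_two_dvd]
      rwa [← Subgroup.orderOf_coe] at h1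
    · rintro ⟨he, ho⟩
      refine ⟨⟨e, he⟩, (hK _).2 ?_, rfl⟩
      rw [← Subgroup.orderOf_coe, ← even_iff_two_dvd, Nat.not_even_iff_odd]
      exact ho
  refine ⟨K.map N.subtype, hO, fun n hn => ?_⟩
  have hpos : 0 < orderOf n := orderOf_pos n
  obtain ⟨a, m, hm, ham⟩ := Nat.exists_eq_two_pow_mul_odd hpos.ne'
  rcases Nat.eq_zero_or_pos a with h0 | h0
  · left
    rw [hO]
    refine ⟨hn, ?_⟩
    rw [ham, h0, pow_zero, one_mul]; exact hm
  · right
    have h3 : (n ^ m) ^ 2 ^ a = 1 := by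
      rw [← pow_mul, mul_comm, ← ham, pow_orderOf_eq_one]
    have h4 : n ^ m ≠ 1 := by
      intro h5
      have h6 := orderOf_dvd_of_pow_eq_one h5
      rw [ham] at h6
      have h7 : 2 ∣ m := (dvd_mul_of_dvd_left (dvd_pow_self 2 h0.ne') m).trans h6
      exact (Nat.not_even_iff_odd.2 hm) (even_iff_two_dvd.2 h7)
    have h5 : n ^ m = c := (h2 _ (pow_mem hn m) ⟨a, h3⟩).resolve_left h4
    have hcN : c ∈ N := h5 ▸ pow_mem hn m
    rw [hO]
    refine ⟨mul_mem hcN hn, ?_⟩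
    have h6 : (c * n) ^ m = 1 := by
      have hcm : Commute c n := hc n
      rw [hcm.mul_pow, h5]
      obtain ⟨l, rfl⟩ := hm
      rw [pow_succ, pow_mul, pow_two, hcc, one_pow, one_mul, hcc]
    exact Odd.of_dvd_nat hm (orderOf_dvd_of_pow_eq_one h6)

/-- A finite group with a self-normalizing Sylow 2-subgroup `Q` whose commutators lie in
`{1, c}`, with `c` central, has a normal 2-complement. -/
theorem odd_core {R : Type*} [Group R] [Finite R] (Q : Sylow 2 R) (c : R) (hcc : c * c = 1)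
    (hc : ∀ x : R, c * x = x * c) (hcQ : c ∈ (Q : Subgroup R)) {e : ℕ}
    (hQe : ∀ v ∈ (Q : Subgroup R), v ^ 2 ^ e = 1)
    (hself : normalizer ((Q : Subgroup R) : Set R) ≤ Q)
    (hcomm : ∀ x ∈ (Q : Subgroup R), ∀ y ∈ (Q : Subgroup R),
      x * y * x⁻¹ * y⁻¹ = 1 ∨ x * y * x⁻¹ * y⁻¹ = c) :
    ∃ A : Subgroup R, (∀ x, x ∈ A ↔ Odd (orderOf x)) ∧
      ∀ x, ∃ a ∈ A, ∃ v ∈ (Q : Subgroup R), x = a * v := by
  let M : Subgroup R :=
    { carrier := {x | x = 1 ∨ x = c}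
      one_mem' := Or.inl rfl
      mul_mem' := by
        rintro a b (rfl | rfl) (rfl | rfl)
        · left; simp
        · right; simp
        · right; simp
        · left; exact hcc
      inv_mem' := by
        rintro a (rfl | rfl)
        · left; simp
        · right; exact inv_eq_of_mul_eq_one_left hcc }
  have hMmem : ∀ x, x ∈ M ↔ x = 1 ∨ x = c := fun x => Iff.rfl
  have hMn : M.Normal := by
    refine ⟨fun n hn g => ?_⟩
    rcases hn with rfl | rfl
    · left; simp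
    · right; rw [← hc g]; simp
  obtain ⟨K, hKn, hKQ, hKM⟩ := Cfsg.Agent.H710.NormalCompl.exists_normal_sup_inf Q M hself hcomm
  have h2 : ∀ n ∈ K, (∃ k : ℕ, n ^ 2 ^ k = 1) → n = 1 ∨ n = c := by
    rintro n hn ⟨k, hk⟩
    have hpg : IsPGroup 2 (Subgroup.zpowers n) := by
      rintro ⟨x, hx⟩
      obtain ⟨l, rfl⟩ := Subgroup.mem_zpowers_iff.1 hx
      refine ⟨k, Subtype.ext ?_⟩
      show (n ^ l) ^ 2 ^ k = 1
      rw [← zpow_natCast, ← zpow_mul, mul_comm, zpow_mul, zpow_natCast, hk, one_zpow]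
    obtain ⟨Q', hQ'⟩ := hpg.exists_le_sylow
    obtain ⟨g, hg⟩ := MulAction.exists_smul_eq R Q' Q
    have h3 : g * n * g⁻¹ ∈ (Q : Subgroup R) := by
      rw [← hg, Sylow.coe_subgroup_smul, Subgroup.mem_pointwise_smul_iff_inv_smul_mem]
      have h0 : (MulAut.conj g)⁻¹ • (g * n * g⁻¹) = n := by
        rw [← map_inv, MulAut.smul_def, MulAut.conj_apply, inv_inv]
        group
      rw [h0]
      exact hQ' (Subgroup.mem_zpowers n)
    have h4 : g * n * g⁻¹ ∈ M := hKM ⟨hKn.conj_mem n hn g, h3⟩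
    have h5 := hMn.conj_mem _ h4 g⁻¹
    have h6 : g⁻¹ * (g * n * g⁻¹) * g⁻¹⁻¹ = n := by group
    rw [h6] at h5
    exact h5
  obtain ⟨O, hO, hKO⟩ := odd_part K c hcc hc h2
  have hdec : ∀ x : R, ∃ k ∈ K, ∃ v ∈ (Q : Subgroup R), x = k * v := by
    intro x
    have hx : x ∈ K ⊔ (Q : Subgroup R) := by rw [hKQ]; trivial
    rw [Subgroup.mem_sup_of_normal_left] at hx
    obtain ⟨k, hk, v, hv, he⟩ := hx
    exact ⟨k, hk, v, hv, he.symm⟩
  have hoddK : ∀ x : R, Odd (orderOf x) → x ∈ K := by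
    intro x hx
    obtain ⟨k, hk, v, hv, he⟩ := hdec x
    have h3 : (QuotientGroup.mk' K) (x ^ 2 ^ e) = 1 := by
      have hk1 : (QuotientGroup.mk' K) k = 1 := (QuotientGroup.eq_one_iff _).2 hk
      rw [map_pow, he, map_mul, hk1, one_mul, ← map_pow, hQe v hv, map_one]
    have h4 : x ^ 2 ^ e ∈ K := (QuotientGroup.eq_one_iff _).1 h3
    have h5 : Nat.Coprime (orderOf x) (2 ^ e) :=
      Nat.Coprime.pow_right e (Nat.coprime_two_right.2 hx)
    have h6 : x = (x ^ 2 ^ e) ^ ((orderOf x).gcdB (2 ^ e)) := by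
      have h7 : x ^ (((orderOf x : ℕ) : ℤ) * (orderOf x).gcdA (2 ^ e) +
          ((2 ^ e : ℕ) : ℤ) * (orderOf x).gcdB (2 ^ e)) = x := by
        rw [← Nat.gcd_eq_gcd_ab, h5.gcd_eq_one]; simp
      rw [zpow_add, zpow_mul, zpow_natCast, pow_orderOf_eq_one, one_zpow, one_mul, zpow_mul,
        zpow_natCast] at h7
      exact h7.symm
    rw [h6]
    exact zpow_mem h4 _
  refine ⟨O, fun x => ?_, fun x => ?_⟩
  · rw [hO]
    exact ⟨fun h => h.2, fun h => ⟨hoddK x h, h⟩⟩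
  · obtain ⟨k, hk, v, hv, rfl⟩ := hdec x
    rcases hKO k hk with h | h
    · exact ⟨k, h, v, hv, rfl⟩
    · refine ⟨c * k, h, c * v, mul_mem hcQ hv, ?_⟩
      rw [mul_assoc, ← mul_assoc k, ← hc k, mul_assoc c k v, ← mul_assoc, ← mul_assoc, hcc,
        one_mul]

end Cfsg.Agent.H158.PronOdd
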