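import Cfsg.Agent.H94.Matching
import Cfsg.Agent.H158.PronMono
import Cfsg.Agent.H158.PronOdd

/-!
# The frame of a monomial Sylow 2-subgroup (helper158)
-/

set_option autoImplicit false
set_option linter.unusedSectionVars false

namespace Cfsg.Agent.H158.PronFrame

open Quaternion Matrix Equiv
open Cfsg.Agent.H158.PronQ Cfsg.Agent.H158.PronMat Cfsg.Agent.H158.PronMono

variable {F : Type*} [Field F] {n : Type*} [Fintype n] [DecidableEq n]

theorem mul_eq_zero_left {q y : ℍ[F]} (hq : normSq q ≠ 0) (h : q * y = 0) : y = 0 := by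
  have h1 : normSq q • y = 0 := by
    rw [← Quaternion.coe_mul_eq_smul, ← star_mul_self, mul_assoc, h, mul_zero]
  exact (smul_eq_zero.1 h1).resolve_left hq

theorem mul_eq_zero_right {q y : ℍ[F]} (hq : normSq q ≠ 0) (h : y * q = 0) : y = 0 := by
  have h1 : normSq q • y = 0 := by
    rw [← Quaternion.mul_coe_eq_smul, ← self_mul_star, ← mul_assoc, h, zero_mul]
  exact (smul_eq_zero.1 h1).resolve_left hq

/-- The quaternion `-1`. -/
def nu : U F := -1

theorem coe_nu : ((nu : U F) : ℍ[F]) = -1 := rfl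

theorem nu_sq : (nu : U F) * nu = 1 := by apply Subtype.ext; simp [nu]

theorem rf_apply (x : n → ℍ[F]) (hx : ip x x = 1) (a b : n) :
    (R x hx nu).1 a b =
      (1 : Matrix n n ℍ[F]) a b - 2 * (x a * star (x b)) := by
  rw [coe_R, Matrix.add_apply, tv_apply]
  rw [coe_nu]
  noncomm_ring

theorem two_ne (h2 : (2 : F) ≠ 0) {q : ℍ[F]} (h : 2 * q = 0) : q = 0 := by
  have h1 : (2 : F) • q = 0 := by
    rw [← Quaternion.coe_mul_eq_smul]
    exact h
  exact (smul_eq_zero.1 h1).resolve_left h2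

theorem sum_normSq {x : n → ℍ[F]} (hx : ip x x = 1) : ∑ a, normSq (x a) = 1 := by
  have h1 := congrArg QuaternionAlgebra.re hx
  have h3 : ip x x = ((∑ a, normSq (x a) : F) : ℍ[F]) := by
    unfold ip
    simp only [star_mul_self]
    exact (map_sum (algebraMap F ℍ[F]) _ _).symm
  rw [h3] at hx
  exact Quaternion.coe_injective (by rw [hx]; rfl)

/-- The reflections `1 - 2 x x*` lying in a wreath product. -/
theorem rf_mem_SG (h2 : (2 : F) ≠ 0) {W : Subgroup (U F)} {T : Subgroup (Perm n)}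
    {x : n → ℍ[F]} {hx : ip x x = 1} (h : R x hx nu ∈ SG W T) :
    (∃ j, ∀ a, a ≠ j → x a = 0) ∨
    ∃ a b, a ≠ b ∧ swap a b ∈ T ∧ Mono (R x hx nu).1 (swap a b) ∧
      (∀ c, c ≠ a → c ≠ b → x c = 0) ∧ 2 * normSq (x b) = 1 ∧
      ∃ w ∈ W, x a = -((w : ℍ[F]) * x b) := by
  obtain ⟨σ, hσ, hmono, hent⟩ := h
  by_cases h1 : σ = 1
  · left
    subst h1
    obtain ⟨a, -, ha⟩ : ∃ a ∈ Finset.univ, normSq (x a) ≠ 0 := by
      by_contra hcon
      push Not at hcon
      have := sum_normSq hx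
      rw [Finset.sum_eq_zero hcon] at this
      exact zero_ne_one this
    refine ⟨a, fun b hb => ?_⟩
    have h3 := hmono b a hb
    rw [rf_apply, Matrix.one_apply_ne hb, zero_sub, neg_eq_zero] at h3
    have h4 := two_ne h2 h3
    have h5 : normSq (star (x a)) ≠ 0 := by rw [normSq_star]; exact ha
    exact mul_eq_zero_right h5 h4
  · right
    obtain ⟨b, hb⟩ : ∃ b, σ b ≠ b := by
      by_contra hcon
      push Not at hcon
      exact h1 (Perm.ext hcon)
    have hbb : (2 : F) * normSq (x b) = 1 := by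
      have h3 := hmono b b (fun h => hb h.symm)
      rw [rf_apply, Matrix.one_apply_eq, self_mul_star, sub_eq_zero] at h3
      have h4 : ((2 * normSq (x b) : F) : ℍ[F]) = 1 := by
        rw [Quaternion.coe_mul]; exact h3.symm
      exact Quaternion.coe_injective (by rw [h4]; rfl)
    have hNb : normSq (x b) ≠ 0 := by
      intro h0; rw [h0, mul_zero] at hbb; exact zero_ne_one hbb
    have hNb' : normSq (star (x b)) ≠ 0 := by rw [normSq_star]; exact hNb
    have hzero : ∀ c, c ≠ σ b → c ≠ b → x c = 0 := by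
      intro c hc hcb
      have h3 := hmono c b hc
      rw [rf_apply, Matrix.one_apply_ne hcb, zero_sub, neg_eq_zero] at h3
      exact mul_eq_zero_right hNb' (two_ne h2 h3)
    obtain ⟨w, hw, hwe⟩ := hent b
    have hxa : x (σ b) = -((w : ℍ[F]) * x b) := by
      rw [hwe, rf_apply, Matrix.one_apply_ne hb, zero_sub, neg_mul, neg_neg, mul_assoc,
        mul_assoc, star_mul_self]
      rw [Quaternion.mul_coe_eq_smul]
      have h3 : (2 : ℍ[F]) * (normSq (x b) • x (σ b)) = (2 * normSq (x b)) • x (σ b) := by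
        rw [mul_smul, ← Quaternion.coe_mul_eq_smul 2]
        rfl
      rw [h3, hbb, one_smul]
    have hσ' : σ = swap (σ b) b := by
      have hfix : ∀ c, c ≠ σ b → c ≠ b → σ c = c := by
        intro c hc hcb
        by_contra hne
        have h3 := hmono c c (fun h => hne h.symm)
        rw [rf_apply, hzero c hc hcb, zero_mul, mul_zero, sub_zero, Matrix.one_apply_eq] at h3
        exact one_ne_zero h3
      ext c
      by_cases hc : c = σ b
      · subst hc
        rw [swap_apply_left]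
        by_contra hne
        have h3 : σ (σ b) ≠ σ b := fun h => hb (σ.injective h)
        have h4 := hfix (σ (σ b)) h3 hne
        exact h3 (σ.injective h4)
      · by_cases hcb : c = b
        · subst hcb; rw [swap_apply_right]
        · rw [swap_apply_of_ne_of_ne hc hcb, hfix c hc hcb]
    refine ⟨σ b, b, hb, hσ' ▸ hσ, hσ' ▸ hmono, hzero, hbb, w, hw, hxa⟩

theorem sq_ne_swap {σ : Perm n} {a b : n} (hab : a ≠ b) : σ * σ ≠ swap a b := by
  intro h
  have h1 := congrArg Perm.sign h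
  rw [Perm.sign_mul, Perm.sign_swap hab] at h1
  rcases Int.units_eq_one_or (Perm.sign σ) with h3 | h3 <;> rw [h3] at h1 <;> exact absurd h1 (by decide)

/-- An element normalizing the wreath product is monomial. -/
theorem exists_mono (h2 : (2 : F) ≠ 0) {W : Subgroup (U F)} {T : Subgroup (Perm n)}
    (hW : ∃ w₀ ∈ W, w₀ * w₀ = nu) {g : GU n F} (hg : ∀ s ∈ SG W T, g * s * g⁻¹ ∈ SG W T) :
    ∃ σ : Perm n, Mono g.1 σ := by
  obtain ⟨w₀, hw₀, hw₀2⟩ := hW
  have h1 : ∀ b, ∃ j, ∀ a, a ≠ j → g.1 a b = 0 := by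
    intro b
    have hx : ip (g.1 *ᵥ e b) (g.1 *ᵥ e b) = 1 := by rw [ip_act, ip_e_e]
    have hz : R (g.1 *ᵥ e b) hx nu = (g * Rj b w₀ * g⁻¹) * (g * Rj b w₀ * g⁻¹) := by
      rw [← R_conj g (e b) (ip_e_e b) hx nu, ← hw₀2]
      show g * Rj b (w₀ * w₀) * g⁻¹ = _
      rw [map_mul]; group
    have hy := hg _ (Rj_mem T b hw₀)
    have hzS : R (g.1 *ᵥ e b) hx nu ∈ SG W T := by rw [hz]; exact mul_mem hy hy
    rcases rf_mem_SG h2 hzS with ⟨j, hj⟩ | ⟨a, c, hac, -, hm, -⟩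
    · refine ⟨j, fun a ha => ?_⟩
      have := hj a ha
      rwa [PronMono.mulVec_e] at this
    · exfalso
      obtain ⟨τ, -, hτ, -⟩ := hy
      have hm' : Mono (R (g.1 *ᵥ e b) hx nu).1 (τ * τ) := by
        rw [hz]; exact hτ.mul hτ
      exact sq_ne_swap hac (hm'.unique hm)
  choose σ hσ using h1
  have hN : ∀ b c, ip (g.1 *ᵥ e b) (g.1 *ᵥ e c) = star (g.1 (σ b) b) * g.1 (σ b) c := by
    intro b c
    rw [PronMono.mulVec_e, PronMono.mulVec_e]
    unfold ip
    refine Finset.sum_eq_single (σ b) (fun a _ ha => ?_) (fun h => absurd (Finset.mem_univ _) h)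
    show star (g.1 a b) * g.1 a c = 0
    rw [hσ b a ha, star_zero, zero_mul]
  have hinj : Function.Injective σ := by
    intro b c hbc
    by_contra hne
    have h3 := hN b b
    rw [ip_act, ip_e_e] at h3
    have h4 := hN b c
    rw [ip_act, ip_e, e, Pi.single_eq_of_ne hne] at h4
    have h5 : normSq (star (g.1 (σ b) b)) ≠ 0 := by
      intro h0
      have h6 := congrArg normSq h3
      rw [map_mul, h0, zero_mul, map_one] at h6
      exact one_ne_zero h6
    have h6 := mul_eq_zero_left h5 h4.symm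
    have h7 := hN c c
    rw [ip_act, ip_e_e, ← hbc, h6, mul_zero] at h7
    exact one_ne_zero h7
  refine ⟨Equiv.ofBijective σ (Finite.injective_iff_bijective.1 hinj), fun a b hab => ?_⟩
  exact hσ b a hab

/-- The normalizer of the wreath product. -/
theorem norm_mono (h2 : (2 : F) ≠ 0) {W : Subgroup (U F)} (T : Sylow 2 (Perm n))
    (hW : ∃ w₀ ∈ W, w₀ * w₀ = nu) {g : GU n F}
    (hg : g ∈ Subgroup.normalizer ((SG W (T : Subgroup (Perm n)) : Subgroup (GU n F)) : Set (GU n F))) :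
    ∃ σ ∈ (T : Subgroup (Perm n)), Mono g.1 σ ∧
      ∀ b (u : U F), (u : ℍ[F]) = g.1 (σ b) b → ∀ w ∈ W, u * w * u⁻¹ ∈ W := by
  have hg1 : ∀ s ∈ SG W (T : Subgroup (Perm n)), g * s * g⁻¹ ∈ SG W (T : Subgroup (Perm n)) :=
    fun s hs => (Subgroup.mem_normalizer_iff.1 hg s).1 hs
  have hg2 : ∀ s ∈ SG W (T : Subgroup (Perm n)), g⁻¹ * s * g ∈ SG W (T : Subgroup (Perm n)) :=
    fun s hs => (Subgroup.mem_normalizer_iff.1 hg _).2 (by
      have : g * (g⁻¹ * s * g) * g⁻¹ = s := by group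
      rw [this]; exact hs)
  obtain ⟨σ, hσ⟩ := exists_mono h2 hW hg1
  have hσi : Mono (g⁻¹).1 σ⁻¹ := by
    have := hσ.star
    rwa [← coe_inv_GU] at this
  have hconj : ∀ τ ∈ (T : Subgroup (Perm n)), σ * τ * σ⁻¹ ∈ (T : Subgroup (Perm n)) := by
    intro τ hτ
    obtain ⟨ρ, hρ, hρm, -⟩ := hg1 _ (PM_mem (F := F) W hτ)
    have h3 : Mono (g * PM τ * g⁻¹).1 (σ * τ * σ⁻¹) := (hσ.mul (PM_mono τ)).mul hσi
    rw [← h3.unique hρm] at hρ
    exact hρ
  have hconj' : ∀ τ ∈ (T : Subgroup (Perm n)), σ⁻¹ * τ * σ ∈ (T : Subgroup (Perm n)) := by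
    intro τ hτ
    obtain ⟨ρ, hρ, hρm, -⟩ := hg2 _ (PM_mem (F := F) W hτ)
    have h3 : Mono (g⁻¹ * PM τ * g).1 (σ⁻¹ * τ * σ) := (hσi.mul (PM_mono τ)).mul hσ
    rw [← h3.unique hρm] at hρ
    exact hρ
  have hσT : σ ∈ (T : Subgroup (Perm n)) := by
    apply Cfsg.Agent.H94.Syl2Sym.sym_selfNorm T
    rw [Subgroup.mem_normalizer_iff]
    intro τ
    refine ⟨fun h => hconj τ h, fun h => ?_⟩
    have := hconj' _ h
    have h3 : σ⁻¹ * (σ * τ * σ⁻¹) * σ = τ := by group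
    rwa [h3] at this
  refine ⟨σ, hσT, hσ, fun b u hu w hw => ?_⟩
  have h3 := hg1 _ (Rj_mem (T : Subgroup (Perm n)) b hw)
  rw [hσ.conj_Rj b hu] at h3
  exact mem_of_Rj_mem h3

/-- The wreath product of a self-normalizing `W` is self-normalizing. -/
theorem SG_self (h2 : (2 : F) ≠ 0) {W : Subgroup (U F)} (T : Sylow 2 (Perm n))
    (hW : ∃ w₀ ∈ W, w₀ * w₀ = nu) (hself : ∀ u : U F, (∀ w ∈ W, u * w * u⁻¹ ∈ W) → u ∈ W) :
    Subgroup.normalizer ((SG W (T : Subgroup (Perm n)) : Subgroup (GU n F)) : Set (GU n F)) ≤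
      SG W (T : Subgroup (Perm n)) := by
  intro g hg
  obtain ⟨σ, hσT, hσ, hu⟩ := norm_mono h2 T hW hg
  refine ⟨σ, hσT, hσ, fun b => ?_⟩
  obtain ⟨u, hue⟩ := hσ.entry b
  exact ⟨u, hself u (hu b u hue), hue⟩

/-- The normalizer of the wreath product of `Q8` and a transitive 2-group. -/
theorem norm_SG_Q8 (h2 : (2 : F) ≠ 0) (hns : ¬ IsSquare (2 : F)) (T : Sylow 2 (Perm n))
    (hT : ∀ a b : n, ∃ τ ∈ (T : Subgroup (Perm n)), τ a = b) {g : GU n F}
    (hg : g ∈ Subgroup.normalizer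
      ((SG (Q8 F) (T : Subgroup (Perm n)) : Subgroup (GU n F)) : Set (GU n F))) :
    g ∈ SG (Q8 F) (T : Subgroup (Perm n)) ∨ (sc (om h2))⁻¹ * g ∈ SG (Q8 F) (T : Subgroup (Perm n)) ∨
      sc (om h2) * g ∈ SG (Q8 F) (T : Subgroup (Perm n)) := by
  obtain ⟨σ, hσT, hσ, hu⟩ := norm_mono h2 T ⟨uI, uI_mem, by
    apply Subtype.ext; show (qi : ℍ[F]) * qi = -1; exact qi_mul_qi⟩ hg
  choose u hue using fun b => hσ.entry b
  have hun : ∀ b, ∀ w ∈ Q8 F, u b * w * (u b)⁻¹ ∈ Q8 F := fun b => hu b (u b) (hue b)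
  -- the cosets of the entries agree
  have hstep : ∀ τ ∈ (T : Subgroup (Perm n)), ∀ b, u (τ b) * (u b)⁻¹ ∈ Q8 F := by
    intro τ hτ b
    have h3 := (Subgroup.mem_normalizer_iff.1 hg _).1 (PM_mem (F := F) (Q8 F) hτ)
    obtain ⟨ρ, hρ, hρm, hρe⟩ := h3
    have hσi : Mono (g⁻¹).1 σ⁻¹ := by
      have := hσ.star
      rwa [← coe_inv_GU] at this
    have h4 : Mono (g * PM τ * g⁻¹).1 (σ * τ * σ⁻¹) := (hσ.mul (PM_mono τ)).mul hσi
    have h5 := hρm.unique h4
    subst h5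
    obtain ⟨w, hw, hwe⟩ := hρe (σ b)
    have h6 : (σ * τ * σ⁻¹) (σ b) = σ (τ b) := by simp
    rw [h6] at hwe
    have h7 : (g * PM τ * g⁻¹).1 (σ (τ b)) (σ b) = g.1 (σ (τ b)) (τ b) * star (g.1 (σ b) b) := by
      have h8 : (g * PM τ * g⁻¹).1 = (g.1 * (PM τ : GU n F).1) * (g⁻¹).1 := rfl
      rw [h8, hσi.mul_apply, coe_inv_GU, Matrix.conjTranspose_apply, (PM_mono τ).mul_apply]
      have h9 : σ⁻¹ (σ b) = b := by simp
      rw [h9, PM_apply, if_pos rfl, mul_one]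
    rw [h7, ← hue, ← hue, ← PronQ.coe_inv] at hwe
    have h10 : w = u (τ b) * (u b)⁻¹ := Subtype.ext hwe
    rw [← h10]; exact hw
  have hall : ∀ a b, u b * (u a)⁻¹ ∈ Q8 F := by
    intro a b
    obtain ⟨τ, hτ, rfl⟩ := hT a b
    exact hstep τ hτ a
  by_cases hne : Nonempty n
  · obtain ⟨a⟩ := hne
    have hmem : ∀ v : U F, (∀ b, v * u b ∈ Q8 F) → sc v * g ∈ SG (Q8 F) (T : Subgroup (Perm n)) := by
      intro v hv
      refine ⟨σ, hσT, ?_, fun b => ⟨v * u b, hv b, ?_⟩⟩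
      · intro c d hcd
        rw [sc_mul_apply, hσ c d hcd, mul_zero]
      · rw [sc_mul_apply, ← hue b]; rfl
    rcases norm_Q8 h2 hns (hun a) with h | h
    · left
      refine ⟨σ, hσT, hσ, fun b => ⟨u b, ?_, hue b⟩⟩
      have := mul_mem (hall a b) h
      rwa [inv_mul_cancel_right] at this
    · right
      rcases half_mem h2 h with h3 | h3
      · left
        rw [← map_inv]
        apply hmem
        intro b
        have h4 : (om h2)⁻¹ * u b = ((om h2)⁻¹ * (u b * (u a)⁻¹) * om h2) * ((om h2)⁻¹ * u a) := by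
          group
        rw [h4]
        exact mul_mem (om_conj_mem' h2 (hall a b)) h3
      · right
        apply hmem
        intro b
        have h4 : om h2 * u b = (om h2 * (u b * (u a)⁻¹) * (om h2)⁻¹) * (om h2 * u a) := by
          group
        rw [h4]
        exact mul_mem (om_conj_mem h2 (hall a b)) h3
  · left
    refine ⟨σ, hσT, hσ, fun b => absurd ⟨b⟩ hne⟩

/-- `sc ω` normalizes the wreath product. -/
theorem sc_om_conj (h2 : (2 : F) ≠ 0) {T : Subgroup (Perm n)} {s : GU n F}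
    (hs : s ∈ SG (Q8 F) T) : sc (om h2) * s * (sc (om h2))⁻¹ ∈ SG (Q8 F) T := by
  obtain ⟨σ, hσT, hσ, hent⟩ := hs
  refine ⟨σ, hσT, ?_, fun b => ?_⟩
  · intro c d hcd
    rw [← map_inv, mul_sc_apply, sc_mul_apply, hσ c d hcd, mul_zero, zero_mul]
  · obtain ⟨w, hw, hwe⟩ := hent b
    refine ⟨om h2 * w * (om h2)⁻¹, om_conj_mem h2 hw, ?_⟩
    rw [← map_inv, mul_sc_apply, sc_mul_apply, ← hwe]; rfl

theorem sc_om_conj' (h2 : (2 : F) ≠ 0) {T : Subgroup (Perm n)} {s : GU n F}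
    (hs : s ∈ SG (Q8 F) T) : (sc (om h2))⁻¹ * s * sc (om h2) ∈ SG (Q8 F) T := by
  obtain ⟨σ, hσT, hσ, hent⟩ := hs
  refine ⟨σ, hσT, ?_, fun b => ?_⟩
  · intro c d hcd
    rw [← map_inv, mul_sc_apply, sc_mul_apply, hσ c d hcd, mul_zero, zero_mul]
  · obtain ⟨w, hw, hwe⟩ := hent b
    refine ⟨(om h2)⁻¹ * w * om h2, om_conj_mem' h2 hw, ?_⟩
    rw [← map_inv, mul_sc_apply, sc_mul_apply, ← hwe]; rfl

end Cfsg.Agent.H158.PronFrame
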