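import Mathlib.LinearAlgebra.Matrix.SpecialLinearGroup
import Cfsg.Agent.H158.PronQ

/-!
# The quaternions over a finite field of odd characteristic are the 2 by 2 matrices (helper158)
-/

set_option autoImplicit false

namespace Cfsg.Agent.H158.PronM2

open Quaternion
open Cfsg.Agent.H158.PronQ

/-- In a finite field of odd characteristic every element is a sum of two squares. -/
theorem exists_sq_add_sq {F : Type*} [Field F] [Finite F] (x : F) :
    ∃ a b : F, a * a + b * b = x := by
  classical
  have := Fintype.ofFinite F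
  by_cases h2 : ringChar F = 2
  · obtain ⟨a, ha⟩ := FiniteField.isSquare_of_char_two h2 x
    exact ⟨a, 0, by rw [ha]; ring⟩
  · have hodd : Fintype.card F % 2 = 1 := FiniteField.odd_card_of_char_ne_two h2
    obtain ⟨a, b, hab⟩ := FiniteField.exists_root_sum_quadratic (R := F)
      (f := Polynomial.X ^ 2) (g := Polynomial.X ^ 2 - Polynomial.C x)
      (by rw [Polynomial.degree_X_pow]; rfl)
      (Polynomial.degree_X_pow_sub_C (by norm_num) x) hodd
    refine ⟨a, b, ?_⟩
    simp only [Polynomial.eval_pow, Polynomial.eval_X, Polynomial.eval_sub, Polynomial.eval_C]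
      at hab
    linear_combination hab

/-- The norm is surjective. -/
theorem exists_normSq {F : Type*} [Field F] [Finite F] (x : F) :
    ∃ q : ℍ[F], normSq q = x := by
  obtain ⟨a, b, hab⟩ := exists_sq_add_sq x
  refine ⟨mkQ a b 0 0, ?_⟩
  rw [normSq_def']
  simp only [mkQ_re, mkQ_imI, mkQ_imJ, mkQ_imK]
  linear_combination hab

section

variable {F : Type*} [Field F]

/-- The matrix of a quaternion, for `a² + b² = -1`. -/
def toM (a b : F) (q : ℍ[F]) : Matrix (Fin 2) (Fin 2) F :=
  !![q.re + q.imJ * a + q.imK * b, q.imI + q.imJ * b - q.imK * a;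
    -q.imI + q.imJ * b - q.imK * a, q.re - q.imJ * a - q.imK * b]

theorem toM_mul {a b : F} (hab : a * a + b * b = -1) (p q : ℍ[F]) :
    toM a b (p * q) = toM a b p * toM a b q := by
  ext i j
  fin_cases i <;> fin_cases j <;> simp [toM, Matrix.mul_apply, Fin.sum_univ_two]
  · linear_combination (-(p.imJ * q.imJ) - p.imK * q.imK) * hab
  · linear_combination (p.imJ * q.imK - p.imK * q.imJ) * hab
  · linear_combination (p.imK * q.imJ - p.imJ * q.imK) * hab
  · linear_combination (-(p.imJ * q.imJ) - p.imK * q.imK) * hab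

theorem toM_add {a b : F} (p q : ℍ[F]) : toM a b (p + q) = toM a b p + toM a b q := by
  ext i j
  fin_cases i <;> fin_cases j <;> simp [toM] <;> ring

/-- The inverse of `toM`. -/
def ofM (a b : F) (M : Matrix (Fin 2) (Fin 2) F) : ℍ[F] :=
  mkQ ((M 0 0 + M 1 1) * 2⁻¹) ((M 0 1 - M 1 0) * 2⁻¹)
    (-(a * (M 0 0 - M 1 1) + b * (M 0 1 + M 1 0)) * 2⁻¹)
    (-(b * (M 0 0 - M 1 1) - a * (M 0 1 + M 1 0)) * 2⁻¹)

/-- The ring isomorphism. -/
def equivM {a b : F} (hab : a * a + b * b = -1) (h2 : (2 : F) ≠ 0) :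
    ℍ[F] ≃+* Matrix (Fin 2) (Fin 2) F where
  toFun := toM a b
  invFun := ofM a b
  left_inv := by
    intro q
    have ht := two_half h2
    apply Quaternion.ext <;> simp [ofM, toM]
    · linear_combination q.re * ht
    · linear_combination q.imI * ht
    · linear_combination q.imJ * ht - 2 * q.imJ * 2⁻¹ * hab
    · linear_combination q.imK * ht - 2 * q.imK * 2⁻¹ * hab
  right_inv := by
    intro M
    have ht := two_half h2
    ext i j
    fin_cases i <;> fin_cases j <;> simp [ofM, toM]
    · linear_combination M 0 0 * ht - (M 0 0 - M 1 1) * 2⁻¹ * hab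
    · linear_combination M 0 1 * ht - (M 0 1 + M 1 0) * 2⁻¹ * hab
    · linear_combination M 1 0 * ht - (M 0 1 + M 1 0) * 2⁻¹ * hab
    · linear_combination M 1 1 * ht + (M 0 0 - M 1 1) * 2⁻¹ * hab
  map_mul' := toM_mul hab
  map_add' := toM_add

theorem det_toM {a b : F} (hab : a * a + b * b = -1) (q : ℍ[F]) :
    (toM a b q).det = normSq q := by
  rw [Matrix.det_fin_two, normSq_def']
  simp [toM]
  linear_combination (-(q.imJ * q.imJ) - q.imK * q.imK) * hab

theorem toM_star {a b : F} (q : ℍ[F]) : toM a b (star q) = (toM a b q).adjugate := by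
  rw [Matrix.adjugate_fin_two]
  ext i j
  fin_cases i <;> fin_cases j <;> simp [toM] <;> ring

/-- `U F` is `SL(2, F)`. -/
def equivSL {a b : F} (hab : a * a + b * b = -1) (h2 : (2 : F) ≠ 0) :
    U F ≃* Matrix.SpecialLinearGroup (Fin 2) F where
  toFun := fun u => ⟨toM a b u, by rw [det_toM hab, normSq_U]⟩
  invFun := fun M => ⟨(equivM hab h2).symm M.1, mem_U.2 (by
    rw [← det_toM hab]
    have : toM a b ((equivM hab h2).symm M.1) = M.1 := (equivM hab h2).apply_symm_apply M.1
    rw [this, M.2])⟩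
  left_inv := fun u => Subtype.ext ((equivM hab h2).symm_apply_apply _)
  right_inv := fun M => Subtype.ext ((equivM hab h2).apply_symm_apply _)
  map_mul' := fun u v => Subtype.ext (toM_mul hab _ _)

theorem exists_equivSL [Finite F] (h2 : (2 : F) ≠ 0) :
    Nonempty (U F ≃* Matrix.SpecialLinearGroup (Fin 2) F) := by
  obtain ⟨a, b, hab⟩ := exists_sq_add_sq (-1 : F)
  exact ⟨equivSL hab h2⟩

end

end Cfsg.Agent.H158.PronM2
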