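import Mathlib.GroupTheory.SpecificGroups.ZGroup
import Cfsg.Agent.H158.PronOdd
import Cfsg.Agent.H158.PronM2
import Cfsg.Agent.S0262
import Cfsg.Agent.Classification.QDW.FuCop

/-!
# Subgroups of the norm one group containing the quaternion group (helper158)

`F` is a finite field in which 2 is not a square, `P` a group of norm one quaternions containing
`Q8` but not `ω`.  Then `P = A Q8` where `A`, the set of elements of odd order of `P`, is an
abelian group without elements of order `char F`.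
-/

set_option autoImplicit false

namespace Cfsg.Agent.H158.PronP

open Subgroup Quaternion
open Cfsg.Agent.H158.PronQ Cfsg.Agent.H158.PronM2

variable {F : Type*} [Field F]

theorem neg_one_mem_Q8 : (-1 : U F) ∈ Q8 F := Or.inr (Or.inl rfl)

theorem Q8_comm {x y : ℍ[F]} (hx : IsQ8 x) (hy : IsQ8 y) : x * y = y * x ∨ x * y = -(y * x) := by
  rcases hx with h | h | h | h | h | h | h | h <;> subst h <;>
    rcases hy with h | h | h | h | h | h | h | h <;> subst h <;> simp

theorem Q8_comm' {x y : U F} (hx : x ∈ Q8 F) (hy : y ∈ Q8 F) :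
    x * y * x⁻¹ * y⁻¹ = 1 ∨ x * y * x⁻¹ * y⁻¹ = -1 := by
  rcases Q8_comm hx hy with h | h
  · left
    have h1 : x * y = y * x := Subtype.ext h
    rw [h1]; group
  · right
    have h1 : x * y = -(y * x) := Subtype.ext h
    rw [h1, neg_mul, neg_mul]
    congr 1
    group

/-- `P = A Q8`, `A` the set of elements of odd order. -/
theorem exists_A [Finite F] (h2 : (2 : F) ≠ 0) (hns : ¬ IsSquare (2 : F)) {P : Subgroup (U F)}
    (hP : Q8 F ≤ P) (hom : om h2 ∉ P) :
    ∃ A : Subgroup (U F), (∀ x, x ∈ A ↔ x ∈ P ∧ Odd (orderOf x)) ∧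
      ∀ x ∈ P, ∃ a ∈ A, ∃ v ∈ Q8 F, x = a * v := by
  obtain ⟨S, hS⟩ := exists_sylow_Q8 h2 hns
  have hSP : (S : Subgroup (U F)) ≤ P := by rw [hS]; exact hP
  set Q := S.subtype hSP with hQ
  have hQmem : ∀ x : P, x ∈ (Q : Subgroup P) ↔ (x : U F) ∈ Q8 F := by
    intro x
    rw [hQ, Sylow.coe_subtype, mem_subgroupOf, hS]
  let c : P := ⟨-1, hP neg_one_mem_Q8⟩
  obtain ⟨A, hA, hdec⟩ := PronOdd.odd_core Q c (Subtype.ext (by simp [c]))
    (fun x => Subtype.ext (by simp [c])) ((hQmem c).2 neg_one_mem_Q8) (e := 2)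
    (fun v hv => Subtype.ext (Q8_pow ((hQmem v).1 hv)))
    (by
      intro x hx
      by_contra hxQ
      apply hom
      refine om_mem_of_norm h2 hns hP x.2 ?_ (fun h => hxQ ((hQmem x).2 h))
      intro v hv
      have h1 := (mem_normalizer_iff.1 hx ⟨v, hP hv⟩).1 ((hQmem _).2 hv)
      exact (hQmem _).1 h1)
    (by
      intro x hx y hy
      rcases Q8_comm' ((hQmem x).1 hx) ((hQmem y).1 hy) with h | h
      · left; exact Subtype.ext h
      · right; exact Subtype.ext h)
  refine ⟨A.map P.subtype, fun x => ?_, fun x hx => ?_⟩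
  · constructor
    · rintro ⟨y, hy, rfl⟩
      refine ⟨y.2, ?_⟩
      have := (hA y).1 hy
      rwa [← Subgroup.orderOf_coe] at this
    · rintro ⟨h1, h3⟩
      refine ⟨⟨x, h1⟩, (hA _).2 ?_, rfl⟩
      rwa [← Subgroup.orderOf_coe]
  · obtain ⟨a, ha, v, hv, he⟩ := hdec ⟨x, hx⟩
    exact ⟨a, ⟨a, ha, rfl⟩, v, (hQmem v).1 hv, congrArg Subtype.val he⟩

/-- A quaternion commuting with its conjugates under `i` and `j` has at most one nonzero
imaginary coordinate. -/
theorem comm_conj (h2 : (2 : F) ≠ 0) {b : ℍ[F]}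
    (hi : b * (qi * b * star qi) = (qi * b * star qi) * b)
    (hj : b * (qj * b * star qj) = (qj * b * star qj) * b) :
    b.imI * b.imJ = 0 ∧ b.imI * b.imK = 0 ∧ b.imJ * b.imK = 0 := by
  have e1 := congrArg QuaternionAlgebra.imJ hi
  have e2 := congrArg QuaternionAlgebra.imK hi
  have e3 := congrArg QuaternionAlgebra.imI hj
  simp at e1 e2 e3
  have h4 : (2 : F) * 2 ≠ 0 := mul_ne_zero h2 h2
  refine ⟨?_, ?_, ?_⟩
  · have : (2 : F) * 2 * (b.imI * b.imJ) = 0 := by linear_combination -e2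
    exact (mul_eq_zero.1 this).resolve_left h4
  · have : (2 : F) * 2 * (b.imI * b.imK) = 0 := by linear_combination e1
    exact (mul_eq_zero.1 this).resolve_left h4
  · have : (2 : F) * 2 * (b.imJ * b.imK) = 0 := by linear_combination -e3
    exact (mul_eq_zero.1 this).resolve_left h4

theorem normSq_sub_one (u : U F) : normSq ((u : ℍ[F]) - 1) = 2 - 2 * (u : ℍ[F]).re := by
  have hN := normSq_U' u
  rw [normSq_def']
  simp
  linear_combination hN

theorem re_eq_one {u : U F} (h2 : (2 : F) ≠ 0) (h : normSq ((u : ℍ[F]) - 1) = 0) :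
    (u : ℍ[F]).re = 1 := by
  rw [normSq_sub_one] at h
  have h3 : (2 : F) * (1 - (u : ℍ[F]).re) = 0 := by linear_combination h
  exact (sub_eq_zero.1 ((mul_eq_zero.1 h3).resolve_left h2)).symm

theorem charP_quaternion (p : ℕ) [CharP F p] : CharP ℍ[F] p :=
  charP_of_injective_algebraMap (algebraMap F ℍ[F]).injective p

/-- Elements of order a power of the characteristic are unipotent. -/
theorem normSq_eq_zero_of_pow (p : ℕ) [Fact p.Prime] [CharP F p] {u : U F} {k : ℕ}
    (h : u ^ p ^ k = 1) : normSq ((u : ℍ[F]) - 1) = 0 := by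
  have := charP_quaternion (F := F) p
  have h1 : ((u : ℍ[F]) - 1) ^ p ^ k = 0 := by
    rw [sub_pow_char_pow_of_commute _ _ (Commute.one_right _), one_pow]
    have h3 : ((u ^ p ^ k : U F) : ℍ[F]) = (u : ℍ[F]) ^ p ^ k := rfl
    rw [← h3, h]
    exact sub_self _
  have h3 := congrArg normSq h1
  rw [map_pow, map_zero] at h3
  exact eq_zero_of_pow_eq_zero h3

/-- The `Q8`-invariant subgroups of order a power of the characteristic are trivial. -/
theorem eq_bot_of_isPGroup [Finite F] (h2 : (2 : F) ≠ 0) (p : ℕ) [Fact p.Prime] [CharP F p]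
    {X : Subgroup (U F)} (hX : IsPGroup p X) (hinv : ∀ v ∈ Q8 F, ∀ x ∈ X, v * x * v⁻¹ ∈ X) :
    X = ⊥ := by
  by_contra hne
  have hnt : Nontrivial X := (Subgroup.nontrivial_iff_ne_bot X).2 hne
  have hc := hX.center_nontrivial
  obtain ⟨⟨⟨b, hbX⟩, hbc⟩, hb1⟩ := exists_ne (1 : Subgroup.center X)
  have hb1' : b ≠ 1 := fun h => hb1 (Subtype.ext (Subtype.ext h))
  have hcomm : ∀ v ∈ Q8 F, b * (v * b * v⁻¹) = (v * b * v⁻¹) * b := by
    intro v hv
    have h1 := Subgroup.mem_center_iff.1 hbc ⟨_, hinv v hv b hbX⟩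
    exact (congrArg Subtype.val h1).symm
  have hi : (b : ℍ[F]) * (qi * (b : ℍ[F]) * star qi) = (qi * (b : ℍ[F]) * star qi) * (b : ℍ[F]) := by
    have h1 := congrArg Subtype.val (hcomm uI uI_mem)
    simp only [Submonoid.coe_mul, PronQ.coe_inv, coe_uI] at h1
    exact h1
  have hj : (b : ℍ[F]) * (qj * (b : ℍ[F]) * star qj) = (qj * (b : ℍ[F]) * star qj) * (b : ℍ[F]) := by
    have h1 := congrArg Subtype.val (hcomm uJ uJ_mem)
    simp only [Submonoid.coe_mul, PronQ.coe_inv, coe_uJ] at h1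
    exact h1
  obtain ⟨e1, e2, e3⟩ := comm_conj h2 hi hj
  obtain ⟨k, hk⟩ := hX ⟨b, hbX⟩
  have hk' : b ^ p ^ k = 1 := congrArg Subtype.val hk
  have hre := re_eq_one h2 (normSq_eq_zero_of_pow p hk')
  have hN := normSq_U' b
  rw [hre] at hN
  apply hb1'
  apply Subtype.ext
  generalize (b : ℍ[F]) = q at *
  show q = 1
  have hs : q.imI * q.imI + q.imJ * q.imJ + q.imK * q.imK = 0 := by linear_combination hN
  by_cases h1 : q.imI = 0
  · by_cases h3 : q.imJ = 0
    · rw [h1, h3] at hs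
      have h4 : q.imK = 0 := mul_self_eq_zero.1 (by linear_combination hs)
      apply Quaternion.ext <;> simp [hre, h1, h3, h4]
    · have h4 : q.imK = 0 := (mul_eq_zero.1 e3).resolve_left h3
      rw [h1, h4] at hs
      exact absurd (mul_self_eq_zero.1 (by linear_combination hs)) h3
  · have h3 : q.imJ = 0 := (mul_eq_zero.1 e1).resolve_left h1
    have h4 : q.imK = 0 := (mul_eq_zero.1 e2).resolve_left h1
    rw [h3, h4] at hs
    exact absurd (mul_self_eq_zero.1 (by linear_combination hs)) h1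

theorem not_dvd_card [Finite F] (h2 : (2 : F) ≠ 0) (p : ℕ) [Fact p.Prime] [CharP F p]
    {A : Subgroup (U F)} (hA : ¬ 2 ∣ Nat.card A) (hinv : ∀ v ∈ Q8 F, ∀ x ∈ A, v * x * v⁻¹ ∈ A) :
    ¬ p ∣ Nat.card A := by
  obtain ⟨R, hRA, hR, hidx, hRinv⟩ := Cfsg.Agent.Classification.QDW.FuCop.exists_inv
    (p := 2) (D := Q8 F) (X := A) Q8_isPGroup hA hinv p
  have h1 := eq_bot_of_isPGroup h2 p hR hRinv
  rw [h1, Subgroup.relIndex_bot_left] at hidx
  exact hidx

/-- An element of odd order, not divisible by the characteristic, with real part `±1` is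
trivial. -/
theorem eq_one_of_re (p : ℕ) [Fact p.Prime] [CharP F p] {c : U F}
    (hodd : Odd (orderOf c)) (hp : ¬ p ∣ orderOf c) (hre : (c : ℍ[F]).re * (c : ℍ[F]).re = 1) :
    c = 1 := by
  have := charP_quaternion (F := F) p
  have hN := normSq_U c
  -- `c² = 2 re c · c - 1`
  have hsq : (c : ℍ[F]) * c = (2 * (c : ℍ[F]).re) • (c : ℍ[F]) - 1 := by
    have h1 := sandwich (c : ℍ[F]) 1
    rw [hN, one_smul, star_one, mul_one, one_mul] at h1
    exact h1
  have h3 : ((c ^ 2 : U F) : ℍ[F]) = (c : ℍ[F]) * c := by rw [pow_two]; rfl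
  have h4 : (((c ^ 2 : U F) : ℍ[F]) - 1) * (((c ^ 2 : U F) : ℍ[F]) - 1) = 0 := by
    rw [h3, hsq]
    have h5 : ((2 * (c : ℍ[F]).re) • (c : ℍ[F]) - 1 - 1) * ((2 * (c : ℍ[F]).re) • (c : ℍ[F]) - 1 - 1)
        = ((2 * (c : ℍ[F]).re) * (2 * (c : ℍ[F]).re)) • ((c : ℍ[F]) * c)
          - (4 * (2 * (c : ℍ[F]).re)) • (c : ℍ[F]) + (1 + 1 + 1 + 1) := by
      apply Quaternion.ext <;> simp <;> ring
    rw [h5, hsq]
    apply Quaternion.ext
    · simp; linear_combination (8 * (c : ℍ[F]).re * (c : ℍ[F]).re - 4) * hre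
    · simp; linear_combination (8 * (c : ℍ[F]).re * (c : ℍ[F]).imI) * hre
    · simp; linear_combination (8 * (c : ℍ[F]).re * (c : ℍ[F]).imJ) * hre
    · simp; linear_combination (8 * (c : ℍ[F]).re * (c : ℍ[F]).imK) * hre
  have hp2 : 2 ≤ p := (Fact.out : p.Prime).two_le
  have h5 : (((c ^ 2 : U F) : ℍ[F]) - 1) ^ p = 0 := by
    obtain ⟨k, rfl⟩ := Nat.exists_eq_add_of_le hp2
    rw [pow_add, pow_two, h4, zero_mul]
  rw [sub_pow_char_of_commute _ (Commute.one_right _), one_pow, sub_eq_zero] at h5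
  have h6 : c ^ (2 * p) = 1 := by
    apply Subtype.ext
    rw [pow_mul]
    exact h5
  have h7 := orderOf_dvd_of_pow_eq_one h6
  have h8 : Nat.Coprime (orderOf c) (2 * p) := by
    apply Nat.Coprime.mul_right
    · exact Nat.coprime_two_right.2 hodd
    · exact ((Nat.Prime.coprime_iff_not_dvd Fact.out).2 hp).symm
  exact orderOf_eq_one_iff.1 (Nat.Coprime.eq_one_of_dvd h8 h7)

/-- Commuting quaternions have parallel imaginary parts. -/
theorem cross_of_comm (h2 : (2 : F) ≠ 0) {x y : ℍ[F]} (h : x * y = y * x) :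
    x.imI * y.imJ = x.imJ * y.imI ∧ x.imI * y.imK = x.imK * y.imI ∧
      x.imJ * y.imK = x.imK * y.imJ := by
  have e1 := congrArg QuaternionAlgebra.imI h
  have e2 := congrArg QuaternionAlgebra.imJ h
  have e3 := congrArg QuaternionAlgebra.imK h
  simp at e1 e2 e3
  refine ⟨?_, ?_, ?_⟩
  · have : (2 : F) * (x.imI * y.imJ - x.imJ * y.imI) = 0 := by linear_combination e3
    exact sub_eq_zero.1 ((mul_eq_zero.1 this).resolve_left h2)
  · have : (2 : F) * (x.imI * y.imK - x.imK * y.imI) = 0 := by linear_combination -e2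
    exact sub_eq_zero.1 ((mul_eq_zero.1 this).resolve_left h2)
  · have : (2 : F) * (x.imJ * y.imK - x.imK * y.imJ) = 0 := by linear_combination e1
    exact sub_eq_zero.1 ((mul_eq_zero.1 this).resolve_left h2)

theorem comm_of_cross {x y : ℍ[F]} (h1 : x.imI * y.imJ = x.imJ * y.imI)
    (h2 : x.imI * y.imK = x.imK * y.imI) (h3 : x.imJ * y.imK = x.imK * y.imJ) :
    x * y = y * x := by
  apply Quaternion.ext
  · simp; ring
  · simp; linear_combination 2 * h3
  · simp; linear_combination -2 * h2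
  · simp; linear_combination 2 * h1

/-- The centralizer of a non-central quaternion is commutative. -/
theorem comm_trans (h2 : (2 : F) ≠ 0) {a b c : ℍ[F]}
    (hc : ¬ (c.imI = 0 ∧ c.imJ = 0 ∧ c.imK = 0)) (ha : a * c = c * a) (hb : b * c = c * b) :
    a * b = b * a := by
  obtain ⟨a1, a2, a3⟩ := cross_of_comm h2 ha
  obtain ⟨b1, b2, b3⟩ := cross_of_comm h2 hb
  have key : ∀ d : F, (c.imI * d = 0) → (c.imJ * d = 0) → (c.imK * d = 0) → d = 0 := by
    intro d h1 h3 h4
    by_contra hd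
    exact hc ⟨(mul_eq_zero.1 h1).resolve_right hd, (mul_eq_zero.1 h3).resolve_right hd,
      (mul_eq_zero.1 h4).resolve_right hd⟩
  apply comm_of_cross
  · apply sub_eq_zero.1
    apply key
    · linear_combination b.imI * a1 - a.imI * b1
    · linear_combination b.imJ * a1 - a.imJ * b1
    · linear_combination b.imJ * a2 - b.imI * a3 - a.imK * b1
  · apply sub_eq_zero.1
    apply key
    · linear_combination b.imI * a2 - a.imI * b2
    · linear_combination b.imK * a1 + b.imI * a3 - a.imJ * b2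
    · linear_combination b.imK * a2 - a.imK * b2
  · apply sub_eq_zero.1
    apply key
    · linear_combination b.imJ * a2 - b.imK * a1 - a.imI * b3
    · linear_combination b.imJ * a3 - a.imJ * b3
    · linear_combination b.imK * a3 - a.imK * b3

/-- Commuting conjugate quaternions which are not unipotent are equal or inverse. -/
theorem eq_or_star (h2 : (2 : F) ≠ 0) {c d : ℍ[F]}
    (hs : c.imI * c.imI + c.imJ * c.imJ + c.imK * c.imK ≠ 0) (hre : d.re = c.re)
    (hN : normSq d = normSq c) (h : d * c = c * d) : d = c ∨ d = star c := by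
  obtain ⟨e1, e2, e3⟩ := cross_of_comm h2 h
  rw [normSq_def', normSq_def', hre] at hN
  set s := c.imI * c.imI + c.imJ * c.imJ + c.imK * c.imK with hs'
  set t := c.imI * d.imI + c.imJ * d.imJ + c.imK * d.imK with ht
  have f1 : d.imI * s = c.imI * t := by
    rw [hs', ht]; linear_combination c.imJ * e1 + c.imK * e2
  have f2 : d.imJ * s = c.imJ * t := by
    rw [hs', ht]; linear_combination -c.imI * e1 + c.imK * e3
  have f3 : d.imK * s = c.imK * t := by
    rw [hs', ht]; linear_combination -c.imI * e2 - c.imJ * e3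
  have f4 : d.imI * d.imI + d.imJ * d.imJ + d.imK * d.imK = s := by
    rw [hs']; linear_combination hN
  have f5 : s * (t * t) = s * (s * s) := by
    have h6 : (d.imI * s) * (d.imI * s) + (d.imJ * s) * (d.imJ * s) + (d.imK * s) * (d.imK * s)
        = s * (t * t) := by
      rw [f1, f2, f3]; rw [hs']; ring
    rw [← h6]
    linear_combination (s * s) * f4
  have f6 : t * t = s * s := mul_left_cancel₀ hs f5
  rcases mul_self_eq_mul_self_iff.1 f6 with h7 | h7
  · left
    rw [h7] at f1 f2 f3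
    apply Quaternion.ext
    · exact hre
    · exact mul_right_cancel₀ hs f1
    · exact mul_right_cancel₀ hs f2
    · exact mul_right_cancel₀ hs f3
  · right
    rw [h7] at f1 f2 f3
    apply Quaternion.ext
    · simp [hre]
    · simp; exact mul_right_cancel₀ hs (by linear_combination f1)
    · simp; exact mul_right_cancel₀ hs (by linear_combination f2)
    · simp; exact mul_right_cancel₀ hs (by linear_combination f3)

theorem re_conj (u x : U F) : ((u * x * u⁻¹ : U F) : ℍ[F]).re = (x : ℍ[F]).re := by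
  have h1 : ((u * x * u⁻¹ : U F) : ℍ[F]) = (u : ℍ[F]) * x * star (u : ℍ[F]) := by
    rw [Submonoid.coe_mul, Submonoid.coe_mul, PronQ.coe_inv]
  have hN := normSq_U' u
  rw [h1]
  simp
  linear_combination (x : ℍ[F]).re * hN

/-- A `Q8`-invariant group `A` of odd order of norm one quaternions is abelian, of order prime to
the characteristic. -/
theorem comm_of_odd [Finite F] (h2 : (2 : F) ≠ 0) {A : Subgroup (U F)}
    (hA : ∀ x ∈ A, Odd (orderOf x)) (hinv : ∀ v ∈ Q8 F, ∀ x ∈ A, v * x * v⁻¹ ∈ A) :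
    (∀ x ∈ A, ∀ y ∈ A, x * y = y * x) ∧
      ∀ x ∈ A, x ≠ 1 → (x : ℍ[F]).imI * (x : ℍ[F]).imI + (x : ℍ[F]).imJ * (x : ℍ[F]).imJ +
        (x : ℍ[F]).imK * (x : ℍ[F]).imK ≠ 0 := by
  obtain ⟨p, hp⟩ := CharP.exists F
  have hpp : p.Prime := CharP.char_prime_of_ne_zero (R := F) (p := p) (by
    intro h0
    subst h0
    have : CharZero F := CharP.charP_to_charZero F
    exact not_finite F)
  have : Fact p.Prime := ⟨hpp⟩
  have hA2 : ¬ 2 ∣ Nat.card A := by
    intro hd
    obtain ⟨x, hx⟩ := exists_prime_orderOf_dvd_card' 2 hd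
    have h1 := hA x x.2
    rw [Subgroup.orderOf_coe, hx] at h1
    exact absurd h1 (by decide)
  have hAp := not_dvd_card h2 p hA2 hinv
  have hop : ∀ x ∈ A, ¬ p ∣ orderOf x := by
    intro x hx hd
    have h1 : orderOf x ∣ Nat.card A := by
      have := orderOf_dvd_natCard (⟨x, hx⟩ : A)
      rwa [← Subgroup.orderOf_coe] at this
    exact hAp (hd.trans h1)
  have hs : ∀ x ∈ A, x ≠ 1 → (x : ℍ[F]).imI * (x : ℍ[F]).imI + (x : ℍ[F]).imJ * (x : ℍ[F]).imJ +
        (x : ℍ[F]).imK * (x : ℍ[F]).imK ≠ 0 := by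
    intro x hx hx1 h0
    apply hx1
    apply eq_one_of_re p (hA x hx) (hop x hx)
    have hN := normSq_U' x
    linear_combination hN - h0
  refine ⟨?_, hs⟩
  -- `A` is a Z-group
  have hZ : IsZGroup A := by
    refine ⟨fun r hr S => ?_⟩
    have : Fact r.Prime := ⟨hr⟩
    by_cases hr2 : r = 2
    · subst hr2
      have h1 : Nat.card S = 1 := by
        by_contra h1
        have h3 : 2 ∣ Nat.card S := by
          obtain ⟨k, hk⟩ := IsPGroup.iff_card.1 S.isPGroup'
          rw [hk]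
          rcases Nat.eq_zero_or_pos k with h0 | h0
          · rw [h0, pow_zero] at hk; exact absurd hk h1
          · exact dvd_pow_self 2 h0.ne'
        exact hA2 (h3.trans (Subgroup.card_subgroup_dvd_card _))
      have : Subsingleton S := (Nat.card_eq_one_iff_unique.1 h1).1
      infer_instance
    · by_cases hrp : r = p
      · subst hrp
        have h1 : Nat.card S = 1 := by
          by_contra h1
          have h3 : r ∣ Nat.card S := by
            obtain ⟨k, hk⟩ := IsPGroup.iff_card.1 S.isPGroup'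
            rw [hk]
            rcases Nat.eq_zero_or_pos k with h0 | h0
            · rw [h0, pow_zero] at hk; exact absurd hk h1
            · exact dvd_pow_self r h0.ne'
          exact hAp (h3.trans (Subgroup.card_subgroup_dvd_card _))
        have : Subsingleton S := (Nat.card_eq_one_iff_unique.1 h1).1
        infer_instance
      · obtain ⟨e⟩ := exists_equivSL (F := F) h2
        let f : S →* Matrix.SpecialLinearGroup (Fin 2) F :=
          e.toMonoidHom.comp (A.subtype.comp (S : Subgroup A).subtype)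
        have hf : Function.Injective f := by
          intro x y hxy
          exact Subtype.ext (Subtype.ext (e.injective hxy))
        have h1 : IsPGroup r f.range := by
          rintro ⟨_, ⟨x, rfl⟩⟩
          obtain ⟨k, hk⟩ := S.isPGroup' x
          refine ⟨k, Subtype.ext ?_⟩
          show (f x) ^ r ^ k = 1
          rw [← map_pow, hk, map_one]
        have h3 := S0262.isCyclic_of_isPGroup p r hr2 hrp f.range h1
        exact isCyclic_of_injective f.rangeRestrict (fun x y h => hf (congrArg Subtype.val h))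
  have hcyc : IsCyclic (commutator A) := IsZGroup.isCyclic_commutator A
  -- `A` centralizes its commutator subgroup
  have key : ∀ c ∈ commutator A, c ≠ 1 → ∀ a : A, a * c = c * a := by
    intro c hc hc1 a
    have hc1' : (c : U F) ≠ 1 := fun h => hc1 (Subtype.ext h)
    have hconj : a * c * a⁻¹ ∈ commutator A := (commutator_normal (⊤ : Subgroup A) ⊤).conj_mem c hc a
    have hcm : (a * c * a⁻¹) * c = c * (a * c * a⁻¹) := by
      have := (IsCyclic.commGroup (α := commutator A)).mul_comm ⟨_, hconj⟩ ⟨c, hc⟩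
      exact congrArg Subtype.val this
    have hcm' : (((a : U F) * c * (a : U F)⁻¹ : U F) : ℍ[F]) * ((c : U F) : ℍ[F]) =
        ((c : U F) : ℍ[F]) * (((a : U F) * c * (a : U F)⁻¹ : U F) : ℍ[F]) :=
      congrArg (fun z : A => ((z : U F) : ℍ[F])) hcm
    rcases eq_or_star h2 (hs c c.2 hc1') (re_conj (a : U F) c)
      (by rw [normSq_U, normSq_U]) hcm' with h | h
    · have h1 : a * c * a⁻¹ = c := Subtype.ext (Subtype.ext h)
      exact mul_inv_eq_iff_eq_mul.1 h1
    · exfalso
      have h1 : a * c * a⁻¹ = c⁻¹ := by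
        apply Subtype.ext; apply Subtype.ext
        exact h.trans (PronQ.coe_inv (c : U F)).symm
      -- `a²` commutes with `c`
      have h3 : a ^ 2 * c = c * a ^ 2 := by
        have h4 : a ^ 2 * c * (a ^ 2)⁻¹ = c := by
          have h5 : a ^ 2 * c * (a ^ 2)⁻¹ = a * (a * c * a⁻¹) * a⁻¹ := by rw [pow_two]; group
          have h6 : a * c⁻¹ * a⁻¹ = (a * c * a⁻¹)⁻¹ := by group
          rw [h5, h1, h6, h1, inv_inv]
        exact mul_inv_eq_iff_eq_mul.1 h4
      have hao : Odd (orderOf a) := by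
        have := hA a a.2
        rwa [Subgroup.orderOf_coe] at this
      obtain ⟨l, hl⟩ := hao
      have h5 : a = (a ^ 2) ^ (l + 1) := by
        rw [← pow_mul, show 2 * (l + 1) = (2 * l + 1) + 1 by ring, pow_succ, ← hl,
          pow_orderOf_eq_one, one_mul]
      have h6 : Commute a c := by
        rw [h5]
        exact Commute.pow_left (show Commute (a ^ 2) c from h3) _
      have h7 : c = c⁻¹ := by
        rw [← h1, h6.eq]; group
      have h8 : c ^ 2 = 1 := by
        rw [pow_two]; nth_rw 2 [h7]; group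
      have h9 : Odd (orderOf c) := by
        have := hA c c.2
        rwa [Subgroup.orderOf_coe] at this
      have h10 := orderOf_dvd_of_pow_eq_one h8
      have h11 : orderOf c = 1 := by
        rcases (Nat.dvd_prime Nat.prime_two).1 h10 with h | h
        · exact h
        · rw [h] at h9; exact absurd h9 (by decide)
      exact hc1 (orderOf_eq_one_iff.1 h11)
  intro x hx y hy
  by_cases hbot : commutator A = ⊥
  · have h1 : (⟨x, hx⟩ : A) * ⟨y, hy⟩ * (⟨x, hx⟩ : A)⁻¹ * (⟨y, hy⟩ : A)⁻¹ ∈ commutator A :=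
      Subgroup.commutator_mem_commutator (Subgroup.mem_top _) (Subgroup.mem_top _)
    rw [hbot, Subgroup.mem_bot] at h1
    have h3 : (x * y * x⁻¹ * y⁻¹ : U F) = 1 := congrArg Subtype.val h1
    rw [mul_inv_eq_one, mul_inv_eq_iff_eq_mul] at h3
    exact h3
  · obtain ⟨⟨c, hc⟩, hc0⟩ := Subgroup.ne_bot_iff_exists_ne_one.1 hbot
    have hc1 : c ≠ 1 := fun h => hc0 (Subtype.ext h)
    have hx' := congrArg (fun z : A => ((z : U F) : ℍ[F])) (key c hc hc1 ⟨x, hx⟩)
    have hy' := congrArg (fun z : A => ((z : U F) : ℍ[F])) (key c hc hc1 ⟨y, hy⟩)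
    have hc1' : (c : U F) ≠ 1 := fun h => hc1 (Subtype.ext h)
    apply Subtype.ext
    apply comm_trans h2 (c := ((c : U F) : ℍ[F])) _ hx' hy'
    rintro ⟨h1, h3, h4⟩
    apply hs c c.2 hc1'
    rw [h1, h3, h4]; ring

theorem orderOf_conj' {G : Type*} [Group G] (g x : G) : orderOf (g * x * g⁻¹) = orderOf x :=
  (MulAut.conj g).orderOf_eq x

/-- The structure of `P`, with all properties of `A`. -/
theorem exists_A' [Finite F] (h2 : (2 : F) ≠ 0) (hns : ¬ IsSquare (2 : F)) {P : Subgroup (U F)}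
    (hP : Q8 F ≤ P) (hom : om h2 ∉ P) :
    ∃ A : Subgroup (U F), (∀ x, x ∈ A ↔ x ∈ P ∧ Odd (orderOf x)) ∧
      (∀ x ∈ P, ∃ a ∈ A, ∃ v ∈ Q8 F, x = a * v) ∧ (∀ x ∈ A, ∀ y ∈ A, x * y = y * x) ∧
      ∀ x ∈ A, x ≠ 1 → (x : ℍ[F]).imI * (x : ℍ[F]).imI + (x : ℍ[F]).imJ * (x : ℍ[F]).imJ +
        (x : ℍ[F]).imK * (x : ℍ[F]).imK ≠ 0 := by
  obtain ⟨A, hA, hdec⟩ := exists_A h2 hns hP hom
  obtain ⟨h3, h4⟩ := comm_of_odd h2 (A := A) (fun x hx => ((hA x).1 hx).2) (by
    intro v hv x hx
    obtain ⟨h5, h6⟩ := (hA x).1 hx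
    rw [hA]
    refine ⟨mul_mem (mul_mem (hP hv) h5) (inv_mem (hP hv)), ?_⟩
    rw [orderOf_conj']; exact h6)
  exact ⟨A, hA, hdec, h3, h4⟩

/-- If a unipotent element `h ≠ 1` normalizes `P`, then `P = Q8`, `F` has characteristic 3 and
`h = 1 ± i ± j ± k`. -/
theorem unipotent_case [Finite F] (h2 : (2 : F) ≠ 0) (hns : ¬ IsSquare (2 : F))
    {P : Subgroup (U F)} (hP : Q8 F ≤ P) (hom : om h2 ∉ P) {h : U F}
    (hN : normSq ((h : ℍ[F]) - 1) = 0) (h1 : h ≠ 1) (hnorm : ∀ a ∈ P, h * a * h⁻¹ ∈ P) :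
    P ≤ Q8 F ∧ (3 : F) = 0 ∧ (h : ℍ[F]).re = 1 ∧ (h : ℍ[F]).imI * (h : ℍ[F]).imI = 1 ∧
      (h : ℍ[F]).imJ * (h : ℍ[F]).imJ = 1 ∧ (h : ℍ[F]).imK * (h : ℍ[F]).imK = 1 := by
  obtain ⟨A, hA, hdec, hcomm, hs⟩ := exists_A' h2 hns hP hom
  have hre := re_eq_one h2 hN
  have hA1 : ∀ c ∈ A, c = 1 := by
    intro c hc
    by_contra hc1
    obtain ⟨hcP, hco⟩ := (hA c).1 hc
    have hc' : h * c * h⁻¹ ∈ A := by
      rw [hA]
      refine ⟨hnorm c hcP, ?_⟩
      rw [orderOf_conj']; exact hco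
    have hcm := hcomm _ hc' c hc
    have hsc := hs c hc hc1
    have hcm2 : (h * h) * c = c * (h * h) := by
      rcases eq_or_star h2 hsc (re_conj h c) (by rw [normSq_U, normSq_U])
        (congrArg Subtype.val hcm) with h3 | h3
      · have h4 : h * c * h⁻¹ = c := Subtype.ext h3
        have h5 : h * c = c * h := mul_inv_eq_iff_eq_mul.1 h4
        rw [mul_assoc, h5, ← mul_assoc, h5, mul_assoc]
      · have h4 : h * c * h⁻¹ = c⁻¹ := Subtype.ext (h3.trans (PronQ.coe_inv c).symm)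
        have h5 : (h * h) * c * (h * h)⁻¹ = c := by
          have h6 : (h * h) * c * (h * h)⁻¹ = h * (h * c * h⁻¹) * h⁻¹ := by group
          have h7 : h * c⁻¹ * h⁻¹ = (h * c * h⁻¹)⁻¹ := by group
          rw [h6, h4, h7, h4, inv_inv]
        exact mul_inv_eq_iff_eq_mul.1 h5
    have hsq : (h : ℍ[F]) * h = (2 : F) • (h : ℍ[F]) - 1 := by
      have h3 := sandwich (h : ℍ[F]) 1
      rw [normSq_U, one_smul, star_one, mul_one, one_mul, hre, mul_one] at h3
      exact h3
    have hcm3 : (h : ℍ[F]) * c = (c : ℍ[F]) * h := by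
      have h3 : ((h : ℍ[F]) * h) * c = (c : ℍ[F]) * ((h : ℍ[F]) * h) := congrArg Subtype.val hcm2
      rw [hsq, sub_mul, mul_sub, one_mul, mul_one, smul_mul_assoc, mul_smul_comm] at h3
      exact smul_right_injective _ h2 (sub_left_injective h3)
    obtain ⟨e1, e2, e3⟩ := cross_of_comm h2 hcm3
    have hNh := normSq_U' h
    have hn0 : (h : ℍ[F]).imI ^ 2 + (h : ℍ[F]).imJ ^ 2 + (h : ℍ[F]).imK ^ 2 = 0 := by
      rw [hre] at hNh; linear_combination hNh
    apply h1
    apply Subtype.ext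
    generalize (h : ℍ[F]) = x at *
    generalize (c : ℍ[F]) = y at *
    -- `x · y = 0`
    have k0 : ∀ z : F, x.imI * z = 0 → x.imJ * z = 0 → x.imK * z = 0 →
        (z = 0 ∨ (x.imI = 0 ∧ x.imJ = 0 ∧ x.imK = 0)) := by
      intro z z1 z2 z3
      by_cases hz : z = 0
      · exact Or.inl hz
      · exact Or.inr ⟨(mul_eq_zero.1 z1).resolve_right hz, (mul_eq_zero.1 z2).resolve_right hz,
          (mul_eq_zero.1 z3).resolve_right hz⟩
    have hfin : x.imI = 0 ∧ x.imJ = 0 ∧ x.imK = 0 := by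
      rcases k0 (x.imI * y.imI + x.imJ * y.imJ + x.imK * y.imK)
        (by linear_combination y.imI * hn0 + x.imJ * e1 + x.imK * e2)
        (by linear_combination y.imJ * hn0 - x.imI * e1 + x.imK * e3)
        (by linear_combination y.imK * hn0 - x.imI * e2 - x.imJ * e3) with h3 | h3
      · rcases k0 (y.imI * y.imI + y.imJ * y.imJ + y.imK * y.imK)
          (by linear_combination y.imI * h3 + y.imJ * e1 + y.imK * e2)
          (by linear_combination y.imJ * h3 - y.imI * e1 + y.imK * e3)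
          (by linear_combination y.imK * h3 - y.imI * e2 - y.imJ * e3) with h4 | h4
        · exact absurd h4 hsc
        · exact h4
      · exact h3
    apply Quaternion.ext
    · exact hre
    · exact hfin.1
    · exact hfin.2.1
    · exact hfin.2.2
  have hPQ : P ≤ Q8 F := by
    intro x hx
    obtain ⟨a, ha, v, hv, rfl⟩ := hdec x hx
    rw [hA1 a ha, one_mul]
    exact hv
  refine ⟨hPQ, ?_⟩
  rcases norm_Q8 h2 hns (fun v hv => hPQ (hnorm v (hP hv))) with h3 | h3
  · exfalso
    apply h1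
    apply Subtype.ext
    have h3' : IsQ8 (h : ℍ[F]) := h3
    generalize (h : ℍ[F]) = x at *
    rcases h3' with h | h | h | h | h | h | h | h <;> subst h
    · rfl
    · exfalso
      have h4 : (-1 : F) = 1 := by simpa using hre
      exact h2 (by linear_combination -h4)
    · exact absurd hre (by simp)
    · exact absurd hre (by simp)
    · exact absurd hre (by simp)
    · exact absurd hre (by simp)
    · exact absurd hre (by simp)
    · exact absurd hre (by simp)
  · obtain ⟨f0, f1, f3, f4⟩ := h3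
    rw [hre] at f0
    have h30 : (3 : F) = 0 := by linear_combination f0
    refine ⟨h30, hre, ?_, ?_, ?_⟩
    · linear_combination f1 - ((h : ℍ[F]).imI * (h : ℍ[F]).imI) * h30
    · linear_combination f3 - ((h : ℍ[F]).imJ * (h : ℍ[F]).imJ) * h30
    · linear_combination f4 - ((h : ℍ[F]).imK * (h : ℍ[F]).imK) * h30

/-- If `Q8 ≤ P₁` and `P₁`, `g P₁ g⁻¹` (`g = ω^{±1}`) lie in `P₂` with `ω ∉ P₂`, then
`P₁ = Q8`. -/
theorem le_Q8_of_conj [Finite F] (h2 : (2 : F) ≠ 0) (hns : ¬ IsSquare (2 : F))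
    {P₁ P₂ : Subgroup (U F)} (hP : Q8 F ≤ P₁) (hP12 : P₁ ≤ P₂) (hom : om h2 ∉ P₂) {g : U F}
    (hg : g = om h2 ∨ g = (om h2)⁻¹) (hgP : ∀ x ∈ P₁, g * x * g⁻¹ ∈ P₂) : P₁ ≤ Q8 F := by
  obtain ⟨A, hA, hdec, hcomm, hs⟩ := exists_A' h2 hns (hP.trans hP12) hom
  intro x hx
  obtain ⟨a, ha, v, hv, rfl⟩ := hdec x (hP12 hx)
  have ha1 : a ∈ P₁ := by
    have := mul_mem hx (inv_mem (hP hv))
    rwa [mul_inv_cancel_right] at this
  have haodd := ((hA a).1 ha).2
  have hconj : ∀ w ∈ Q8 F, a * (w * a * w⁻¹) = (w * a * w⁻¹) * a := by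
    intro w hw
    refine hcomm a ha _ ?_
    rw [hA]
    refine ⟨hP12 (mul_mem (mul_mem (hP hw) ha1) (inv_mem (hP hw))), ?_⟩
    rw [orderOf_conj']; exact haodd
  have hi : (a : ℍ[F]) * (qi * (a : ℍ[F]) * star qi) = (qi * (a : ℍ[F]) * star qi) * (a : ℍ[F]) := by
    have h1 := congrArg Subtype.val (hconj uI uI_mem)
    simp only [Submonoid.coe_mul, PronQ.coe_inv, coe_uI] at h1
    exact h1
  have hj : (a : ℍ[F]) * (qj * (a : ℍ[F]) * star qj) = (qj * (a : ℍ[F]) * star qj) * (a : ℍ[F]) := by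
    have h1 := congrArg Subtype.val (hconj uJ uJ_mem)
    simp only [Submonoid.coe_mul, PronQ.coe_inv, coe_uJ] at h1
    exact h1
  obtain ⟨e1, e2, e3⟩ := comm_conj h2 hi hj
  have hga : g * a * g⁻¹ ∈ A := by
    rw [hA]
    refine ⟨hgP a ha1, ?_⟩
    rw [orderOf_conj']; exact haodd
  have hgc : (((g * a * g⁻¹ : U F) : ℍ[F])) * (a : ℍ[F]) = (a : ℍ[F]) * ((g * a * g⁻¹ : U F) : ℍ[F]) :=
    congrArg Subtype.val (hcomm _ hga a ha)
  have hzero : (a : ℍ[F]).imI = 0 ∧ (a : ℍ[F]).imJ = 0 ∧ (a : ℍ[F]).imK = 0 := by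
    rcases hg with rfl | rfl
    · have h1 : ((om h2 * a * (om h2)⁻¹ : U F) : ℍ[F]) = omQ F * a * star (omQ F) := by
        rw [Submonoid.coe_mul, Submonoid.coe_mul, PronQ.coe_inv]; rfl
      rw [h1, om_conj h2] at hgc
      obtain ⟨f1, f2, f3⟩ := cross_of_comm h2 hgc
      simp only [mkQ_imI, mkQ_imJ, mkQ_imK] at f1 f2 f3
      refine ⟨mul_self_eq_zero.1 ?_, mul_self_eq_zero.1 ?_, mul_self_eq_zero.1 ?_⟩
      · linear_combination e3 - f2
      · linear_combination e2 + f1
      · linear_combination e1 + f3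
    · have h1 : (((om h2)⁻¹ * a * (om h2)⁻¹⁻¹ : U F) : ℍ[F]) = star (omQ F) * a * omQ F := by
        rw [inv_inv, Submonoid.coe_mul, Submonoid.coe_mul, PronQ.coe_inv]; rfl
      rw [h1, om_conj' h2] at hgc
      obtain ⟨f1, f2, f3⟩ := cross_of_comm h2 hgc
      simp only [mkQ_imI, mkQ_imJ, mkQ_imK] at f1 f2 f3
      refine ⟨mul_self_eq_zero.1 ?_, mul_self_eq_zero.1 ?_, mul_self_eq_zero.1 ?_⟩
      · linear_combination e3 - f1
      · linear_combination e2 - f3
      · linear_combination e1 + f2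
  have ha11 : a = 1 := by
    by_contra hne
    apply hs a ha hne
    rw [hzero.1, hzero.2.1, hzero.2.2]; ring
  rw [ha11, one_mul]
  exact hv

end Cfsg.Agent.H158.PronP
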