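import Cfsg.Agent.H158.PronK
import Cfsg.Agent.H158.PronP

/-!
# There are no transvections (helper158)
-/

set_option autoImplicit false
set_option linter.unusedSectionVars false

namespace Cfsg.Agent.H158.PronT

open Quaternion Matrix Equiv
open Cfsg.Agent.H158.PronQ Cfsg.Agent.H158.PronMat Cfsg.Agent.H158.PronMono
open Cfsg.Agent.H158.PronFrame Cfsg.Agent.H158.PronAvg Cfsg.Agent.H158.PronP
open Cfsg.Agent.H158.PronK

variable {F : Type*} [Field F] {n : Type*} [Fintype n] [DecidableEq n]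

theorem R_mulVec (x : n → ℍ[F]) (hx : ip x x = 1) (h : U F) (v : n → ℍ[F]) :
    (R x hx h).1 *ᵥ v = fun a => v a + x a * (((h : ℍ[F]) - 1) * ip x v) := by
  rw [coe_R, Matrix.add_mulVec, Matrix.one_mulVec, tv_mulVec]
  rfl

theorem ip_neg_right (x y : n → ℍ[F]) : ip x (fun a => -y a) = -ip x y := by
  unfold ip
  rw [← Finset.sum_neg_distrib]
  refine Finset.sum_congr rfl fun a _ => ?_
  rw [mul_neg]

/-- `ip x (x + e_j c)`-type formula: changing the `j`-th coordinate. -/
theorem ip_change (x y : n → ℍ[F]) (j : n) (c : ℍ[F]) :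
    ip x (fun a => if a = j then c else y a) = ip x y + star (x j) * (c - y j) := by
  have h1 : (fun a => if a = j then c else y a) = y + fun a => (e j : n → ℍ[F]) a * (c - y j) := by
    funext a
    rw [Pi.add_apply, e_mul_apply]
    split_ifs with h
    · rw [h]; abel
    · rw [add_zero]
  rw [h1, ip_add_right, ip_smul_right]
  congr 2
  rw [← star_ip, ip_e]

section

variable {q : ℍ[F]}

theorem re_conj_q (x : ℍ[F]) : (x * q * star x).re = normSq x * q.re := by
  rw [normSq_def']; simp; ring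

theorem pure_star (h0 : q.re = 0) : star q = -q := by apply Quaternion.ext <;> simp [h0]

theorem null_sq (h0 : q.re = 0) (hN : normSq q = 0) : q * q = 0 := by
  have := Quaternion.self_mul_star (a := q)
  rw [pure_star h0, hN] at this
  have h1 : q * q = -(q * -q) := by noncomm_ring
  rw [h1, this]; simp

end

@[simp] theorem two_re : (2 : ℍ[F]).re = 2 := rfl
@[simp] theorem two_imI : (2 : ℍ[F]).imI = 0 := rfl
@[simp] theorem two_imJ : (2 : ℍ[F]).imJ = 0 := rfl
@[simp] theorem two_imK : (2 : ℍ[F]).imK = 0 := rfl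

theorem normSq_one_add {q : ℍ[F]} (h0 : q.re = 0) (hN : normSq q = 0) :
    normSq ((1 : ℍ[F]) + q) = 1 := by
  rw [normSq_def'] at hN ⊢
  rw [h0] at hN
  simp only [Quaternion.re_add, Quaternion.imI_add, Quaternion.imJ_add, Quaternion.imK_add,
    h0, Quaternion.re_one, Quaternion.imI_one, Quaternion.imJ_one, Quaternion.imK_one]
  linear_combination hN

/-- The action of `t (z_j t z_j)` on `e j`, for a transvection `t`. -/
theorem ye_eq {x : n → ℍ[F]} (hx : ip x x = 1) {h : U F} (hmm : ((h : ℍ[F]) - 1) * ((h : ℍ[F]) - 1) = 0)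
    (j : n) : (R x hx h * (Rj j nu * R x hx h * (Rj j nu)⁻¹)).1 *ᵥ e j =
      fun a => (e j : n → ℍ[F]) a * (1 + 2 * (x j * ((h : ℍ[F]) - 1) * star (x j))) := by
  generalize hm : (h : ℍ[F]) - 1 = m at *
  have hipxe : ip x (e j) = star (x j) := by rw [← star_ip, ip_e]
  have hzinv : (Rj j nu : GU n F)⁻¹ = Rj j nu := by
    rw [inv_eq_iff_mul_eq_one, ← map_mul, nu_sq, map_one]
  have e1 : (R x hx h * (Rj j nu * R x hx h * (Rj j nu)⁻¹)).1 *ᵥ e j =
      (R x hx h).1 *ᵥ ((Rj j nu).1 *ᵥ ((R x hx h).1 *ᵥ ((Rj j nu).1 *ᵥ e j))) := by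
    rw [hzinv]
    have c1 : (R x hx h * (Rj j nu * R x hx h * Rj j nu)).1 =
        (R x hx h).1 * ((Rj j nu).1 * (R x hx h).1 * (Rj j nu).1) := rfl
    rw [c1, Matrix.mulVec_mulVec, Matrix.mulVec_mulVec, Matrix.mulVec_mulVec]
    simp only [Matrix.mul_assoc]
  have e2 : (Rj j nu).1 *ᵥ (e j : n → ℍ[F]) = fun a => -(e j : n → ℍ[F]) a := by
    rw [Rj_mulVec]
    funext a
    split_ifs with ha
    · rw [coe_nu, neg_one_mul]
    · rw [e, Pi.single_eq_of_ne ha, neg_zero]
  have e3 : (R x hx h).1 *ᵥ (fun a => -(e j : n → ℍ[F]) a) =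
      fun a => -(e j : n → ℍ[F]) a - x a * (m * star (x j)) := by
    rw [R_mulVec, ip_neg_right, hipxe, hm]
    funext a
    noncomm_ring
  have e4 : (Rj j nu).1 *ᵥ (fun a => -(e j : n → ℍ[F]) a - x a * (m * star (x j))) =
      fun a => (e j : n → ℍ[F]) a - (if a = j then -x a else x a) * (m * star (x j)) := by
    rw [Rj_mulVec]
    funext a
    split_ifs with ha
    · rw [coe_nu]; noncomm_ring
    · rw [e, Pi.single_eq_of_ne ha]; noncomm_ring
  have e5 : ip x (fun a => (e j : n → ℍ[F]) a - (if a = j then -x a else x a) * (m * star (x j)))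
      = star (x j) - (1 - 2 * (star (x j) * x j)) * (m * star (x j)) := by
    have e6 : (fun a => (e j : n → ℍ[F]) a - (if a = j then -x a else x a) * (m * star (x j))) =
        e j - fun a => (fun a => if a = j then -x j else x a) a * (m * star (x j)) := by
      funext a
      rw [Pi.sub_apply]
      congr 2
      by_cases ha : a = j
      · simp [ha]
      · simp [ha]
    rw [e6, ip_sub_right, ip_smul_right, hipxe, ip_change, hx]
    congr 2
    noncomm_ring
  have e7 : star (x j) * x j = ((normSq (x j) : F) : ℍ[F]) := Quaternion.star_mul_self _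
  have e8 : m * (star (x j) - (1 - 2 * (star (x j) * x j)) * (m * star (x j))) = m * star (x j) := by
    rw [e7]
    have e9 : m * ((normSq (x j) : F) : ℍ[F]) * m = 0 := by
      rw [Quaternion.mul_coe_eq_smul, smul_mul_assoc, hmm, smul_zero]
    have e10 : m * (star (x j) - (1 - 2 * ((normSq (x j) : F) : ℍ[F])) * (m * star (x j))) =
        m * star (x j) - (m * m) * star (x j) + 2 * ((m * ((normSq (x j) : F) : ℍ[F]) * m) * star (x j)) := by
      noncomm_ring
    rw [e10, e9, hmm]; noncomm_ring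
  rw [e1, e2, e3, e4, R_mulVec, e5, hm, e8]
  funext a
  rw [mul_add, mul_one]
  by_cases ha : a = j
  · subst ha
    rw [if_pos rfl, e, Pi.single_eq_same]; noncomm_ring
  · rw [if_neg ha, e, Pi.single_eq_of_ne ha]; noncomm_ring

section Main

variable [Finite F] (h2 : (2 : F) ≠ 0) (hns : ¬ IsSquare (2 : F)) (T : Sylow 2 (Perm n))
  (hT : ∀ a b : n, ∃ τ ∈ (T : Subgroup (Perm n)), τ a = b) {K : Subgroup (GU n F)}
  (hSK : SG (Q8 F) (T : Subgroup (Perm n)) ≤ K) (hom : sc (om h2) ∉ K)

include h2 hns hT hSK hom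

theorem om_notMem_comap (j : n) : om h2 ∉ K.comap (Rj j) := by
  intro h
  exact hom (avg_single h2 T.isPGroup' hT (fun τ hτ => hSK (PM_mem _ hτ)) h)

/-- `K` contains no transvection. -/
theorem no_transvection {x : n → ℍ[F]} (hx : ip x x = 1) {h : U F}
    (hN : normSq ((h : ℍ[F]) - 1) = 0) (h1 : h ≠ 1) : R x hx h ∉ K := by
  intro htK
  set m : ℍ[F] := (h : ℍ[F]) - 1 with hm
  have hm0 : m.re = 0 := by
    rw [hm]
    have := re_eq_one h2 hN
    simp [this]
  have hmm : m * m = 0 := null_sq hm0 hN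
  have hms : star m = -m := pure_star hm0
  -- a coordinate
  obtain ⟨j, hj⟩ : ∃ j, x j * m ≠ 0 := by
    by_contra hcon
    push Not at hcon
    apply h1
    apply Subtype.ext
    have h3 : m = 0 := by
      have h4 : ip x x * m = 0 := by
        unfold ip
        rw [Finset.sum_mul]
        refine Finset.sum_eq_zero fun a _ => ?_
        rw [mul_assoc, hcon a, mul_zero]
      rwa [hx, one_mul] at h4
    exact sub_eq_zero.1 h3
  set nj : ℍ[F] := x j * m * star (x j) with hnj
  have hnj0 : nj ≠ 0 := fun h0 => hj (mul_eq_zero_of_conj h2 hm0 hN h0)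
  have hnjre : nj.re = 0 := by rw [hnj, re_conj_q, hm0, mul_zero]
  have hnjN : normSq nj = 0 := by rw [hnj, map_mul, map_mul, hN, mul_zero, zero_mul]
  have hipxe : ip x (e j) = star (x j) := by rw [← star_ip, ip_e]
  -- the element `y`
  have hzK : Rj j nu ∈ K := hSK (Rj_mem _ j (Or.inr (Or.inl rfl)))
  set y : GU n F := R x hx h * (Rj j nu * R x hx h * (Rj j nu)⁻¹) with hy
  have hyK : y ∈ K := mul_mem htK (mul_mem (mul_mem hzK htK) (inv_mem hzK))
  have hnorm1 : normSq ((1 : ℍ[F]) + 2 * nj) = 1 := by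
    apply normSq_one_add
    · simp [hnjre]
    · rw [map_mul, hnjN, mul_zero]
  set hj' : U F := ⟨1 + 2 * nj, mem_U.2 hnorm1⟩ with hhj
  have hye : y.1 *ᵥ e j = fun a => (e j : n → ℍ[F]) a * (hj' : ℍ[F]) := by
    rw [hy, ye_eq hx hmm j]
  -- `hj'` normalizes `P`
  have hconj : ∀ a : U F, y * Rj j a * y⁻¹ = Rj j (hj' * a * hj'⁻¹) := by
    intro a
    rw [Rj, R_conj y (e j) (ip_e_e j) (by rw [ip_act, ip_e_e])]
    rw [R_congr hye _ (ip_smul_unit (ip_e_e _) hj')]
    rw [R_smul (e j) (ip_e_e _) hj' (ip_smul_unit (ip_e_e _) hj')]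
  have hP : Q8 F ≤ K.comap (Rj j) := fun w hw => hSK (Rj_mem _ j hw)
  have homP := om_notMem_comap h2 hns T hT hSK hom j
  have hj1 : hj' ≠ 1 := by
    intro h0
    have h3 : (1 : ℍ[F]) + 2 * nj = 1 := congrArg Subtype.val h0
    exact hnj0 (two_ne h2 (by simpa using h3))
  have hjN : normSq ((hj' : ℍ[F]) - 1) = 0 := by
    show normSq ((1 : ℍ[F]) + 2 * nj - 1) = 0
    rw [add_sub_cancel_left, map_mul, hnjN, mul_zero]
  obtain ⟨hPQ, h30, -, f1, f3, f4⟩ := unipotent_case h2 hns hP homP hjN hj1 (by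
    intro a ha
    show Rj j (hj' * a * hj'⁻¹) ∈ K
    rw [← hconj]
    exact mul_mem (mul_mem hyK ha) (inv_mem hyK))
  have g1 : (hj' : ℍ[F]).imI = 2 * nj.imI := by
    show ((1 : ℍ[F]) + 2 * nj).imI = _
    simp
  rw [g1] at f1
  -- the second transvection
  have hvK : Rj j uI ∈ K := hP uI_mem
  set x' : n → ℍ[F] := (Rj j uI).1 *ᵥ x with hx'
  have hx'1 : ip x' x' = 1 := by rw [hx', ip_act, hx]
  have ht'K : ∀ v : U F, R x hx v ∈ K → R x' hx'1 v ∈ K := by
    intro v hv
    have h3 : Rj j uI * R x hx v * (Rj j uI)⁻¹ = R x' hx'1 v := R_conj _ x hx hx'1 v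
    rw [← h3]
    exact mul_mem (mul_mem hvK hv) (inv_mem hvK)
  have hx'a : x' = fun a => if a = j then qi * x j else x a := by
    rw [hx', Rj_mulVec]
    funext a
    split_ifs with ha
    · rw [ha]; rfl
    · rfl
  have hipx : (2 * (ip x' x * m).re) = 2 * nj.imI := by
    rw [← star_ip, hx'a, ip_change, hx]
    have h3 : star ((1 : ℍ[F]) + star (x j) * (qi * x j - x j)) * m =
        m + star (qi * x j - x j) * (x j * m) := by
      rw [star_add, star_mul, star_star, star_one]; noncomm_ring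
    rw [h3]
    have h4 : (star (qi * x j - x j) * (x j * m)).re = ((x j * m) * star (qi * x j - x j)).re := by
      simp; ring
    have h5 : (x j * m) * star (qi * x j - x j) = nj * (star qi - 1) := by
      rw [star_sub, star_mul, hnj]; noncomm_ring
    rw [Quaternion.re_add, h4, h5, hm0]
    simp [hnjre]
  -- choose the sign
  have hsign : ∃ ε : F, (ε = 1 ∨ ε = -1) ∧ ε * (2 * nj.imI) = -1 := by
    rcases mul_self_eq_one_iff.1 f1 with h3 | h3
    · exact ⟨-1, Or.inr rfl, by rw [h3]; ring⟩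
    · exact ⟨1, Or.inl rfl, by rw [h3]; ring⟩
  obtain ⟨ε, hε, hε2⟩ := hsign
  obtain ⟨v, hvmem, hv⟩ : ∃ v : U F, R x' hx'1 v ∈ K ∧ (v : ℍ[F]) = 1 + ε • m := by
    rcases hε with rfl | rfl
    · exact ⟨h, ht'K h htK, by rw [one_smul, hm]; abel⟩
    · refine ⟨h⁻¹, ?_, ?_⟩
      · rw [map_inv]; exact inv_mem (ht'K h htK)
      · rw [PronQ.coe_inv]
        have h3 : (h : ℍ[F]) = 1 + m := by rw [hm]; abel
        rw [h3, star_add, star_one, hms, neg_smul, one_smul]
  set x'' : n → ℍ[F] := (R x' hx'1 v).1 *ᵥ x with hx''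
  have hx''1 : ip x'' x'' = 1 := by rw [hx'', ip_act, hx]
  have ht'' : R x'' hx''1 h ∈ K := by
    have h3 := mul_mem (mul_mem hvmem htK) (inv_mem hvmem)
    rwa [R_conj (R x' hx'1 v) x hx hx''1 h] at h3
  have hx''m : ∀ a, x'' a * m = (if a = j then (1 - qi) * x j else 0) * m := by
    intro a
    have h3 : x'' a = x a + x' a * (ε • m * ip x' x) := by
      rw [hx'', R_mulVec, hv, add_sub_cancel_left]
    have h4 : m * ip x' x * m = (2 * nj.imI) • m := by
      rw [sandwich, hN, zero_smul, sub_zero, hipx]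
    have h5 : x'' a * m = x a * m - x' a * m := by
      rw [h3, add_mul]
      have h6 : x' a * (ε • m * ip x' x) * m = x' a * (ε • (m * ip x' x * m)) := by
        rw [smul_mul_assoc, mul_assoc, smul_mul_assoc]
      rw [h6, h4, smul_smul, hε2, neg_smul, one_smul]; noncomm_ring
    rw [h5, hx'a]
    by_cases ha : a = j
    · subst ha
      simp only [if_true]
      noncomm_ring
    · simp only [if_neg ha]
      noncomm_ring
  set d : ℍ[F] := (1 - qi) * nj * (1 + qi) with hd
  have hdre : d.re = 0 := by rw [hd]; simp [hnjre]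
  have hdN : normSq d = 0 := by rw [hd, map_mul, map_mul, hnjN, mul_zero, zero_mul]
  have hd1 : normSq ((1 : ℍ[F]) + d) = 1 := normSq_one_add hdre hdN
  set a₀ : U F := ⟨1 + d, mem_U.2 hd1⟩ with ha₀
  have hRj : R x'' hx''1 h = Rj j a₀ := by
    apply Subtype.ext
    rw [coe_R, Rj, coe_R]
    congr 1
    ext1 b c
    rw [tv_apply, tv_apply, ← hm, hx''m b, e_mul_apply]
    have h3 : ∀ c, m * star (x'' c) = m * star (if c = j then (1 - qi) * x j else 0) := by
      intro c
      have h4 := congrArg star (hx''m c)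
      rw [star_mul, star_mul, hms, neg_mul, neg_mul, neg_inj] at h4
      exact h4
    rw [mul_assoc, h3 c, ha₀]
    show _ = (if b = j then (1 + d) - 1 else 0) * _
    rw [add_sub_cancel_left]
    by_cases hb : b = j
    · rw [if_pos hb, if_pos hb]
      by_cases hc : c = j
      · subst hc
        rw [if_pos rfl, e, Pi.single_eq_same, star_one, mul_one, hd, hnj, star_mul, star_sub,
          star_one, star_qi]
        noncomm_ring
      · rw [if_neg hc, e, Pi.single_eq_of_ne hc, star_zero]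
        simp
    · rw [if_neg hb, if_neg hb, zero_mul, zero_mul]
  rw [hRj] at ht''
  have hQ : IsQ8 ((1 : ℍ[F]) + d) := hPQ ht''
  have key : ∀ q : ℍ[F], IsQ8 q → q.re * q.imI = 0 := by
    rintro q (h | h | h | h | h | h | h | h) <;> subst h <;> simp
  have h3 := key _ hQ
  have h4 : d.imI = 2 * nj.imI := by rw [hd]; simp; ring
  simp only [Quaternion.re_add, Quaternion.imI_add, hdre, Quaternion.re_one, Quaternion.imI_one,
    h4] at h3
  rw [add_zero, one_mul, zero_add] at h3
  rw [h3] at f1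
  simp at f1

end Main

end Cfsg.Agent.H158.PronT
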