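import Cfsg.Agent.S0215
import Cfsg.Agent.Classification.QDW.FuCop
import Cfsg.Agent.H158.PronT

/-!
# The four-dimensional case (helper158)
-/

set_option autoImplicit false
set_option linter.unusedSectionVars false

namespace Cfsg.Agent.H158.PronG

open Quaternion Matrix Equiv
open Cfsg.Agent.H158.PronQ Cfsg.Agent.H158.PronMat Cfsg.Agent.H158.PronMono
open Cfsg.Agent.H158.PronFrame Cfsg.Agent.H158.PronTwo Cfsg.Agent.H158.PronOdd

variable {F : Type*} [Field F]

/-- the involution `diag(-1, 1)` -/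
abbrev z : GU (Fin 2) F := Rj 0 nu

theorem z_sq : (z : GU (Fin 2) F) * z = 1 := by rw [z, ← map_mul, nu_sq, map_one]

theorem z_inv : (z : GU (Fin 2) F)⁻¹ = z := inv_eq_of_mul_eq_one_left z_sq

theorem Rj0_conj (w : U F) (t : GU (Fin 2) F) :
    (Rj 0 w * t * (Rj 0 w)⁻¹).1 =
      !![(w : ℍ[F]) * t.1 0 0 * star (w : ℍ[F]), (w : ℍ[F]) * t.1 0 1;
        t.1 1 0 * star (w : ℍ[F]), t.1 1 1] := by
  have h1 : (Rj 0 w * t * (Rj 0 w)⁻¹).1 = (Rj 0 w).1 * t.1 * (Rj 0 w⁻¹).1 := by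
    rw [map_inv]; rfl
  have h3 : t.1 = !![t.1 0 0, t.1 0 1; t.1 1 0, t.1 1 1] := Matrix.eta_fin_two _
  rw [h1, Rj0_mat, Rj0_mat, PronQ.coe_inv]
  conv_lhs => rw [h3]
  rw [Matrix.mul_fin_two, Matrix.mul_fin_two]
  apply mat_ext <;> simp

theorem inv_mat (t : GU (Fin 2) F) :
    (t⁻¹).1 = !![star (t.1 0 0), star (t.1 1 0); star (t.1 0 1), star (t.1 1 1)] := by
  rw [coe_inv_GU]
  ext1 a b
  rw [Matrix.conjTranspose_apply]
  fin_cases a <;> fin_cases b <;> simp

/-- An element inverted by `z` and commuting with its conjugates under `Q8` is an involution. -/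
theorem inv_eq_self (h2 : (2 : F) ≠ 0) {t : GU (Fin 2) F} (hz : z * t * z⁻¹ = t⁻¹)
    (hc : ∀ w ∈ Q8 F, t * (Rj 0 w * t * (Rj 0 w)⁻¹) = (Rj 0 w * t * (Rj 0 w)⁻¹) * t) : t⁻¹ = t := by
  -- entries of `t`
  have hz1 := congrArg Subtype.val hz
  rw [z, Rj0_conj, inv_mat, coe_nu, star_neg, star_one] at hz1
  have a00 : star (t.1 0 0) = t.1 0 0 := by
    have := congrFun (congrFun hz1 0) 0
    simpa using this.symm
  have a01 : -t.1 0 1 = star (t.1 1 0) := by
    have := congrFun (congrFun hz1 0) 1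
    simpa using this
  have a11 : star (t.1 1 1) = t.1 1 1 := by
    have := congrFun (congrFun hz1 1) 1
    simpa using this.symm
  have a10 : t.1 1 0 = -star (t.1 0 1) := by
    have := congrArg star a01
    rw [star_star, star_neg] at this
    exact this.symm
  set β := t.1 0 1 with hβ
  have htm : t.1 = !![t.1 0 0, β; -star β, t.1 1 1] := by
    rw [← a10]; exact Matrix.eta_fin_two _
  have htim : (t⁻¹).1 = !![t.1 0 0, -β; star β, t.1 1 1] := by
    rw [inv_mat, a00, a11, a10, star_neg, star_star]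
  -- `T = t - t⁻¹`
  have hT : t.1 - (t⁻¹).1 = !![0, 2 * β; -(2 * star β), 0] := by
    rw [htim]
    conv_lhs => rw [htm]
    ext1 a b
    rw [Matrix.sub_apply]
    fin_cases a <;> fin_cases b
    · simp
    · simp; noncomm_ring
    · simp; noncomm_ring
    · simp
  have key : ∀ w ∈ Q8 F, (w : ℍ[F]) * (w : ℍ[F]) = -1 →
      normSq β = 0 ∧ star β * (w : ℍ[F]) * β = 0 := by
    intro w hw hww
    set s := Rj 0 w * t * (Rj 0 w)⁻¹ with hs
    have hst : Commute t s := hc w hw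
    have hsi : s⁻¹ = Rj 0 w * t⁻¹ * (Rj 0 w)⁻¹ := by rw [hs]; group
    have hsw : star (w : ℍ[F]) = -(w : ℍ[F]) := by
      have h3 : star (w : ℍ[F]) * w = 1 := Unitary.coe_star_mul_self w
      calc star (w : ℍ[F]) = -(star (w : ℍ[F]) * (w * w)) := by rw [hww]; noncomm_ring
        _ = -(w : ℍ[F]) := by rw [← mul_assoc, h3, one_mul]
    have hS : s.1 - (s⁻¹).1 = !![0, (w : ℍ[F]) * (2 * β); 2 * star β * (w : ℍ[F]), 0] := by
      rw [hsi, hs, Rj0_conj, Rj0_conj, htim, hsw]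
      conv_lhs => rw [htm]
      ext1 a b
      rw [Matrix.sub_apply]
      fin_cases a <;> fin_cases b
      · simp
      · simp; noncomm_ring
      · simp; noncomm_ring
      · simp
    have hcomm : (t.1 - (t⁻¹).1) * (s.1 - (s⁻¹).1) = (s.1 - (s⁻¹).1) * (t.1 - (t⁻¹).1) := by
      have c1 : t.1 * s.1 = s.1 * t.1 := congrArg Subtype.val hst.eq
      have c2 : (t⁻¹).1 * s.1 = s.1 * (t⁻¹).1 := congrArg Subtype.val hst.inv_left.eq
      have c3 : t.1 * (s⁻¹).1 = (s⁻¹).1 * t.1 := congrArg Subtype.val hst.inv_right.eq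
      have c4 : (t⁻¹).1 * (s⁻¹).1 = (s⁻¹).1 * (t⁻¹).1 :=
        congrArg Subtype.val hst.inv_left.inv_right.eq
      rw [mul_sub, sub_mul, sub_mul, mul_sub, sub_mul, sub_mul, c1, c2, c3, c4]
      abel
    rw [hT, hS, Matrix.mul_fin_two, Matrix.mul_fin_two] at hcomm
    have e0 := congrFun (congrFun hcomm 0) 0
    have e1 := congrFun (congrFun hcomm 1) 1
    simp only [Matrix.of_apply, Matrix.cons_val', Matrix.cons_val_zero, Matrix.cons_val_one,
      Matrix.cons_val_fin_one, zero_mul, mul_zero, zero_add, add_zero] at e0 e1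
    constructor
    · -- `4 N(β) w = -4 N(β) w`
      have hN : β * star β = ((normSq β : F) : ℍ[F]) := Quaternion.self_mul_star _
      have e3 : 2 * (2 * (2 * (((normSq β : F) : ℍ[F]) * w))) = 0 := by
        have e4 : 2 * β * (2 * star β * (w : ℍ[F])) = 2 * (2 * (β * star β * w)) := by
          noncomm_ring
        have e5 : (w : ℍ[F]) * (2 * β) * -(2 * star β) = -(2 * (2 * (w * (β * star β)))) := by
          noncomm_ring
        rw [e4, e5, hN, ← Quaternion.coe_commutes] at e0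
        have e6 : 2 * (2 * (2 * (((normSq β : F) : ℍ[F]) * w))) =
            2 * (2 * (((normSq β : F) : ℍ[F]) * w)) + 2 * (2 * (((normSq β : F) : ℍ[F]) * w)) := by
          noncomm_ring
        rw [e6]
        nth_rw 1 [e0]
        abel
      have e4 := two_ne h2 (two_ne h2 (two_ne h2 e3))
      rw [Quaternion.coe_mul_eq_smul] at e4
      rcases smul_eq_zero.1 e4 with h | h
      · exact h
      · exact absurd h (U_ne_zero w)
    · have e3 : 2 * (2 * (2 * (star β * w * β))) = 0 := by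
        have e4 : -(2 * star β) * ((w : ℍ[F]) * (2 * β)) = -(2 * (2 * (star β * w * β))) := by
          noncomm_ring
        have e5 : 2 * star β * (w : ℍ[F]) * (2 * β) = 2 * (2 * (star β * w * β)) := by
          noncomm_ring
        rw [e4, e5] at e1
        have e6 : 2 * (2 * (2 * (star β * w * β))) =
            2 * (2 * (star β * w * β)) + 2 * (2 * (star β * w * β)) := by
          noncomm_ring
        rw [e6]
        nth_rw 1 [← e1]
        abel
      exact two_ne h2 (two_ne h2 (two_ne h2 e3))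
  obtain ⟨k0, ki⟩ := key uI uI_mem qi_mul_qi
  obtain ⟨-, kj⟩ := key uJ uJ_mem qj_mul_qj
  obtain ⟨-, kk⟩ := key uK uK_mem qk_mul_qk
  have hβ0 : β = 0 := by
    apply eq_zero_of_sandwich h2 _ ki kj kk
    rw [Quaternion.star_mul_self, k0]; rfl
  apply Subtype.ext
  rw [htim, hβ0]
  conv_rhs => rw [htm, hβ0]
  simp

theorem eq_one_of_sq {G : Type*} [Group G] {r : ℕ} (hr : r.Prime) (hr2 : r ≠ 2) {k : ℕ} {x : G}
    (hx : x ^ r ^ k = 1) (hxx : x * x = 1) : x = 1 := by
  have hodd : Odd (r ^ k) := (hr.odd_of_ne_two hr2).pow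
  obtain ⟨l, hl⟩ := hodd
  rw [hl, pow_succ, pow_mul, pow_two, hxx, one_pow, one_mul] at hx
  exact hx

/-- A `Q8`-invariant `r`-group which is not centralized by `z` contains a transvection. -/
theorem X_case [Finite F] (h2 : (2 : F) ≠ 0) {r : ℕ} [Fact r.Prime] (hr : r ≠ 2)
    {X : Subgroup (GU (Fin 2) F)} (hX : IsPGroup r X)
    (hinv : ∀ w ∈ Q8 F, ∀ x ∈ X, Rj 0 w * x * (Rj 0 w)⁻¹ ∈ X) (hz : ∃ x ∈ X, z * x ≠ x * z) :
    ∃ (i : Fin 2) (h : U F), h ≠ 1 ∧ normSq ((h : ℍ[F]) - 1) = 0 ∧ Rj i h ∈ X := by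
  have hr' : r.Prime := Fact.out
  have hsq : ∀ x ∈ X, x * x = 1 → x = 1 := by
    intro x hx hxx
    obtain ⟨k, hk⟩ := hX ⟨x, hx⟩
    exact eq_one_of_sq hr' hr (congrArg Subtype.val hk) hxx
  obtain ⟨x₀, hx₀, hzx₀⟩ := hz
  have hnt : Nontrivial X := by
    refine ⟨⟨x₀, hx₀⟩, 1, fun h => hzx₀ ?_⟩
    have : x₀ = 1 := congrArg Subtype.val h
    rw [this, one_mul, mul_one]
  have hct := hX.center_nontrivial
  obtain ⟨⟨⟨b, hbX⟩, hbc⟩, hb1⟩ := exists_ne (1 : Subgroup.center X)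
  have hb1' : b ≠ 1 := fun h => hb1 (Subtype.ext (Subtype.ext h))
  have hbcomm : ∀ x ∈ X, b * x = x * b := fun x hx =>
    (congrArg Subtype.val (Subgroup.mem_center_iff.1 hbc ⟨x, hx⟩)).symm
  -- conjugates of central elements are central
  have hcen : ∀ c ∈ X, (∀ x ∈ X, c * x = x * c) → ∀ w ∈ Q8 F, Rj 0 w * c * (Rj 0 w)⁻¹ ∈ X ∧
      ∀ x ∈ X, (Rj 0 w * c * (Rj 0 w)⁻¹) * x = x * (Rj 0 w * c * (Rj 0 w)⁻¹) := by
    intro c hc hcc w hw
    refine ⟨hinv w hw c hc, fun x hx => ?_⟩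
    have h1 : (Rj 0 w)⁻¹ * x * Rj 0 w ∈ X := by
      have := hinv w⁻¹ (inv_mem hw) x hx
      rwa [map_inv, inv_inv] at this
    have h3 := hcc _ h1
    calc (Rj 0 w * c * (Rj 0 w)⁻¹) * x = Rj 0 w * (c * ((Rj 0 w)⁻¹ * x * Rj 0 w)) * (Rj 0 w)⁻¹ := by
          group
      _ = Rj 0 w * (((Rj 0 w)⁻¹ * x * Rj 0 w) * c) * (Rj 0 w)⁻¹ := by rw [h3]
      _ = x * (Rj 0 w * c * (Rj 0 w)⁻¹) := by group
  have hnu : (nu : U F) ∈ Q8 F := Or.inr (Or.inl rfl)
  -- `z` commutes with `b`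
  have hzb : z * b = b * z := by
    obtain ⟨k1, k2⟩ := hcen b hbX hbcomm nu hnu
    set t : GU (Fin 2) F := b⁻¹ * (z * b * z⁻¹) with ht
    have htX : t ∈ X := mul_mem (inv_mem hbX) k1
    have htc : ∀ x ∈ X, t * x = x * t := by
      intro x hx
      have e1 : b⁻¹ * x = x * b⁻¹ := by
        have := hbcomm x hx
        rw [inv_mul_eq_iff_eq_mul, ← mul_assoc, this]; group
      rw [ht, mul_assoc, k2 x hx, ← mul_assoc, ← mul_assoc, e1]
      simp only [mul_assoc]
    have hzt : z * t * z⁻¹ = t⁻¹ := by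
      have e1 : z * t * z⁻¹ = (z * b * z⁻¹)⁻¹ * ((z * z) * b * (z * z)⁻¹) := by rw [ht]; group
      rw [e1, z_sq, inv_one, one_mul, mul_one, ht]
      group
    have hself := inv_eq_self h2 hzt (fun w hw => htc _ (hinv w hw t htX))
    have ht1 : t = 1 := by
      apply hsq t htX
      nth_rw 1 [← hself]
      group
    rw [ht, inv_mul_eq_one] at ht1
    rw [eq_mul_inv_iff_mul_eq] at ht1
    exact ht1.symm
  -- `b` is diagonal
  have hzb' : z * b * z⁻¹ = b := by rw [hzb]; group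
  have hbm := congrArg Subtype.val hzb'
  rw [z, Rj0_conj, coe_nu, star_neg, star_one] at hbm
  have b01 : b.1 0 1 = 0 := by
    have h1 := congrFun (congrFun hbm 0) 1
    have h3 : -b.1 0 1 = b.1 0 1 := by simpa using h1
    apply two_ne h2
    rw [two_mul]; nth_rw 1 [← h3]; abel
  have b10 : b.1 1 0 = 0 := by
    have h1 := congrFun (congrFun hbm 1) 0
    have h3 : -b.1 1 0 = b.1 1 0 := by simpa using h1
    apply two_ne h2
    rw [two_mul]; nth_rw 1 [← h3]; abel
  have hmono : Mono b.1 1 := by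
    intro i j hij
    fin_cases i <;> fin_cases j
    · exact absurd rfl hij
    · exact b01
    · exact b10
    · exact absurd rfl hij
  obtain ⟨b1, hb1e⟩ := hmono.entry 0
  obtain ⟨b2, hb2e⟩ := hmono.entry 1
  have hbeq : b = Rj 0 b1 * Rj 1 b2 := by
    apply Subtype.ext
    have h3 : (Rj 0 b1 * Rj 1 b2 : GU (Fin 2) F).1 = (Rj 0 b1).1 * (Rj 1 b2).1 := rfl
    rw [h3, Rj0_mat, Rj1_mat, Matrix.mul_fin_two]
    rw [Matrix.eta_fin_two b.1, b01, b10]
    apply mat_ext
    · rw [hb1e]; simp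
    · simp
    · simp
    · rw [hb2e]; simp
  have hcomm01 : ∀ u v : U F, Rj (0 : Fin 2) u * Rj 1 v = Rj 1 v * Rj 0 u := by
    intro u v
    apply Subtype.ext
    have h3 : (Rj 0 u * Rj 1 v : GU (Fin 2) F).1 = (Rj 0 u).1 * (Rj 1 v).1 := rfl
    have h4 : (Rj 1 v * Rj 0 u : GU (Fin 2) F).1 = (Rj 1 v).1 * (Rj 0 u).1 := rfl
    rw [h3, h4, Rj0_mat, Rj1_mat, Matrix.mul_fin_two, Matrix.mul_fin_two]
    apply mat_ext <;> simp
  -- a central element supported on one coordinate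
  obtain ⟨i, h, hh1, hhX, hhc⟩ : ∃ (i : Fin 2) (h : U F), h ≠ 1 ∧ Rj i h ∈ X ∧
      ∀ x ∈ X, Rj i h * x = x * Rj i h := by
    by_cases hb11 : b1 = 1
    · refine ⟨1, b2, fun h => hb1' ?_, ?_, ?_⟩
      · rw [hbeq, hb11, h, map_one, map_one, mul_one]
      · rw [hb11, map_one, one_mul] at hbeq
        rw [← hbeq]; exact hbX
      · rw [hb11, map_one, one_mul] at hbeq
        rw [← hbeq]; exact hbcomm
    · obtain ⟨w, hw, hwb⟩ : ∃ w ∈ Q8 F, w * b1 ≠ b1 * w := by
        by_contra hcon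
        push Not at hcon
        apply hb11
        have e1 := eq_coe_of_comm h2 (q := (b1 : ℍ[F])) (congrArg Subtype.val (hcon uI uI_mem)).symm
          (congrArg Subtype.val (hcon uJ uJ_mem)).symm
        have e2 := normSq_U b1
        rw [e1, Quaternion.normSq_coe] at e2
        -- `b1² = 1`
        have e3 : b1 * b1 = 1 := by
          apply Subtype.ext
          show (b1 : ℍ[F]) * (b1 : ℍ[F]) = 1
          rw [e1, ← Quaternion.coe_mul, ← pow_two, e2]; rfl
        obtain ⟨k, hk⟩ := hX ⟨b, hbX⟩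
        have hk' : b ^ r ^ k = 1 := congrArg Subtype.val hk
        have e4 : Rj 0 (b1 ^ r ^ k) * Rj 1 (b2 ^ r ^ k) = (1 : GU (Fin 2) F) := by
          rw [map_pow, map_pow, ← hk', hbeq]
          exact ((show Commute (Rj (0 : Fin 2) b1) (Rj 1 b2) from hcomm01 b1 b2).mul_pow _).symm
        have e5 : b1 ^ r ^ k = 1 := by
          have e6 := congrArg Subtype.val e4
          have h3 : (Rj 0 (b1 ^ r ^ k) * Rj 1 (b2 ^ r ^ k) : GU (Fin 2) F).1 =
            (Rj 0 (b1 ^ r ^ k)).1 * (Rj 1 (b2 ^ r ^ k)).1 := rfl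
          rw [h3, Rj0_mat, Rj1_mat, Matrix.mul_fin_two] at e6
          have e7 := congrFun (congrFun e6 0) 0
          apply Subtype.ext
          simpa using e7
        exact eq_one_of_sq hr' hr e5 e3
      obtain ⟨k1, k2⟩ := hcen b hbX hbcomm w hw
      have e1 : Rj 0 w * b * (Rj 0 w)⁻¹ * b⁻¹ = Rj 0 (w * b1 * w⁻¹ * b1⁻¹) := by
        rw [hbeq, map_mul, map_mul, map_mul, map_inv, map_inv, _root_.mul_inv_rev]
        have e3 : (Rj 1 b2) * (Rj 0 w)⁻¹ = (Rj 0 w)⁻¹ * (Rj 1 b2 : GU (Fin 2) F) := by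
          rw [← map_inv]; exact (hcomm01 w⁻¹ b2).symm
        generalize (Rj (0 : Fin 2) w) = p at *
        generalize (Rj (0 : Fin 2) b1) = q at *
        generalize (Rj (1 : Fin 2) b2) = s at *
        calc p * (q * s) * p⁻¹ * (s⁻¹ * q⁻¹)
            = p * q * (s * p⁻¹) * s⁻¹ * q⁻¹ := by
              simp only [mul_assoc]
          _ = p * q * p⁻¹ * q⁻¹ := by rw [e3]; group
      refine ⟨0, w * b1 * w⁻¹ * b1⁻¹, fun h => hwb ?_, ?_, ?_⟩
      · rw [mul_inv_eq_one, mul_inv_eq_iff_eq_mul] at h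
        exact h
      · rw [← e1]; exact mul_mem k1 (inv_mem hbX)
      · intro x hx
        have e3 : b⁻¹ * x = x * b⁻¹ := by
          have := hbcomm x hx
          rw [inv_mul_eq_iff_eq_mul, ← mul_assoc, this]; group
        rw [← e1, mul_assoc, e3, ← mul_assoc, k2 x hx]
        simp only [mul_assoc]
  refine ⟨i, h, hh1, ?_, hhX⟩
  by_contra hN
  apply hzx₀
  -- `x₀` is diagonal
  have hx := congrArg Subtype.val (hhc x₀ hx₀)
  have c1 : (Rj i h * x₀ : GU (Fin 2) F).1 = (Rj i h).1 * x₀.1 := rfl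
  have c2 : (x₀ * Rj i h : GU (Fin 2) F).1 = x₀.1 * (Rj i h).1 := rfl
  rw [c1, c2, Matrix.eta_fin_two x₀.1] at hx
  have hdiag : x₀.1 0 1 = 0 ∧ x₀.1 1 0 = 0 := by
    fin_cases i
    · have hm : (Rj (0 : Fin 2) h).1 = !![(h : ℍ[F]), 0; 0, 1] := Rj0_mat h
      simp only [Fin.zero_eta] at hx
      rw [hm, Matrix.mul_fin_two, Matrix.mul_fin_two] at hx
      have e1 := congrFun (congrFun hx 0) 1
      have e3 := congrFun (congrFun hx 1) 0
      have e1' : (h : ℍ[F]) * x₀.1 0 1 = x₀.1 0 1 := by simpa using e1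
      have e3' : x₀.1 1 0 = x₀.1 1 0 * (h : ℍ[F]) := by simpa using e3
      exact ⟨mul_eq_zero_left hN (by rw [sub_mul, e1', one_mul, sub_self]),
        mul_eq_zero_right hN (by rw [mul_sub, ← e3', mul_one, sub_self])⟩
    · have hm : (Rj (1 : Fin 2) h).1 = !![1, 0; 0, (h : ℍ[F])] := Rj1_mat h
      simp only [Fin.mk_one] at hx
      rw [hm, Matrix.mul_fin_two, Matrix.mul_fin_two] at hx
      have e1 := congrFun (congrFun hx 0) 1
      have e3 := congrFun (congrFun hx 1) 0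
      have e1' : x₀.1 0 1 = x₀.1 0 1 * (h : ℍ[F]) := by simpa using e1
      have e3' : (h : ℍ[F]) * x₀.1 1 0 = x₀.1 1 0 := by simpa using e3
      exact ⟨mul_eq_zero_right hN (by rw [mul_sub, ← e1', mul_one, sub_self]),
        mul_eq_zero_left hN (by rw [sub_mul, e3', one_mul, sub_self])⟩
  have hfin : z * x₀ * z⁻¹ = x₀ := by
    apply Subtype.ext
    rw [z, Rj0_conj, coe_nu, star_neg, star_one]
    rw [Matrix.eta_fin_two x₀.1, hdiag.1, hdiag.2]
    apply mat_ext <;> simp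
  exact mul_inv_eq_iff_eq_mul.1 hfin

/-- Two involutions whose product has order dividing 4 lie in a common 2-group. -/
theorem exists_two_group {G : Type*} [Group G] [Finite G] {L : Subgroup G} {a b : G} (haL : a ∈ L)
    (hbL : b ∈ L) (ha : a * a = 1) (hb : b * b = 1) (hab : (a * b) ^ 4 = 1) :
    ∃ Q ≤ L, IsPGroup 2 Q ∧ a ∈ Q ∧ b ∈ Q := by
  have hpz : ∀ x : G, x ^ 4 = 1 → IsPGroup 2 (Subgroup.zpowers x) := by
    intro x hx
    rintro ⟨y, hy⟩
    obtain ⟨l, rfl⟩ := Subgroup.mem_zpowers_iff.1 hy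
    refine ⟨2, Subtype.ext ?_⟩
    show (x ^ l) ^ 2 ^ 2 = 1
    rw [← zpow_natCast, ← _root_.zpow_mul, mul_comm, _root_.zpow_mul, zpow_natCast,
      show 2 ^ 2 = 4 from rfl, hx, _root_.one_zpow]
  have ha' : a⁻¹ = a := inv_eq_of_mul_eq_one_left ha
  have hb' : b⁻¹ = b := inv_eq_of_mul_eq_one_left hb
  have h1 := hpz (a * b) hab
  have h3 : IsPGroup 2 (Subgroup.zpowers a) := hpz a (by
    rw [show 4 = 2 + 2 from rfl, pow_add, pow_two, ha, one_mul])
  have h4 : Subgroup.zpowers a ≤ Subgroup.normalizer (Subgroup.zpowers (a * b) : Set G) := by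
    rw [Subgroup.zpowers_le]
    have hconj : ∀ x ∈ Subgroup.zpowers (a * b), a * x * a⁻¹ ∈ Subgroup.zpowers (a * b) := by
      intro x hx
      obtain ⟨l, rfl⟩ := Subgroup.mem_zpowers_iff.1 hx
      have h5 : a * (a * b) * a⁻¹ = (a * b)⁻¹ := by
        rw [_root_.mul_inv_rev, hb', ← mul_assoc, ha, one_mul]
      rw [← conj_zpow, h5]
      exact zpow_mem (inv_mem (Subgroup.mem_zpowers _)) l
    rw [Subgroup.mem_normalizer_iff]
    intro x
    refine ⟨fun h => hconj x h, fun h => ?_⟩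
    have h5 := hconj _ h
    have h6 : a * (a * x * a⁻¹) * a⁻¹ = x := by
      rw [ha']
      calc a * (a * x * a) * a = (a * a) * x * (a * a) := by group
        _ = x := by rw [ha, one_mul, mul_one]
    rwa [h6] at h5
  refine ⟨Subgroup.zpowers (a * b) ⊔ Subgroup.zpowers a, ?_, h1.to_sup_of_normal_left' h3 h4, ?_, ?_⟩
  · rw [sup_le_iff, Subgroup.zpowers_le, Subgroup.zpowers_le]
    exact ⟨mul_mem haL hbL, haL⟩
  · exact Subgroup.mem_sup_right (Subgroup.mem_zpowers a)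
  · have h5 : a⁻¹ * (a * b) ∈ Subgroup.zpowers (a * b) ⊔ Subgroup.zpowers a :=
      mul_mem (inv_mem (Subgroup.mem_sup_right (Subgroup.mem_zpowers a)))
        (Subgroup.mem_sup_left (Subgroup.mem_zpowers _))
    rwa [inv_mul_cancel_left] at h5

/-- Abstract form of the application of the `Z*`-theorem: `z ∈ L` is isolated modulo the central
involution `c`; `z'` is an involution of `L` which is not in a 2-group with `z`.  Then for a
2-group `W ≤ L` commuting with `z` there is an `r`-subgroup of `L`, `r` odd, normalized by `W` and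
not centralized by `z`. -/
theorem exists_X {G : Type*} [Group G] [Finite G] (L W : Subgroup G) {z c z' : G} (hzL : z ∈ L)
    (hz : z * z = 1) (hz1 : z ≠ 1) (hcc : c * c = 1) (hc : ∀ x : G, c * x = x * c) (hzc : z ≠ c)
    (hW : W ≤ L) (hW2 : IsPGroup 2 W)
    (hC : ∀ g ∈ L, ∀ Q : Subgroup G, Q ≤ L → IsPGroup 2 Q → z ∈ Q → g * z * g⁻¹ ∈ Q →
      g * z * g⁻¹ = z ∨ g * z * g⁻¹ = c * z)
    (hz'L : z' ∈ L) (hz' : z' * z' = 1)
    (hno : ∀ Q ≤ L, IsPGroup 2 Q → z ∈ Q → z' ∉ Q) :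
    ∃ r : ℕ, r.Prime ∧ r ≠ 2 ∧ ∃ X ≤ L, IsPGroup r X ∧ (∀ w ∈ W, ∀ x ∈ X, w * x * w⁻¹ ∈ X) ∧
      ∃ x ∈ X, z * x ≠ x * z := by
  -- the subgroup `{1, c}` of `L`
  obtain ⟨c', hc'c', hc'c, hc'mem, hc'⟩ : ∃ c' : L, c' * c' = 1 ∧ (∀ x : L, c' * x = x * c') ∧
      (c ∈ L → (c' : G) = c) ∧ ((c' : G) = 1 ∨ (c' : G) = c) := by
    by_cases hcL : c ∈ L
    · exact ⟨⟨c, hcL⟩, Subtype.ext hcc, fun x => Subtype.ext (hc x), fun _ => rfl, Or.inr rfl⟩
    · exact ⟨1, mul_one 1, fun x => by rw [one_mul, mul_one], fun h => absurd h hcL, Or.inl rfl⟩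
  let C : Subgroup L :=
    { carrier := {x | x = 1 ∨ x = c'}
      one_mem' := Or.inl rfl
      mul_mem' := by
        rintro a b (ha | ha) (hb | hb)
        · left; rw [ha, hb, one_mul]
        · right; rw [ha, hb, one_mul]
        · right; rw [ha, hb, mul_one]
        · left; rw [ha, hb]; exact hc'c'
      inv_mem' := by
        rintro a (ha | ha)
        · left; rw [ha, inv_one]
        · right; rw [ha]; exact inv_eq_of_mul_eq_one_left hc'c' }
  have hCmem : ∀ x, x ∈ C ↔ x = 1 ∨ x = c' := fun x => Iff.rfl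
  have hCn : C.Normal := by
    refine ⟨fun n hn g => ?_⟩
    rcases hn with hn | hn
    · left; rw [hn]; simp
    · right; rw [hn, ← hc'c g]; simp
  have hC2 : IsPGroup 2 C := by
    rintro ⟨x, hx | hx⟩
    · refine ⟨0, Subtype.ext ?_⟩
      show x ^ 2 ^ 0 = 1
      rw [hx, one_pow]
    · refine ⟨1, Subtype.ext ?_⟩
      show x ^ 2 ^ 1 = 1
      rw [hx, pow_one, pow_two, hc'c']
  let zL : L := ⟨z, hzL⟩
  have hzL2 : zL * zL = 1 := Subtype.ext hz
  have hpz : IsPGroup 2 (Subgroup.zpowers zL) := by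
    rintro ⟨y, hy⟩
    obtain ⟨l, rfl⟩ := Subgroup.mem_zpowers_iff.1 hy
    refine ⟨1, Subtype.ext ?_⟩
    show (zL ^ l) ^ 2 ^ 1 = 1
    rw [← zpow_natCast, ← _root_.zpow_mul, mul_comm, _root_.zpow_mul, zpow_natCast, pow_one,
      pow_two, hzL2, _root_.one_zpow]
  obtain ⟨P, hP⟩ := hpz.exists_le_sylow
  have hzP : zL ∈ (P : Subgroup L) := hP (Subgroup.mem_zpowers _)
  have hCP : C ≤ (P : Subgroup L) := by
    have h1 : IsPGroup 2 ((P : Subgroup L) ⊔ C : Subgroup L) :=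
      P.isPGroup'.to_sup_of_normal_right hC2
    have h3 := P.is_maximal' h1 le_sup_left
    have h4 : C ≤ (P : Subgroup L) ⊔ C := le_sup_right
    rw [h3] at h4
    exact h4
  let π : L →* L ⧸ C := QuotientGroup.mk' C
  have hπ : Function.Surjective π := QuotientGroup.mk'_surjective C
  have hker : ∀ x, π x = 1 ↔ x = 1 ∨ x = c' := fun x => (QuotientGroup.eq_one_iff x).trans (hCmem x)
  have hzne : zL ≠ c' := by
    intro h
    have h1 : z = (c' : G) := congrArg Subtype.val h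
    rcases hc' with h3 | h3
    · exact hz1 (h1.trans h3)
    · exact hzc (h1.trans h3)
  have hzne1 : zL ≠ 1 := fun h => hz1 (congrArg Subtype.val h)
  have hord : orderOf (π zL) = 2 := by
    apply orderOf_eq_prime
    · rw [← map_pow, pow_two, hzL2, map_one]
    · intro h
      rcases (hker zL).1 h with h | h
      · exact hzne1 h
      · exact hzne h
  obtain ⟨N, hNn, hNodd, hN⟩ := S0215.result (P.mapSurjective hπ) (π zL) hord ⟨zL, hzP, rfl⟩ (by
    intro g hg
    obtain ⟨g, rfl⟩ := hπ g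
    obtain ⟨p, hp, hpe⟩ := hg
    have h1 : π (p⁻¹ * (g * zL * g⁻¹)) = 1 := by
      have h3 : π p = π g * π zL * (π g)⁻¹ := hpe
      rw [map_mul, map_inv, h3, map_mul, map_mul, map_inv]; group
    have h3 : p⁻¹ * (g * zL * g⁻¹) ∈ (P : Subgroup L) := hCP ((hker _).1 h1)
    have h4 : g * zL * g⁻¹ ∈ (P : Subgroup L) := by
      have := mul_mem hp h3
      rwa [mul_inv_cancel_left] at this
    have h5 := hC g g.2 ((P : Subgroup L).map L.subtype) (by
      rintro _ ⟨x, -, rfl⟩; exact x.2) (P.isPGroup'.map _) ⟨zL, hzP, rfl⟩ ⟨_, h4, rfl⟩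
    rcases h5 with h5 | h5
    · have h6 : g * zL * g⁻¹ = zL := Subtype.ext h5
      rw [← map_mul, ← map_inv, ← map_mul, h6]
    · have hcL : c ∈ L := by
        have h6 : c = (g : G) * z * (g : G)⁻¹ * z⁻¹ := by rw [h5]; group
        rw [h6]
        exact mul_mem (mul_mem (mul_mem g.2 hzL) (inv_mem g.2)) (inv_mem hzL)
      have h6 : g * zL * g⁻¹ = c' * zL := by
        apply Subtype.ext
        show (g : G) * z * (g : G)⁻¹ = (c' : G) * z
        rw [hc'mem hcL]; exact h5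
      rw [← map_mul, ← map_inv, ← map_mul, h6, map_mul, (hker c').2 (Or.inr rfl), one_mul])
  -- the preimage of `N`
  obtain ⟨O, hO, hNO⟩ := odd_part (N.comap π) c' hc'c' hc'c (by
    rintro n hn ⟨k, hk⟩
    apply (hker n).1
    have h1 : orderOf (π n) ∣ 2 ^ k := orderOf_dvd_of_pow_eq_one (by rw [← map_pow, hk, map_one])
    have h3 : orderOf (π n) ∣ Nat.card N := by
      have := orderOf_dvd_natCard (⟨π n, hn⟩ : N)
      rwa [← Subgroup.orderOf_coe] at this
    have h4 : Nat.Coprime (2 ^ k) (Nat.card N) :=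
      Nat.Coprime.pow_left k (Nat.coprime_two_left.2 hNodd)
    exact orderOf_eq_one_iff.1 (Nat.eq_one_of_dvd_coprimes h4 h1 h3))
  have hOn : ∀ g : L, ∀ x ∈ O, g * x * g⁻¹ ∈ O := by
    intro g x hx
    obtain ⟨h1, h3⟩ := (hO x).1 hx
    rw [hO]
    refine ⟨(inferInstance : (N.comap π).Normal).conj_mem x h1 g, ?_⟩
    rw [PronP.orderOf_conj']; exact h3
  set O' : Subgroup G := O.map L.subtype with hO'
  have hO'L : O' ≤ L := by rintro _ ⟨x, -, rfl⟩; exact x.2
  have hO'n : ∀ w ∈ W, ∀ x ∈ O', w * x * w⁻¹ ∈ O' := by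
    rintro w hw _ ⟨x, hx, rfl⟩
    exact ⟨_, hOn ⟨w, hW hw⟩ x hx, rfl⟩
  have hO'2 : ¬ 2 ∣ Nat.card O' := by
    intro hd
    obtain ⟨⟨y, hy⟩, hxo⟩ := exists_prime_orderOf_dvd_card' 2 hd
    obtain ⟨x, hx, hxy⟩ := hy
    have h1 := ((hO x).1 hx).2
    have h3 : orderOf x = 2 := by
      rw [← Subgroup.orderOf_coe] at hxo
      rw [← Subgroup.orderOf_coe x, ← hxo]
      exact congrArg orderOf hxy
    rw [h3] at h1
    exact absurd h1 (by decide)
  -- suppose `z` centralizes all invariant Sylow subgroups of `O'`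
  by_contra hcon
  have hcent : ∀ x ∈ O', z * x = x * z := by
    have hidx : (Subgroup.centralizer ({z} : Set G)).relIndex O' = 1 := by
      rw [Nat.eq_one_iff_not_exists_prime_dvd]
      intro r hr hd
      have : Fact r.Prime := ⟨hr⟩
      have hr2 : r ≠ 2 := by
        rintro rfl
        apply hO'2
        exact hd.trans (Subgroup.relIndex_dvd_card _ _)
      obtain ⟨Y, hYO, hY, hYi, hYW⟩ := Cfsg.Agent.Classification.QDW.FuCop.exists_inv hW2 hO'2 hO'n r
      apply hcon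
      refine ⟨r, hr, hr2, Y, hYO.trans hO'L, hY, hYW, ?_⟩
      by_contra hY'
      push Not at hY'
      apply hYi
      have h1 : Y ≤ Subgroup.centralizer ({z} : Set G) ⊓ O' := by
        intro y hy
        have hy1 : y ∈ Subgroup.centralizer ({z} : Set G) := by
          rw [Subgroup.mem_centralizer_singleton_iff]
          exact (hY' y hy).symm
        exact Subgroup.mem_inf.2 ⟨hy1, hYO hy⟩
      have h3 : (Subgroup.centralizer ({z} : Set G) ⊓ O').relIndex O' =
          (Subgroup.centralizer ({z} : Set G)).relIndex O' := Subgroup.inf_relIndex_right _ _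
      rw [← h3] at hd
      exact hd.trans (Subgroup.relIndex_dvd_of_le_left O' h1)
    rw [Subgroup.relIndex_eq_one] at hidx
    intro x hx
    have := hidx hx
    rw [Subgroup.mem_centralizer_singleton_iff] at this
    exact this.symm
  -- the commutator of `z` and `z'`
  have hzi : z⁻¹ = z := inv_eq_of_mul_eq_one_left hz
  have hz'i : z'⁻¹ = z' := inv_eq_of_mul_eq_one_left hz'
  have h1 := hN (π ⟨z', hz'L⟩)
  have h3 : zL * ⟨z', hz'L⟩ * zL⁻¹ * (⟨z', hz'L⟩ : L)⁻¹ ∈ N.comap π := by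
    rw [Subgroup.mem_comap, map_mul, map_mul, map_mul, map_inv, map_inv]
    exact h1
  have h4 : z * (z * z' * z⁻¹ * z'⁻¹) = (z * z' * z⁻¹ * z'⁻¹) * z := by
    rcases hNO _ h3 with h5 | h5
    · exact hcent _ ⟨_, h5, rfl⟩
    · have h6 : z * ((c' : G) * (z * z' * z⁻¹ * z'⁻¹)) = ((c' : G) * (z * z' * z⁻¹ * z'⁻¹)) * z :=
        hcent _ ⟨_, h5, rfl⟩
      have h7 : (c' : G) * z = z * (c' : G) := congrArg Subtype.val (hc'c zL)
      have h8 : (c' : G) * (z * (z * z' * z⁻¹ * z'⁻¹)) = (c' : G) * ((z * z' * z⁻¹ * z'⁻¹) * z) := by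
        rw [← mul_assoc, h7, mul_assoc, h6, mul_assoc]
      exact mul_left_cancel h8
  have h5 : (z * z') ^ 4 = 1 := by
    rw [hzi, hz'i] at h4
    have e1 : z * (z * z' * z * z') * z = z' * z * z' * z := by
      calc z * (z * z' * z * z') * z = (z * z) * (z' * z * z' * z) := by simp only [mul_assoc]
        _ = z' * z * z' * z := by rw [hz, one_mul]
    have e2 : z * (z * z' * z * z') * z = z * z' * z * z' := by
      rw [h4, mul_assoc, hz, mul_one]
    have e3 : z * z' * z * z' = z' * z * z' * z := e2.symm.trans e1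
    have e4 : (z * z') ^ 4 = (z * z' * z * z') * (z * z' * z * z') := by
      rw [pow_succ, pow_succ, pow_two]
      simp only [mul_assoc]
    rw [e4]
    nth_rewrite 1 [e3]
    calc z' * z * z' * z * (z * z' * z * z') = z' * z * z' * (z * z) * z' * z * z' := by
          simp only [mul_assoc]
      _ = z' * z * (z' * z') * z * z' := by rw [hz, mul_one]; simp only [mul_assoc]
      _ = z' * (z * z) * z' := by rw [hz', mul_one]; simp only [mul_assoc]
      _ = 1 := by rw [hz, mul_one, hz']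
  obtain ⟨Q, hQL, hQ2, hzQ, hz'Q⟩ := exists_two_group hzL hz'L hz hz' h5
  exact hno Q hQL hQ2 hzQ hz'Q

end Cfsg.Agent.H158.PronG
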