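import Cfsg.Agent.H158.PronG
import Cfsg.Agent.H158.PronM2

/-!
# Two unit vectors of `K` are orthogonal or proportional (helper158)
-/

set_option autoImplicit false
set_option linter.unusedSectionVars false

namespace Cfsg.Agent.H158.PronH

open Quaternion Matrix Equiv
open Cfsg.Agent.H158.PronQ Cfsg.Agent.H158.PronMat Cfsg.Agent.H158.PronMono
open Cfsg.Agent.H158.PronFrame Cfsg.Agent.H158.PronTwo Cfsg.Agent.H158.PronK
open Cfsg.Agent.H158.PronT Cfsg.Agent.H158.PronG Cfsg.Agent.H158.PronM2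

variable {F : Type*} [Field F] {n : Type*} [Fintype n] [DecidableEq n]

/-- The matrix with columns `x`, `y`. -/
def Xc (x y : n → ℍ[F]) : Matrix n (Fin 2) ℍ[F] := Matrix.of fun c k => if k = 0 then x c else y c

theorem Xc_mulVec (x y : n → ℍ[F]) (v : Fin 2 → ℍ[F]) :
    Xc x y *ᵥ v = fun c => x c * v 0 + y c * v 1 := by
  funext c
  rw [Matrix.mulVec, dotProduct, Fin.sum_univ_two]
  rfl

theorem Xc_unit {x y : n → ℍ[F]} (hx : ip x x = 1) (hy : ip y y = 1) (hxy : ip x y = 0) :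
    (Xc x y)ᴴ * Xc x y = 1 := by
  have hyx : ip y x = 0 := by rw [← star_ip, hxy, star_zero]
  ext1 k l
  rw [Matrix.mul_apply]
  simp only [Matrix.conjTranspose_apply]
  fin_cases k <;> fin_cases l
  · exact hx
  · exact hxy
  · exact hyx
  · exact hy

theorem Xc_e0 (x y : n → ℍ[F]) : Xc x y *ᵥ e 0 = x := by
  rw [Xc_mulVec]
  funext c
  have e0 : (e 0 : Fin 2 → ℍ[F]) 0 = 1 := by rw [e, Pi.single_eq_same]
  have e1 : (e 0 : Fin 2 → ℍ[F]) 1 = 0 := by rw [e, Pi.single_eq_of_ne (by decide)]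
  rw [e0, e1, mul_one, mul_zero, add_zero]

theorem two_R0 {v : Fin 2 → ℍ[F]} (hv : ip v v = 1) (h0 : v 0 = 0) : R v hv nu = Rj 1 nu := by
  apply Subtype.ext
  have hm : (Rj (1 : Fin 2) (nu : U F)).1 = !![1, 0; 0, ((nu : U F) : ℍ[F])] := Rj1_mat nu
  have h1 : star (v 1) * v 1 = 1 := by
    rw [ip, Fin.sum_univ_two, h0, mul_zero, zero_add] at hv; exact hv
  have h1' : v 1 * star (v 1) = 1 := by
    rw [star_mul_self] at h1; rw [self_mul_star]; exact h1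
  rw [hm, coe_nu]
  ext1 a b
  rw [rf_apply]
  fin_cases a <;> fin_cases b
  · simp [h0]
  · simp [h0]
  · simp [h0]
  · simp [h1']; norm_num

theorem two_R1 {v : Fin 2 → ℍ[F]} (hv : ip v v = 1) (h0 : v 1 = 0) : R v hv nu = Rj 0 nu := by
  apply Subtype.ext
  have hm : (Rj (0 : Fin 2) (nu : U F)).1 = !![((nu : U F) : ℍ[F]), 0; 0, 1] := Rj0_mat nu
  have h1 : star (v 0) * v 0 = 1 := by
    rw [ip, Fin.sum_univ_two, h0, mul_zero, add_zero] at hv; exact hv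
  have h1' : v 0 * star (v 0) = 1 := by
    rw [star_mul_self] at h1; rw [self_mul_star]; exact h1
  rw [hm, coe_nu]
  ext1 a b
  rw [rf_apply]
  fin_cases a <;> fin_cases b
  · simp [h1']; norm_num
  · simp [h0]
  · simp [h0]
  · simp [h0]

theorem U_mul_star {q : ℍ[F]} (h : star q * q = 1) : q * star q = 1 := by
  rw [star_mul_self] at h; rw [self_mul_star]; exact h

/-- The conjugates of `z` by elements with a zero in the first column. -/
theorem z_conj (g : GU (Fin 2) F) (h : g.1 0 0 = 0 ∨ g.1 1 0 = 0) :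
    g * z * g⁻¹ = z ∨ g * z * g⁻¹ = sc nu * z := by
  have h1 : ip (g.1 *ᵥ e 0) (g.1 *ᵥ e 0) = 1 := by rw [ip_act, ip_e_e]
  have h3 : g * z * g⁻¹ = R (g.1 *ᵥ e 0) h1 nu := R_conj g (e 0) (ip_e_e 0) h1 nu
  rcases h with h | h
  · right
    rw [h3, two_R0 h1 (by rw [mulVec_e]; exact h), sc_eq_Rj]
    have h4 : (Rj (0 : Fin 2) (nu : U F)) * (Rj 1 nu * Rj 0 nu) =
        Rj 0 nu * (Rj 0 nu * Rj 1 nu) := by
      congr 1
      apply Subtype.ext
      have m0 : (Rj (0 : Fin 2) (nu : U F)).1 = !![((nu : U F) : ℍ[F]), 0; 0, 1] := Rj0_mat nu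
      have m1 : (Rj (1 : Fin 2) (nu : U F)).1 = !![1, 0; 0, ((nu : U F) : ℍ[F])] := Rj1_mat nu
      have c1 : (Rj (1 : Fin 2) (nu : U F) * Rj 0 nu).1 = (Rj 1 nu).1 * (Rj 0 nu).1 := rfl
      have c2 : (Rj (0 : Fin 2) (nu : U F) * Rj 1 nu).1 = (Rj 0 nu).1 * (Rj 1 nu).1 := rfl
      rw [c1, c2, m0, m1, Matrix.mul_fin_two, Matrix.mul_fin_two]
      apply mat_ext <;> simp
    rw [mul_assoc, h4, ← mul_assoc, ← map_mul, nu_sq, map_one, one_mul]
  · left
    rw [h3, two_R1 h1 (by rw [mulVec_e]; exact h)]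

theorem two_dim [Finite F] (h2 : (2 : F) ≠ 0) {L : Subgroup (GU (Fin 2) F)} {η : Fin 2 → ℍ[F]}
    (hη : ip η η = 1) (hW : ∀ w ∈ Q8 F, Rj 0 w ∈ L) (hηL : R η hη nu ∈ L)
    (hC : ∀ g ∈ L, ∀ Q ≤ L, IsPGroup 2 Q → z ∈ Q → g * z * g⁻¹ ∈ Q → g.1 0 0 = 0 ∨ g.1 1 0 = 0)
    (hno : ∀ Q ≤ L, IsPGroup 2 Q → z ∈ Q → R η hη nu ∉ Q) :
    ∃ (i : Fin 2) (h : U F), h ≠ 1 ∧ normSq ((h : ℍ[F]) - 1) = 0 ∧ Rj i h ∈ L := by
  have hnu : (nu : U F) ∈ Q8 F := Or.inr (Or.inl rfl)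
  have hz1 : (z : GU (Fin 2) F) ≠ 1 := by
    intro h
    have h1 := congrFun (congrFun (congrArg Subtype.val h) 0) 0
    have m0 : (z : GU (Fin 2) F).1 = !![((nu : U F) : ℍ[F]), 0; 0, 1] := Rj0_mat nu
    rw [m0, coe_nu] at h1
    have h3 : (-1 : ℍ[F]) = 1 := by simpa using h1
    have h4 : (2 : ℍ[F]) * 1 = 0 := by rw [two_mul]; nth_rw 1 [← h3]; simp
    exact one_ne_zero (two_ne h2 h4)
  have hz2 : (z : GU (Fin 2) F) ≠ sc nu := by
    intro h
    have h1 := congrFun (congrFun (congrArg Subtype.val h) 1) 1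
    have m0 : (z : GU (Fin 2) F).1 = !![((nu : U F) : ℍ[F]), 0; 0, 1] := Rj0_mat nu
    have m1 : (sc nu : GU (Fin 2) F).1 = !![((nu : U F) : ℍ[F]), 0; 0, ((nu : U F) : ℍ[F])] := sc_mat nu
    rw [m0, m1, coe_nu] at h1
    have h3 : (1 : ℍ[F]) = -1 := by simpa using h1
    have h4 : (2 : ℍ[F]) * 1 = 0 := by rw [two_mul]; nth_rw 2 [h3]; simp
    exact one_ne_zero (two_ne h2 h4)
  have hcc : (sc nu : GU (Fin 2) F) * sc nu = 1 := by rw [← map_mul, nu_sq, map_one]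
  have hc : ∀ x : GU (Fin 2) F, sc nu * x = x * sc nu := by
    intro x
    apply Subtype.ext
    ext1 a b
    have c1 := sc_mul_apply nu x a b
    have c2 := mul_sc_apply nu x a b
    rw [coe_nu] at c1 c2
    refine c1.trans (Eq.trans ?_ c2.symm)
    rw [neg_one_mul, mul_neg_one]
  have hRsq : R η hη nu * R η hη nu = 1 := by rw [← map_mul, nu_sq, map_one]
  obtain ⟨r, hr, hr2, X, hXL, hX, hXW, hXz⟩ := exists_X L ((Q8 F).map (Rj 0)) (hW nu hnu) z_sq hz1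
    hcc hc hz2 (by rintro _ ⟨w, hw, rfl⟩; exact hW w hw) (Q8_isPGroup.map _)
    (fun g hg Q hQL hQ hzQ hgQ => z_conj g (hC g hg Q hQL hQ hzQ hgQ)) hηL hRsq hno
  have : Fact r.Prime := ⟨hr⟩
  obtain ⟨i, h, h1, h3, h4⟩ := X_case h2 hr2 hX (fun w hw x hx => hXW _ ⟨w, hw, rfl⟩ x hx) hXz
  exact ⟨i, h, h1, h3, hXL h4⟩

section Main

variable [Finite F] (h2 : (2 : F) ≠ 0) (hns : ¬ IsSquare (2 : F)) (T : Sylow 2 (Perm n))
  (hT : ∀ a b : n, ∃ τ ∈ (T : Subgroup (Perm n)), τ a = b) {K : Subgroup (GU n F)}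
  (hSK : SG (Q8 F) (T : Subgroup (Perm n)) ≤ K) (hom : sc (om h2) ∉ K)

include h2 hns hT hSK hom

/-- Two unit vectors of `K` are orthogonal, or their product has norm 1. -/
theorem claim_g {x y : n → ℍ[F]} (hx : InS K x) (hy : InS K y) (h0 : ip x y ≠ 0) :
    normSq (ip x y) = 1 := by
  by_contra hN
  obtain ⟨hx1, hxK⟩ := hx
  obtain ⟨hy1, hyK⟩ := hy
  set c := ip x y with hc
  set ν : F := 1 - normSq c with hν
  have hν0 : ν ≠ 0 := fun h => hN (sub_eq_zero.1 h).symm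
  obtain ⟨l, hl⟩ := exists_normSq (F := F) ν⁻¹
  have hlN : (l * star l : ℍ[F]) = ((ν⁻¹ : F) : ℍ[F]) := by rw [self_mul_star, hl]
  have hlN' : (star l * l : ℍ[F]) = ((ν⁻¹ : F) : ℍ[F]) := by rw [star_mul_self, hl]
  set l' : ℍ[F] := star l * ((ν : F) : ℍ[F]) with hl'
  have hll' : l * l' = 1 := by
    rw [hl', ← mul_assoc, hlN, ← Quaternion.coe_mul, inv_mul_cancel₀ hν0, Quaternion.coe_one]
  set y' : n → ℍ[F] := y - fun a => x a * c with hy'
  have hyx : ip y x = star c := by rw [← star_ip]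
  have hxy' : ip x y' = 0 := by
    rw [hy', ip_sub_right, ip_smul_right, hx1, one_mul, ← hc, sub_self]
  have hy'y' : ip y' y' = ((ν : F) : ℍ[F]) := by
    have h1 : ip y y' = ((ν : F) : ℍ[F]) := by
      rw [hy', ip_sub_right, ip_smul_right, hy1, hyx, star_mul_self, hν, Quaternion.coe_sub,
        Quaternion.coe_one]
    have h3 : ip (fun a => x a * c) y' = 0 := by rw [ip_smul_left, hxy', mul_zero]
    have h4 : ip y' y' = ip y y' - ip (fun a => x a * c) y' := by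
      conv_lhs => rw [hy', ip_sub_left]
    rw [h4, h1, h3, sub_zero]
  set y'' : n → ℍ[F] := fun a => y' a * l with hy''
  have hxy'' : ip x y'' = 0 := by rw [hy'', ip_smul_right, hxy', zero_mul]
  have hy''1 : ip y'' y'' = 1 := by
    rw [hy'', ip_smul_left, ip_smul_right, hy'y', ← mul_assoc, ← Quaternion.coe_commutes,
      mul_assoc, hlN', ← Quaternion.coe_mul, mul_inv_cancel₀ hν0, Quaternion.coe_one]
  have hX := Xc_unit hx1 hy''1 hxy''
  set η : Fin 2 → ℍ[F] := ![c, l'] with hηdef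
  have hXη : Xc x y'' *ᵥ η = y := by
    rw [Xc_mulVec]
    funext a
    show x a * c + y' a * l * l' = y a
    rw [mul_assoc, hll', mul_one, hy', Pi.sub_apply]
    abel
  have hη : ip η η = 1 := by rw [← ip_Phi hX, hXη, hy1]
  set φ := Phi (Xc x y'') hX with hφ
  have hφ0 : ∀ w, φ (Rj 0 w) = R x hx1 w := by
    intro w
    rw [hφ, Rj, Phi_R hX _ _ (by rw [Xc_e0]; exact hx1)]
    exact R_congr (Xc_e0 _ _) _ _ _
  have hφη : ∀ w, φ (R η hη w) = R y hy1 w := by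
    intro w
    rw [hφ, Phi_R hX _ _ (by rw [hXη]; exact hy1)]
    exact R_congr hXη _ _ _
  have hnu : (nu : U F) ∈ Q8 F := Or.inr (Or.inl rfl)
  obtain ⟨i, h, hh1, hhN, hhL⟩ := two_dim h2 (L := K.comap φ) hη
    (fun w hw => by show φ (Rj 0 w) ∈ K; rw [hφ0]; exact hxK w hw)
    (by show φ (R η hη nu) ∈ K; rw [hφη]; exact hyK nu hnu)
    (by
      intro g hg Q hQL hQ hzQ hgQ
      have hgK : φ g ∈ K := hg
      obtain ⟨hu1, huK⟩ := InS.act ⟨hx1, hxK⟩ hgK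
      have e1 : (φ g).1 *ᵥ x = Xc x y'' *ᵥ (g.1 *ᵥ e 0) := by
        conv_lhs => rw [← Xc_e0 x y'', hφ]
        exact Phi_mulVec hX g (e 0)
      have e2 : ip x ((φ g).1 *ᵥ x) = g.1 0 0 := by
        have h3 : ip (Xc x y'' *ᵥ e 0) (Xc x y'' *ᵥ (g.1 *ᵥ e 0)) = ip (e 0) (g.1 *ᵥ e 0) :=
          ip_Phi hX _ _
        rw [Xc_e0, ← e1, ip_e, mulVec_e] at h3
        exact h3
      have e3 : R ((φ g).1 *ᵥ x) hu1 nu = φ (g * z * g⁻¹) := by
        rw [map_mul, map_mul, map_inv, hφ0, R_conj (φ g) x hx1 hu1]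
      have h5 := f2' h2 hns T hT hSK hom hx1 hxK hu1 huK (Q := Q.map φ)
        (by rintro _ ⟨q, hq, rfl⟩; exact hQL hq) (hQ.map φ)
        ⟨z, hzQ, hφ0 nu⟩ ⟨_, hgQ, e3.symm⟩
      rw [e2] at h5
      rcases h5 with h5 | h5
      · left; exact h5
      · right
        have h6 := congrArg (fun v => (Xc x y'')ᴴ *ᵥ v) h5
        have h7 : (fun a => x a * g.1 0 0) = Xc x y'' *ᵥ (fun a => (e 0 : Fin 2 → ℍ[F]) a * g.1 0 0) := by
          rw [mulVec_smul_right, Xc_e0]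
        rw [e1, h7] at h6
        simp only [Matrix.mulVec_mulVec, hX, Matrix.one_mulVec] at h6
        have h8 : (Xc x y'')ᴴ * (Xc x y'' * g.1) = g.1 := by
          rw [← Matrix.mul_assoc, hX, Matrix.one_mul]
        rw [h8] at h6
        have h9 := congrFun h6 1
        rw [mulVec_e] at h9
        rw [e_mul_apply, if_neg (by decide)] at h9
        exact h9)
    (by
      intro Q hQL hQ hzQ hηQ
      have h5 := f2' h2 hns T hT hSK hom hx1 hxK hy1 hyK (Q := Q.map φ)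
        (by rintro _ ⟨q, hq, rfl⟩; exact hQL hq) (hQ.map φ)
        ⟨z, hzQ, hφ0 nu⟩ ⟨_, hηQ, hφη nu⟩
      rcases h5 with h5 | h5
      · exact h0 h5
      · apply hN
        have h6 : ip y y = star c * c := by
          conv_lhs => rw [h5]
          rw [← hc, ip_smul_left, ip_smul_right, hx1, one_mul]
        rw [hy1, star_mul_self] at h6
        have h7 := congrArg (fun q : ℍ[F] => q.re) h6
        simpa using h7.symm)
  have hhK : φ (Rj i h) ∈ K := hhL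
  have hXi : ip (Xc x y'' *ᵥ e i) (Xc x y'' *ᵥ e i) = 1 := by rw [ip_Phi hX, ip_e_e]
  rw [hφ, Rj, Phi_R hX _ _ hXi] at hhK
  exact no_transvection h2 hns T hT hSK hom hXi hhN hh1 hhK

end Main

end Cfsg.Agent.H158.PronH
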