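import Mathlib.LinearAlgebra.SymplecticGroup
import Cfsg.Agent.H158.PronMat
import Cfsg.Agent.H158.PronM2

/-!
# The quaternionic unitary group is the symplectic group (helper158)
-/

set_option autoImplicit false
set_option linter.unusedSectionVars false

namespace Cfsg.Agent.H158.PronSp

open Quaternion Matrix
open Cfsg.Agent.H158.PronQ Cfsg.Agent.H158.PronMat Cfsg.Agent.H158.PronM2

variable {F : Type*} [Field F] {n : Type*} [Fintype n] [DecidableEq n]

/-- The matrix over `F` of a matrix over the quaternions. -/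
def Th (a b : F) (A : Matrix n n ℍ[F]) : Matrix (n ⊕ n) (n ⊕ n) F :=
  Matrix.fromBlocks (A.map fun q => toM a b q 0 0) (A.map fun q => toM a b q 0 1)
    (A.map fun q => toM a b q 1 0) (A.map fun q => toM a b q 1 1)

theorem toM_sum {a b : F} {ι : Type*} (s : Finset ι) (f : ι → ℍ[F]) :
    toM a b (∑ i ∈ s, f i) = ∑ i ∈ s, toM a b (f i) := by
  classical
  induction s using Finset.induction_on with
  | empty => ext i j; fin_cases i <;> fin_cases j <;> simp [toM]
  | insert i s hi ih => rw [Finset.sum_insert hi, Finset.sum_insert hi, toM_add, ih]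

theorem Th_mul {a b : F} (hab : a * a + b * b = -1) (A B : Matrix n n ℍ[F]) :
    Th a b (A * B) = Th a b A * Th a b B := by
  unfold Th
  rw [Matrix.fromBlocks_multiply]
  have key : ∀ i j : Fin 2, ((A * B).map fun q => toM a b q i j) =
      (A.map fun q => toM a b q i 0) * (B.map fun q => toM a b q 0 j) +
      (A.map fun q => toM a b q i 1) * (B.map fun q => toM a b q 1 j) := by
    intro i j
    ext c d
    rw [Matrix.map_apply, Matrix.mul_apply, toM_sum, Matrix.sum_apply, Matrix.add_apply,
      Matrix.mul_apply, Matrix.mul_apply, ← Finset.sum_add_distrib]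
    refine Finset.sum_congr rfl fun k _ => ?_
    rw [toM_mul hab, Matrix.mul_apply, Fin.sum_univ_two]
    rfl
  rw [key, key, key, key]

theorem Th_one (a b : F) : Th a b (1 : Matrix n n ℍ[F]) = 1 := by
  unfold Th
  rw [← Matrix.fromBlocks_one]
  congr 1
  · ext c d; rw [Matrix.map_apply]
    by_cases h : c = d
    · subst h; simp [toM]
    · simp [toM, Matrix.one_apply_ne h]
  · ext c d; rw [Matrix.map_apply]
    by_cases h : c = d
    · subst h; simp [toM]
    · simp [toM, Matrix.one_apply_ne h]
  · ext c d; rw [Matrix.map_apply]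
    by_cases h : c = d
    · subst h; simp [toM]
    · simp [toM, Matrix.one_apply_ne h]
  · ext c d; rw [Matrix.map_apply]
    by_cases h : c = d
    · subst h; simp [toM]
    · simp [toM, Matrix.one_apply_ne h]

theorem Th_star (a b : F) (A : Matrix n n ℍ[F]) :
    Th a b Aᴴ = -(J n F * (Th a b A)ᵀ * J n F) := by
  unfold Th J
  rw [Matrix.fromBlocks_transpose, Matrix.fromBlocks_multiply, Matrix.fromBlocks_multiply,
    Matrix.fromBlocks_neg]
  congr 1
  · ext c d; simp [toM]; ring
  · ext c d; simp [toM]; ring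
  · ext c d; simp [toM]; ring
  · ext c d; simp [toM]

theorem Th_injective {a b : F} (hab : a * a + b * b = -1) (h2 : (2 : F) ≠ 0) :
    Function.Injective (Th a b : Matrix n n ℍ[F] → _) := by
  intro A B h
  unfold Th at h
  rw [Matrix.fromBlocks_inj] at h
  obtain ⟨h1, h3, h4, h5⟩ := h
  ext1 c d
  apply (equivM hab h2).injective
  show toM a b (A c d) = toM a b (B c d)
  ext i j
  fin_cases i <;> fin_cases j
  · exact congrFun (congrFun h1 c) d
  · exact congrFun (congrFun h3 c) d
  · exact congrFun (congrFun h4 c) d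
  · exact congrFun (congrFun h5 c) d

theorem Th_surjective {a b : F} (hab : a * a + b * b = -1) (h2 : (2 : F) ≠ 0) :
    Function.Surjective (Th a b : Matrix n n ℍ[F] → _) := by
  intro M
  refine ⟨Matrix.of fun c d => (equivM hab h2).symm
    !![M (Sum.inl c) (Sum.inl d), M (Sum.inl c) (Sum.inr d);
      M (Sum.inr c) (Sum.inl d), M (Sum.inr c) (Sum.inr d)], ?_⟩
  have key : ∀ N : Matrix (Fin 2) (Fin 2) F, toM a b ((equivM hab h2).symm N) = N :=
    fun N => (equivM hab h2).apply_symm_apply N
  unfold Th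
  ext i j
  rcases i with c | c <;> rcases j with d | d
  · rw [Matrix.fromBlocks_apply₁₁, Matrix.map_apply, Matrix.of_apply, key]; rfl
  · rw [Matrix.fromBlocks_apply₁₂, Matrix.map_apply, Matrix.of_apply, key]; rfl
  · rw [Matrix.fromBlocks_apply₂₁, Matrix.map_apply, Matrix.of_apply, key]; rfl
  · rw [Matrix.fromBlocks_apply₂₂, Matrix.map_apply, Matrix.of_apply, key]; rfl

/-- The isomorphism, as a homomorphism. -/
def toSp {a b : F} (hab : a * a + b * b = -1) : GU n F →* Matrix.symplecticGroup n F where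
  toFun g := ⟨Th a b g.1, by
    rw [SymplecticGroup.mem_iff]
    have h1 := congrArg (Th a b) (coe_mul_star g)
    rw [Th_mul hab, Th_star, Th_one, mul_neg] at h1
    have h3 : Th a b g.1 * (J n F * (Th a b g.1)ᵀ * J n F) * J n F = -J n F := by
      rw [← neg_neg (Th a b g.1 * (J n F * (Th a b g.1)ᵀ * J n F)), h1, neg_mul, one_mul]
    have h4 : Th a b g.1 * (J n F * (Th a b g.1)ᵀ * J n F) * J n F =
        -(Th a b g.1 * J n F * (Th a b g.1)ᵀ) := by
      have h5 : Th a b g.1 * (J n F * (Th a b g.1)ᵀ * J n F) * J n F =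
        (Th a b g.1 * J n F * (Th a b g.1)ᵀ) * (J n F * J n F) := by
        simp only [Matrix.mul_assoc]
      rw [h5, J_squared, mul_neg, mul_one]
    rw [h4] at h3
    exact neg_injective h3⟩
  map_one' := Subtype.ext (Th_one a b)
  map_mul' g h := Subtype.ext (Th_mul hab _ _)

theorem toSp_surjective {a b : F} (hab : a * a + b * b = -1) (h2 : (2 : F) ≠ 0) :
    Function.Surjective (toSp hab : GU n F →* _) := by
  rintro ⟨M, hM⟩
  obtain ⟨A, hA⟩ := Th_surjective hab h2 M
  have h1 : Aᴴ * A = 1 := by
    apply Th_injective hab h2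
    rw [Th_mul hab, Th_star, Th_one, hA, neg_mul]
    have h3 := SymplecticGroup.mem_iff'.1 hM
    have h5 : J n F * Mᵀ * J n F * M = J n F * (Mᵀ * J n F * M) := by
      simp only [Matrix.mul_assoc]
    rw [h5, h3, J_squared, neg_neg]
  have h3 : A * Aᴴ = 1 := by
    apply Th_injective hab h2
    rw [Th_mul hab, Th_star, Th_one, hA, mul_neg]
    have h3 := SymplecticGroup.mem_iff.1 hM
    have h5 : M * (J n F * Mᵀ * J n F) = (M * J n F * Mᵀ) * J n F := by
      simp only [Matrix.mul_assoc]
    rw [h5, h3, J_squared, neg_neg]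
  exact ⟨⟨A, mem_GU.2 ⟨h1, h3⟩⟩, Subtype.ext hA⟩

end Cfsg.Agent.H158.PronSp
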