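import Cfsg.Agent.H158.PronB
import Cfsg.Agent.H158.PronSp
import Cfsg.Agent.H408.Pron.Defs
import Mathlib

/-!
# Non-pronormal subgroups of odd index in symplectic groups (helper158)
-/

set_option autoImplicit false
set_option linter.unusedSectionVars false

namespace Cfsg.Agent.H158.PronNeg

open Quaternion Matrix Equiv
open Cfsg.Agent.H158.PronQ Cfsg.Agent.H158.PronMat Cfsg.Agent.H158.PronMono
open Cfsg.Agent.H158.PronFrame Cfsg.Agent.H158.PronAvg

/-! ### Arithmetic -/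

section arith

theorem lucas (N a : ℕ) (ε δ : ℕ) (hε : ε < 2) (hδ : δ < 2) :
    Odd (Nat.choose (2 * N + ε) (2 * a + δ)) ↔ Odd (Nat.choose ε δ * Nat.choose N a) := by
  have : Fact (Nat.Prime 2) := ⟨Nat.prime_two⟩
  have h := Choose.choose_modEq_choose_mod_mul_choose_div_nat (n := 2 * N + ε) (k := 2 * a + δ) (p := 2)
  have e1 : (2 * N + ε) % 2 = ε := by omega
  have e2 : (2 * a + δ) % 2 = δ := by omega
  have e3 : (2 * N + ε) / 2 = N := by omega
  have e4 : (2 * a + δ) / 2 = a := by omega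
  rw [e1, e2, e3, e4] at h
  rw [Nat.odd_iff, Nat.odd_iff]
  exact ⟨fun h1 => h ▸ h1, fun h1 => by rw [h]; exact h1⟩

theorem res (N : ℕ) : ((∃ a, Odd (Nat.choose N a) ∧ a % 3 = 1) ∨ N = 0 ∨ ∃ k, N = 2 ^ (2 * k + 1)) ∧
    ((∃ a, Odd (Nat.choose N a) ∧ a % 3 = 2) ∨ N = 0 ∨ ∃ k, N = 2 ^ (2 * k)) := by
  induction N using Nat.strong_induction_on with
  | _ N ih =>
    rcases Nat.eq_zero_or_pos N with h0 | h0
    · exact ⟨Or.inr (Or.inl h0), Or.inr (Or.inl h0)⟩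
    obtain ⟨M, ε, hε, rfl⟩ : ∃ M ε, ε < 2 ∧ N = 2 * M + ε := ⟨N / 2, N % 2, by omega, by omega⟩
    obtain ⟨ih1, ih2⟩ := ih M (by omega)
    have hdbl : ∀ a, Odd (Nat.choose M a) → Odd (Nat.choose (2 * M + ε) (2 * a)) := by
      intro a ha
      have h1 := (lucas M a ε 0 hε (by norm_num)).2
      rw [add_zero] at h1
      apply h1
      rw [Nat.choose_zero_right, one_mul]
      exact ha
    constructor
    · by_cases h1 : ε = 1
      · subst h1
        exact Or.inl ⟨1, by rw [Nat.choose_one_right]; exact ⟨M, rfl⟩, rfl⟩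
      · have h1 : ε = 0 := by omega
        subst h1
        rcases ih2 with ⟨a, ha, ha3⟩ | h | ⟨k, hk⟩
        · exact Or.inl ⟨2 * a, hdbl a ha, by omega⟩
        · omega
        · exact Or.inr (Or.inr ⟨k, by rw [hk, add_zero, pow_succ, mul_comm]⟩)
    · rcases ih1 with ⟨a, ha, ha3⟩ | h | ⟨k, hk⟩
      · exact Or.inl ⟨2 * a, hdbl a ha, by omega⟩
      · subst h
        have h1 : ε = 1 := by omega
        subst h1
        exact Or.inr (Or.inr ⟨0, by norm_num⟩)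
      · by_cases h1 : ε = 1
        · subst h1
          refine Or.inl ⟨2 * M + 1, by rw [Nat.choose_self]; exact odd_one, ?_⟩
          have h2 : 2 * M = 4 ^ (k + 1) := by
            rw [hk, show (4 : ℕ) = 2 ^ 2 from rfl, ← pow_mul, ← pow_succ']
            congr 1
          have h3 : 4 ^ (k + 1) % 3 = 1 := by
            rw [Nat.pow_mod]; simp
          rw [h2]
          omega
        · have h1 : ε = 0 := by omega
          subst h1
          exact Or.inr (Or.inr ⟨k + 1, by rw [hk, add_zero, ← pow_succ']; congr 1⟩)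

theorem exists_three (N : ℕ) (h1 : 1 ≤ N) (h2 : ¬ ∃ m : ℕ, N = 2 ^ m) (h3 : ¬ ∃ m k : ℕ, N = 2 ^ m * (2 ^ (2 * k) + 1)) :
    ∃ a, 1 ≤ a ∧ a ≤ N ∧ 3 ∣ a ∧ Odd (Nat.choose N a) := by
  induction N using Nat.strong_induction_on with
  | _ N ih =>
    obtain ⟨M, ε, hε, rfl⟩ : ∃ M ε, ε < 2 ∧ N = 2 * M + ε := ⟨N / 2, N % 2, by omega, by omega⟩
    have hle : ∀ {n a : ℕ}, Odd (Nat.choose n a) → a ≤ n := by
      intro n a h
      by_contra hcon
      rw [Nat.choose_eq_zero_of_lt (by omega)] at h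
      exact absurd h (by decide)
    by_cases h4 : ε = 1
    · subst h4
      rcases (res M).1 with ⟨a, ha, ha3⟩ | h | ⟨k, hk⟩
      · have h5 : Odd (Nat.choose (2 * M + 1) (2 * a + 1)) := by
          rw [lucas M a 1 1 (by norm_num) (by norm_num), Nat.choose_self, one_mul]
          exact ha
        exact ⟨2 * a + 1, by omega, hle h5, by omega, h5⟩
      · subst h
        exact absurd ⟨0, by norm_num⟩ h2
      · refine absurd ⟨0, k + 1, ?_⟩ h3
        rw [pow_zero, one_mul, hk, ← pow_succ']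
        congr 1
    · have h4 : ε = 0 := by omega
      subst h4
      rw [add_zero] at *
      obtain ⟨a, ha1, ha2, ha3, ha4⟩ := ih M (by omega) (by omega) (by
        rintro ⟨m, rfl⟩
        exact h2 ⟨m + 1, by rw [pow_succ, mul_comm]⟩) (by
        rintro ⟨m, k, rfl⟩
        exact h3 ⟨m + 1, k, by rw [pow_succ]; ring⟩)
      have h5 : Odd (Nat.choose (2 * M) (2 * a)) := by
        have h6 := (lucas M a 0 0 (by norm_num) (by norm_num)).2
        rw [add_zero, add_zero, Nat.choose_self, one_mul] at h6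
        exact h6 ha4
      exact ⟨2 * a, by omega, by omega, by omega, h5⟩

end arith

/-! ### classes of entries -/

section cls

variable {F : Type*} [Field F] (h2 : (2 : F) ≠ 0)

theorem om_norm : om h2 ∈ Subgroup.normalizer ((Q8 F : Subgroup (U F)) : Set (U F)) := by
  rw [Subgroup.mem_normalizer_iff]
  intro v
  refine ⟨fun hv => om_conj_mem h2 hv, fun hv => ?_⟩
  have h1 := om_conj_mem' h2 hv
  have h3 : (om h2)⁻¹ * (om h2 * v * (om h2)⁻¹) * om h2 = v := by group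
  rwa [h3] at h1

theorem zpow_conj (k : ℤ) {v : U F} (hv : v ∈ Q8 F) : om h2 ^ k * v * (om h2 ^ k)⁻¹ ∈ Q8 F :=
  (Subgroup.mem_normalizer_iff.1 (zpow_mem (om_norm h2) k) v).1 hv

/-- `u` lies in the coset `ω ^ c Q8` -/
def Cls (c : ℤ) (u : U F) : Prop := om h2 ^ (-c) * u ∈ Q8 F

theorem Cls.mul {c d : ℤ} {u v : U F} (hu : Cls h2 c u) (hv : Cls h2 d v) : Cls h2 (c + d) (u * v) := by
  have h1 : om h2 ^ (-(c + d)) * (u * v) =
      (om h2 ^ (-d) * (om h2 ^ (-c) * u) * (om h2 ^ (-d))⁻¹) * (om h2 ^ (-d) * v) := by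
    have h3 : om h2 ^ (-(c + d)) = om h2 ^ (-d) * om h2 ^ (-c) := by rw [← _root_.zpow_add]; congr 1; ring
    rw [h3]
    group
  show om h2 ^ (-(c + d)) * (u * v) ∈ Q8 F
  rw [h1]
  exact mul_mem (zpow_conj h2 _ hu) hv

theorem Cls.inv {c : ℤ} {u : U F} (hu : Cls h2 c u) : Cls h2 (-c) u⁻¹ := by
  have h1 : om h2 ^ (- -c) * u⁻¹ = om h2 ^ c * (om h2 ^ (-c) * u)⁻¹ * (om h2 ^ c)⁻¹ := by group
  show om h2 ^ (- -c) * u⁻¹ ∈ Q8 F
  rw [h1]
  exact zpow_conj h2 _ (inv_mem hu)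

theorem Cls.of_mem {u : U F} (hu : u ∈ Q8 F) : Cls h2 0 u := by
  show om h2 ^ (-0 : ℤ) * u ∈ Q8 F
  rw [neg_zero, zpow_zero, one_mul]
  exact hu

theorem cls_om : Cls h2 1 (om h2) := by
  show om h2 ^ (-1 : ℤ) * om h2 ∈ Q8 F
  rw [_root_.zpow_neg_one, inv_mul_cancel]
  exact one_mem _

theorem three_dvd_of_zpow {c : ℤ} (h : om h2 ^ c ∈ Q8 F) : (3 : ℤ) ∣ c := by
  by_contra hc
  have hcop : IsCoprime (3 : ℤ) c := (Int.prime_three.coprime_iff_not_dvd).2 hc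
  obtain ⟨x, y, hxy⟩ := hcop
  apply om_notMem h2
  have h1 : om h2 = (om h2 ^ (3 : ℤ)) ^ x * (om h2 ^ c) ^ y := by
    rw [← _root_.zpow_mul, ← _root_.zpow_mul, ← _root_.zpow_add]
    have : 3 * x + c * y = 1 := by linear_combination hxy
    rw [this, zpow_one]
  rw [h1]
  refine mul_mem (zpow_mem ?_ _) (zpow_mem h _)
  rw [show (3 : ℤ) = ((3 : ℕ) : ℤ) from rfl, zpow_natCast, om_cube]
  exact one_mem _

theorem Cls.unique {c d : ℤ} {u : U F} (hu : Cls h2 c u) (hv : Cls h2 d u) : (3 : ℤ) ∣ c - d := by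
  apply three_dvd_of_zpow h2
  have h1 : om h2 ^ (c - d) = om h2 ^ c * ((om h2 ^ (-d) * u) * (om h2 ^ (-c) * u)⁻¹) * (om h2 ^ c)⁻¹ := by
    group
  rw [h1]
  exact zpow_conj h2 _ (mul_mem hv (inv_mem hu))

theorem exists_cls (hns : ¬ IsSquare (2 : F)) {u : U F} (h : ∀ v ∈ Q8 F, u * v * u⁻¹ ∈ Q8 F) :
    ∃ c, Cls h2 c u := by
  rcases norm_Q8 h2 hns h with h1 | h1
  · exact ⟨0, Cls.of_mem h2 h1⟩
  · rcases half_mem h2 h1 with h3 | h3
    · exact ⟨1, by show om h2 ^ (-1 : ℤ) * u ∈ Q8 F; rw [_root_.zpow_neg_one]; exact h3⟩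
    · exact ⟨-1, by show om h2 ^ (- -1 : ℤ) * u ∈ Q8 F; rw [neg_neg, zpow_one]; exact h3⟩

end cls

/-! ### the group `M` -/

section main

variable {F : Type*} [Field F] (h2 : (2 : F) ≠ 0) {n : Type*} [Fintype n] [DecidableEq n]

theorem sum_perm {A : Finset n} {τ : Perm n} (h : ∀ b, τ b ∈ A ↔ b ∈ A) (c : n → ℤ) :
    ∑ b ∈ A, c (τ b) = ∑ b ∈ A, c b := by
  refine Finset.sum_bij (fun b _ => τ b) (fun b hb => (h b).2 hb) (fun a _ b _ hab => τ.injective hab)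
    (fun b hb => ⟨τ⁻¹ b, ?_, by simp⟩) (fun b _ => rfl)
  rw [← h]
  simpa using hb

/-- monomial elements with entries in `Q8 ⟨ω⟩`, the classes of the entries in `A` having sum zero -/
def MM (A : Finset n) (T : Subgroup (Perm n)) (hTA : ∀ σ ∈ T, ∀ b, σ b ∈ A ↔ b ∈ A) : Subgroup (GU n F) where
  carrier := {g | ∃ σ ∈ T, Mono g.1 σ ∧ ∃ (u : n → U F) (c : n → ℤ), (∀ b, (u b : ℍ[F]) = g.1 (σ b) b) ∧
    (∀ b, Cls h2 (c b) (u b)) ∧ (3 : ℤ) ∣ ∑ b ∈ A, c b}
  one_mem' := by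
    refine ⟨1, one_mem _, Mono.one, fun _ => 1, fun _ => 0, fun b => ?_, fun b => Cls.of_mem h2 (one_mem _), by simp⟩
    show (1 : ℍ[F]) = (1 : Matrix n n ℍ[F]) b b
    rw [Matrix.one_apply_eq]
  mul_mem' := by
    rintro g h ⟨σ, hσ, hg, u, c, hu, hc, hs⟩ ⟨τ, hτ, hh, v, d, hv, hd, ht⟩
    refine ⟨σ * τ, mul_mem hσ hτ, hg.mul hh, fun b => u (τ b) * v b, fun b => c (τ b) + d b, fun b => ?_,
      fun b => (hc (τ b)).mul h2 (hd b), ?_⟩
    · have h8 : (g * h).1 = g.1 * h.1 := rfl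
      rw [h8, hh.mul_apply, ← hv, Perm.mul_apply, ← hu]
      rfl
    · rw [Finset.sum_add_distrib, sum_perm (hTA τ hτ)]
      exact dvd_add hs ht
  inv_mem' := by
    rintro g ⟨σ, hσ, hg, u, c, hu, hc, hs⟩
    refine ⟨σ⁻¹, inv_mem hσ, ?_, fun b => (u (σ⁻¹ b))⁻¹, fun b => -c (σ⁻¹ b), fun b => ?_,
      fun b => (hc (σ⁻¹ b)).inv h2, ?_⟩
    · rw [coe_inv_GU]; exact hg.star
    · rw [coe_inv_GU, Matrix.conjTranspose_apply, PronQ.coe_inv, hu]
      simp
    · rw [Finset.sum_neg_distrib, sum_perm (hTA σ⁻¹ (inv_mem hσ))]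
      exact (dvd_neg).2 hs

theorem SG_le_MM (A : Finset n) (T : Subgroup (Perm n)) (hTA : ∀ σ ∈ T, ∀ b, σ b ∈ A ↔ b ∈ A) :
    SG (Q8 F) T ≤ MM h2 A T hTA := by
  rintro g ⟨σ, hσ, hg, hent⟩
  choose w hw hwe using hent
  exact ⟨σ, hσ, hg, w, fun _ => 0, hwe, fun b => Cls.of_mem h2 (hw b), by simp⟩

include h2 in
/-- **The negative part**, in `GU n F`. -/
theorem not_pronormal (A : Finset n) (hA0 : A.Nonempty) (hA3 : 3 ∣ A.card)
    (T : Subgroup (Perm n)) (hTA : ∀ σ ∈ T, ∀ b, σ b ∈ A ↔ b ∈ A) (hTt : ∀ a ∈ A, ∀ b ∈ A, ∃ τ ∈ T, τ a = b) :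
    ¬ Cfsg.IsPronormal (SG (Q8 F) T) := by
  intro hpr
  obtain ⟨a₀, ha₀⟩ := hA0
  obtain ⟨v, hv⟩ : ∃ v : GU n F, v = Rj a₀ (om h2) := ⟨_, rfl⟩
  -- the entries of `v`
  have hvm : Mono v.1 1 := by rw [hv]; exact Rj_mono _ _
  have hvT : ∀ g : GU n F, g ∈ MM h2 A T hTA → v * g * v⁻¹ ∈ MM h2 A T hTA := by
    rintro g ⟨σ, hσ, hg, u, c, hu, hc, hs⟩
    have hvi : Mono (v⁻¹).1 1 := by
      have := hvm.star
      rw [inv_one] at this
      rwa [← coe_inv_GU] at this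
    refine ⟨σ, hσ, ?_, fun b => (if σ b = a₀ then om h2 else 1) * u b * (if b = a₀ then om h2 else 1)⁻¹,
      fun b => (if σ b = a₀ then 1 else 0) + c b + -(if b = a₀ then 1 else 0), fun b => ?_, fun b => ?_, ?_⟩
    · have := (hvm.mul hg).mul hvi
      rwa [one_mul, mul_one] at this
    · have h8 : (v * g * v⁻¹).1 = (v.1 * g.1) * (v⁻¹).1 := rfl
      rw [h8, hvi.mul_apply, Perm.one_apply, hg.mul_apply, coe_inv_GU, Matrix.conjTranspose_apply, hv, Rj_apply,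
        Rj_apply, if_pos rfl, if_pos rfl, ← hu]
      show ((if σ b = a₀ then om h2 else 1 : U F) : ℍ[F]) * u b * (((if b = a₀ then om h2 else 1)⁻¹ : U F) : ℍ[F]) = _
      rw [PronQ.coe_inv]
      by_cases h3 : σ b = a₀
      · by_cases h4 : b = a₀
        · rw [if_pos h3, if_pos h4, if_pos h3, if_pos h4]
        · rw [if_pos h3, if_neg h4, if_pos h3, if_neg h4]; rfl
      · by_cases h4 : b = a₀
        · rw [if_neg h3, if_pos h4, if_neg h3, if_pos h4]; rfl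
        · rw [if_neg h3, if_neg h4, if_neg h3, if_neg h4]; rfl
    · have key : ∀ P : Prop, [Decidable P] → Cls h2 (if P then 1 else 0) (if P then om h2 else 1) := by
        intro P _
        by_cases hP : P
        · rw [if_pos hP, if_pos hP]; exact cls_om h2
        · rw [if_neg hP, if_neg hP]; exact Cls.of_mem h2 (one_mem _)
      exact ((key (σ b = a₀)).mul h2 (hc b)).mul h2 ((key (b = a₀)).inv h2)
    · rw [Finset.sum_add_distrib, Finset.sum_add_distrib, Finset.sum_neg_distrib]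
      have h3 : ∑ b ∈ A, (if σ b = a₀ then (1 : ℤ) else 0) = ∑ b ∈ A, (if b = a₀ then (1 : ℤ) else 0) :=
        sum_perm (hTA σ hσ) (fun b => if b = a₀ then (1 : ℤ) else 0)
      rw [h3]
      have h4 : ∑ b ∈ A, (if b = a₀ then (1 : ℤ) else 0) + ∑ b ∈ A, c b + -∑ b ∈ A, (if b = a₀ then (1 : ℤ) else 0) =
          ∑ b ∈ A, c b := by ring
      rw [h4]
      exact hs
  obtain ⟨x, hx, hxe⟩ := hpr v
  have hxM : x ∈ MM h2 A T hTA := by
    have h3 : SG (Q8 F) T ⊔ (SG (Q8 F) T).map (MulAut.conj v).toMonoidHom ≤ MM h2 A T hTA := by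
      refine sup_le (SG_le_MM h2 A T hTA) ?_
      rintro _ ⟨g, hg, rfl⟩
      exact hvT g (SG_le_MM h2 A T hTA hg)
    exact h3 hx
  -- `y = v⁻¹ x` normalises
  obtain ⟨y, hy⟩ : ∃ y, y = v⁻¹ * x := ⟨_, rfl⟩
  have hxy : x = v * y := by rw [hy]; group
  have hyN : ∀ s ∈ SG (Q8 F) T, y * s * y⁻¹ ∈ SG (Q8 F) T := by
    intro s hs
    have h3 : x * s * x⁻¹ ∈ (SG (Q8 F) T).map (MulAut.conj x).toMonoidHom := ⟨s, hs, rfl⟩
    rw [← hxe] at h3
    obtain ⟨t, ht, hte⟩ := h3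
    have h4 : v * t * v⁻¹ = x * s * x⁻¹ := hte
    have h5 : y * s * y⁻¹ = t := by
      have h6 : v⁻¹ * (v * t * v⁻¹) * v = t := by group
      rw [← h6, h4, hxy]; group
    rw [h5]; exact ht
  obtain ⟨σ, hσ, hxm, u, c, hu, hc, hs⟩ := hxM
  have hvi : Mono (v⁻¹).1 1 := by
    have := hvm.star
    rw [inv_one] at this
    rwa [← coe_inv_GU] at this
  have hym : Mono y.1 σ := by
    have := hvi.mul hxm
    rw [one_mul] at this
    rw [hy]
    exact this
  choose w hwe using fun b => hym.entry b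
  have hcw : ∀ b, Cls h2 (c b - (if σ b = a₀ then 1 else 0)) (w b) := by
    intro b
    have h3 : u b = (if σ b = a₀ then om h2 else 1) * w b := by
      apply Subtype.ext
      rw [hu, hxy]
      have h8 : (v * y).1 = v.1 * y.1 := rfl
      rw [h8, hym.mul_apply, hv, Rj_apply, if_pos rfl, ← hwe]
      by_cases h4 : σ b = a₀
      · rw [if_pos h4, if_pos h4]; rfl
      · rw [if_neg h4, if_neg h4]; rfl
    have h4 : w b = (if σ b = a₀ then om h2 else 1)⁻¹ * u b := by rw [h3]; group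
    have key : Cls h2 (if σ b = a₀ then 1 else 0) (if σ b = a₀ then om h2 else 1) := by
      by_cases hP : σ b = a₀
      · rw [if_pos hP, if_pos hP]; exact cls_om h2
      · rw [if_neg hP, if_neg hP]; exact Cls.of_mem h2 (one_mem _)
    rw [h4]
    have h5 := (key.inv h2).mul h2 (hc b)
    have h6 : -(if σ b = a₀ then (1 : ℤ) else 0) + c b = c b - (if σ b = a₀ then 1 else 0) := by ring
    rwa [h6] at h5
  -- the classes of the entries of `y` are constant on `A`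
  have hyi : Mono (y⁻¹).1 σ⁻¹ := by
    have := hym.star
    rwa [← coe_inv_GU] at this
  have hstep : ∀ τ ∈ T, ∀ b, w (τ b) * (w b)⁻¹ ∈ Q8 F := by
    intro τ hτ b
    obtain ⟨ρ, hρ, hρm, hρe⟩ := hyN _ (PM_mem (F := F) (Q8 F) hτ)
    have h4 : Mono (y * PM τ * y⁻¹).1 (σ * τ * σ⁻¹) := (hym.mul (PM_mono τ)).mul hyi
    have h5 := hρm.unique h4
    subst h5
    obtain ⟨q, hq, hqe⟩ := hρe (σ b)
    have h6 : (σ * τ * σ⁻¹) (σ b) = σ (τ b) := by simp
    rw [h6] at hqe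
    have h7 : (y * PM τ * y⁻¹).1 (σ (τ b)) (σ b) = y.1 (σ (τ b)) (τ b) * star (y.1 (σ b) b) := by
      have h8 : (y * PM τ * y⁻¹).1 = (y.1 * (PM τ : GU n F).1) * (y⁻¹).1 := rfl
      rw [h8, hyi.mul_apply, coe_inv_GU, Matrix.conjTranspose_apply, (PM_mono τ).mul_apply]
      have h9 : σ⁻¹ (σ b) = b := by simp
      rw [h9, PM_apply, if_pos rfl, mul_one]
    rw [h7, ← hwe, ← hwe, ← PronQ.coe_inv] at hqe
    have h10 : q = w (τ b) * (w b)⁻¹ := Subtype.ext hqe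
    rw [← h10]; exact hq
  have hconst : ∀ b ∈ A, (3 : ℤ) ∣ (c b - (if σ b = a₀ then 1 else 0)) - (c a₀ - (if σ a₀ = a₀ then 1 else 0)) := by
    intro b hb
    obtain ⟨τ, hτ, hτb⟩ := hTt a₀ ha₀ b hb
    have h3 := hstep τ hτ a₀
    rw [hτb] at h3
    have h4 := (Cls.of_mem h2 h3).mul h2 (hcw a₀)
    have h5 : w b * (w a₀)⁻¹ * w a₀ = w b := by group
    rw [h5, zero_add] at h4
    exact Cls.unique h2 (hcw b) h4
  have hsum : (3 : ℤ) ∣ ∑ b ∈ A, (c b - (if σ b = a₀ then (1 : ℤ) else 0)) := by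
    have h3 : ∑ b ∈ A, (c b - (if σ b = a₀ then (1 : ℤ) else 0)) =
        ∑ b ∈ A, ((c b - (if σ b = a₀ then (1 : ℤ) else 0)) - (c a₀ - (if σ a₀ = a₀ then 1 else 0))) +
          A.card * (c a₀ - (if σ a₀ = a₀ then 1 else 0)) := by
      rw [Finset.sum_sub_distrib (s := A) (f := fun b => (c b - (if σ b = a₀ then (1 : ℤ) else 0))), Finset.sum_const, nsmul_eq_mul]
      ring
    rw [h3]
    refine dvd_add (Finset.dvd_sum hconst) (Dvd.dvd.mul_right ?_ _)
    exact_mod_cast hA3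
  rw [Finset.sum_sub_distrib] at hsum
  have h3 : ∑ b ∈ A, (if σ b = a₀ then (1 : ℤ) else 0) = 1 := by
    rw [sum_perm (hTA σ hσ) (fun b => if b = a₀ then (1 : ℤ) else 0), Finset.sum_ite_eq' A a₀, if_pos ha₀]
  rw [h3] at hsum
  have h4 := dvd_sub hs hsum
  rw [sub_sub_cancel] at h4
  exact absurd h4 (by decide)

end main

end Cfsg.Agent.H158.PronNeg
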