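import Cfsg.Agent.H158.PronFrame
import Cfsg.Agent.OddHalf.D3.ThreeDefs

/-!
# A two by two computation (helper158)
-/

set_option autoImplicit false
set_option linter.unusedSectionVars false

namespace Cfsg.Agent.H158.PronTwo

open Quaternion Matrix Equiv
open Cfsg.Agent.H158.PronQ Cfsg.Agent.H158.PronMat Cfsg.Agent.H158.PronMono
open Cfsg.Agent.H158.PronFrame

variable {F : Type*} [Field F]

section RR

variable {n : Type*} [Fintype n] [DecidableEq n]

theorem coe_smul_eq (ν : F) (q : ℍ[F]) : (ν : ℍ[F]) * q = ν • q := Quaternion.coe_mul_eq_smul ν q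

/-- The group of reflections `1 + ν⁻¹ f (h - 1) f*` for a vector `f` of norm `ν`. -/
def RR (f : n → ℍ[F]) (ν : F) (hν : ν ≠ 0) (hf : ip f f = (ν : ℍ[F])) : U F →* GU n F where
  toFun h := ⟨1 + tv f (ν⁻¹ • ((h : ℍ[F]) - 1)) f, by
    have key : ∀ a b : ℍ[F], a * b = 1 →
        (1 + tv f (ν⁻¹ • (a - 1)) f) * (1 + tv f (ν⁻¹ • (b - 1)) f) = 1 := by
      intro a b hab
      rw [mul_add, add_mul, add_mul, tv_mul_tv, hf, one_mul, one_mul, mul_one]
      have h3 : ν⁻¹ • (a - 1) * (ν : ℍ[F]) * ν⁻¹ • (b - 1) =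
          -(ν⁻¹ • (a - 1)) - ν⁻¹ • (b - 1) := by
        rw [Quaternion.mul_coe_eq_smul, smul_smul, mul_inv_cancel₀ hν, one_smul, mul_smul_comm,
          ← smul_neg, ← smul_sub]
        congr 1
        have : (a - 1) * (b - 1) = a * b - a - b + 1 := by noncomm_ring
        rw [this, hab]; abel
      rw [h3, tv_sub]
      have h4 : tv f (-(ν⁻¹ • (a - 1))) f = - tv f (ν⁻¹ • (a - 1)) f := by
        have := tv_sub f 0 (ν⁻¹ • (a - 1)) f
        rw [zero_sub, tv_zero, zero_sub] at this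
        exact this
      rw [h4]; abel
    have h1 : (1 + tv f (ν⁻¹ • ((h : ℍ[F]) - 1)) f)ᴴ = 1 + tv f (ν⁻¹ • (star (h : ℍ[F]) - 1)) f := by
      rw [Matrix.conjTranspose_add, Matrix.conjTranspose_one, tv_conjTranspose,
        Quaternion.star_smul, star_sub, star_one]
    rw [mem_GU, h1]
    exact ⟨key _ _ (Unitary.coe_star_mul_self h), key _ _ (Unitary.coe_mul_star_self h)⟩⟩
  map_one' := by
    apply Subtype.ext
    show 1 + tv f (ν⁻¹ • ((1 : ℍ[F]) - 1)) f = 1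
    rw [sub_self, smul_zero, tv_zero, add_zero]
  map_mul' := by
    intro a b
    apply Subtype.ext
    show 1 + tv f (ν⁻¹ • ((a : ℍ[F]) * b - 1)) f =
      (1 + tv f (ν⁻¹ • ((a : ℍ[F]) - 1)) f) * (1 + tv f (ν⁻¹ • ((b : ℍ[F]) - 1)) f)
    rw [mul_add, add_mul, add_mul, tv_mul_tv, hf, one_mul, one_mul, mul_one]
    have h3 : ν⁻¹ • ((a : ℍ[F]) - 1) * (ν : ℍ[F]) * ν⁻¹ • ((b : ℍ[F]) - 1) =
        ν⁻¹ • ((a : ℍ[F]) * b - 1) - (ν⁻¹ • ((a : ℍ[F]) - 1)) - ν⁻¹ • ((b : ℍ[F]) - 1) := by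
      rw [Quaternion.mul_coe_eq_smul, smul_smul, mul_inv_cancel₀ hν, one_smul, mul_smul_comm,
        ← smul_sub, ← smul_sub]
      congr 1
      noncomm_ring
    rw [h3, tv_sub, tv_sub]; abel

theorem coe_RR (f : n → ℍ[F]) (ν : F) (hν : ν ≠ 0) (hf : ip f f = (ν : ℍ[F])) (h : U F) :
    (RR f ν hν hf h).1 = 1 + tv f (ν⁻¹ • ((h : ℍ[F]) - 1)) f := rfl

/-- Conjugation by a quaternion `u` with `ν N(u) = 1`. -/
def cjq (u : ℍ[F]) (ν : F) (hu : ν * normSq u = 1) : U F →* U F where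
  toFun h := ⟨ν • (u * h * star u), by
    rw [mem_U, normSq_smul, map_mul, map_mul, normSq_star, normSq_U]
    linear_combination (ν * normSq u + 1) * hu⟩
  map_one' := by
    apply Subtype.ext
    show ν • (u * 1 * star u) = 1
    rw [mul_one, self_mul_star, ← Quaternion.coe_smul, smul_eq_mul, hu]; rfl
  map_mul' := by
    intro a b
    apply Subtype.ext
    show ν • (u * ((a : ℍ[F]) * b) * star u) = ν • (u * a * star u) * ν • (u * b * star u)
    rw [smul_mul_smul_comm]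
    have h1 : (u * a * star u) * (u * b * star u) = normSq u • (u * ((a : ℍ[F]) * b) * star u) := by
      calc (u * a * star u) * (u * b * star u) = u * a * (star u * u) * b * star u := by
            noncomm_ring
        _ = normSq u • (u * ((a : ℍ[F]) * b) * star u) := by
            rw [star_mul_self, Quaternion.mul_coe_eq_smul, smul_mul_assoc, smul_mul_assoc]
            congr 1
            noncomm_ring
    rw [h1, smul_smul]
    congr 1
    linear_combination -ν * hu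

theorem coe_cjq (u : ℍ[F]) (ν : F) (hu : ν * normSq u = 1) (h : U F) :
    ((cjq u ν hu h : U F) : ℍ[F]) = ν • (u * h * star u) := rfl

theorem cjq_injective (u : ℍ[F]) (ν : F) (hu : ν * normSq u = 1) :
    Function.Injective (cjq u ν hu) := by
  intro a b h
  have h1 : ν • (u * (a : ℍ[F]) * star u) = ν • (u * (b : ℍ[F]) * star u) := congrArg Subtype.val h
  have hν : ν ≠ 0 := by rintro rfl; rw [zero_mul] at hu; exact zero_ne_one hu
  have hN : normSq u ≠ 0 := by intro h0; rw [h0, mul_zero] at hu; exact zero_ne_one hu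
  have h3 := smul_right_injective _ hν h1
  apply Subtype.ext
  have h4 : u * ((a : ℍ[F]) - b) * star u = 0 := by
    rw [mul_sub, sub_mul, h3, sub_self]
  have h5 := mul_eq_zero_right (by rw [normSq_star]; exact hN) h4
  exact sub_eq_zero.1 (mul_eq_zero_left hN h5)

theorem R_eq_RR {f : n → ℍ[F]} {ν : F} (hν : ν ≠ 0) (hf : ip f f = (ν : ℍ[F])) {u : ℍ[F]}
    (hu : ν * normSq u = 1) (hx : ip (fun a => f a * u) (fun a => f a * u) = 1) (h : U F) :
    R (fun a => f a * u) hx h = RR f ν hν hf (cjq u ν hu h) := by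
  apply Subtype.ext
  rw [coe_R, coe_RR, tv_smul, coe_cjq]
  congr 2
  rw [smul_sub, smul_smul, inv_mul_cancel₀ hν, one_smul, mul_sub, sub_mul, mul_one, self_mul_star]
  congr 1
  have hN : normSq u = ν⁻¹ := eq_inv_of_mul_eq_one_right hu
  rw [hN]
  exact Algebra.algebraMap_eq_smul_one (A := ℍ[F]) ν⁻¹

end RR

/-- The vector `(1, 1)`. -/
def f2 : Fin 2 → ℍ[F] := fun _ => 1

theorem ip_f2 : ip (f2 : Fin 2 → ℍ[F]) f2 = ((2 : F) : ℍ[F]) := by
  unfold ip f2
  rw [Fin.sum_univ_two, star_one, one_mul]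
  apply Quaternion.ext <;> simp
  norm_num

/-- The group of reflections for the vector `(1, 1)`. -/
def E (h2 : (2 : F) ≠ 0) : U F →* GU (Fin 2) F := RR f2 2 h2 ip_f2

theorem E_apply (h2 : (2 : F) ≠ 0) (h : U F) (a b : Fin 2) :
    (E h2 h).1 a b = (1 : Matrix (Fin 2) (Fin 2) ℍ[F]) a b + (2 : F)⁻¹ • ((h : ℍ[F]) - 1) := by
  rw [E, coe_RR, Matrix.add_apply, tv_apply]
  show _ + 1 * _ * star 1 = _
  rw [one_mul, star_one, mul_one]

theorem sc_E (h2 : (2 : F) ≠ 0) (w h : U F) :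
    sc w * E h2 h * (sc w)⁻¹ = E h2 (w * h * w⁻¹) := by
  rw [mul_inv_eq_iff_eq_mul]
  apply Subtype.ext
  ext1 a b
  rw [sc_mul_apply, mul_sc_apply, E_apply, E_apply]
  have hw : star (w : ℍ[F]) * w = 1 := Unitary.coe_star_mul_self w
  have h1 : ((w * h * w⁻¹ : U F) : ℍ[F]) = w * h * star (w : ℍ[F]) := by
    rw [Submonoid.coe_mul, Submonoid.coe_mul, PronQ.coe_inv]
  rw [h1, mul_add, add_mul, mul_smul_comm, smul_mul_assoc]
  congr 1
  · rw [Matrix.one_apply]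
    split_ifs <;> simp
  · congr 1
    calc (w : ℍ[F]) * ((h : ℍ[F]) - 1) = w * h * 1 - w := by noncomm_ring
      _ = w * h * (star (w : ℍ[F]) * w) - w := by rw [hw]
      _ = (w * h * star (w : ℍ[F]) - 1) * w := by noncomm_ring

theorem sc_eq_Rj (w : U F) : (sc w : GU (Fin 2) F) = Rj 0 w * Rj 1 w := by
  apply Subtype.ext
  ext1 a b
  rw [coe_sc, Matrix.diagonal_apply, Submonoid.coe_mul, (Rj_mono 1 w).mul_apply]
  show _ = (Rj 0 w).1 a b * (Rj 1 w).1 b b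
  rw [Rj_apply, Rj_apply]
  fin_cases a <;> fin_cases b <;> simp

theorem E_mat (h2 : (2 : F) ≠ 0) (h : U F) {p q : ℍ[F]} (hp : (2 : F)⁻¹ • (1 + (h : ℍ[F])) = p)
    (hq : (2 : F)⁻¹ • ((h : ℍ[F]) - 1) = q) : (E h2 h).1 = !![p, q; q, p] := by
  have ht := two_half h2
  have h1 : (1 : ℍ[F]) + (2 : F)⁻¹ • ((h : ℍ[F]) - 1) = (2 : F)⁻¹ • (1 + (h : ℍ[F])) := by
    apply Quaternion.ext
    · simp; linear_combination -ht
    · simp
    · simp
    · simp
  ext1 a b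
  rw [E_apply, ← hp, ← hq, ← h1]
  fin_cases a <;> fin_cases b <;> simp

theorem Rj0_mat (h : U F) : (Rj (0 : Fin 2) h).1 = !![(h : ℍ[F]), 0; 0, 1] := by
  ext1 a b
  rw [Rj_apply]
  fin_cases a <;> fin_cases b <;> simp

theorem Rj1_mat (h : U F) : (Rj (1 : Fin 2) h).1 = !![1, 0; 0, (h : ℍ[F])] := by
  ext1 a b
  rw [Rj_apply]
  fin_cases a <;> fin_cases b <;> simp

theorem sc_mat (h : U F) : (sc h : GU (Fin 2) F).1 = !![(h : ℍ[F]), 0; 0, (h : ℍ[F])] := by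
  rw [coe_sc]
  ext1 a b
  rw [Matrix.diagonal_apply]
  fin_cases a <;> fin_cases b <;> simp

theorem mat_ext {a b c d a' b' c' d' : ℍ[F]} (h1 : a = a') (h2 : b = b') (h3 : c = c')
    (h4 : d = d') : (!![a, b; c, d] : Matrix (Fin 2) (Fin 2) ℍ[F]) = !![a', b'; c', d'] := by
  rw [h1, h2, h3, h4]

/-- The word in the reflections which gives `ω⁻¹`. -/
theorem word (h2 : (2 : F) ≠ 0) :
    E h2 uJ * Rj 0 uI * E h2 uI =
      E h2 nu * Rj 1 uK * Rj 0 nu * sc (om h2)⁻¹ * E h2 uJ := by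
  have ht := two_half h2
  apply Subtype.ext
  have e1 : ((E h2 uJ * Rj 0 uI * E h2 uI : GU (Fin 2) F)).1 =
      (E h2 uJ).1 * (Rj 0 uI).1 * (E h2 uI).1 := rfl
  have e2 : ((E h2 nu * Rj 1 uK * Rj 0 nu * sc (om h2)⁻¹ * E h2 uJ : GU (Fin 2) F)).1 =
      (E h2 nu).1 * (Rj 1 uK).1 * (Rj 0 nu).1 * (sc (om h2)⁻¹ : GU (Fin 2) F).1 * (E h2 uJ).1 := rfl
  have hom : ((om h2)⁻¹ : U F).1 = mkQ (-2⁻¹) (-2⁻¹) (-2⁻¹) (-2⁻¹) := by
    rw [PronQ.coe_inv, coe_om]
    apply Quaternion.ext <;> simp [omQ]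
  rw [e1, e2, E_mat h2 uJ (p := mkQ 2⁻¹ 0 2⁻¹ 0) (q := mkQ (-2⁻¹) 0 2⁻¹ 0)
    (by apply Quaternion.ext <;> simp) (by apply Quaternion.ext <;> simp),
    E_mat h2 uI (p := mkQ 2⁻¹ 2⁻¹ 0 0) (q := mkQ (-2⁻¹) 2⁻¹ 0 0)
    (by apply Quaternion.ext <;> simp) (by apply Quaternion.ext <;> simp),
    E_mat h2 nu (p := 0) (q := -1)
    (by rw [coe_nu]; simp)
    (by
      rw [coe_nu]
      apply Quaternion.ext
      · simp; linear_combination -ht
      · simp
      · simp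
      · simp), Rj0_mat, Rj0_mat, Rj1_mat, sc_mat, hom, coe_nu, coe_uI, coe_uK]
  rw [Matrix.mul_fin_two, Matrix.mul_fin_two, Matrix.mul_fin_two, Matrix.mul_fin_two,
    Matrix.mul_fin_two, Matrix.mul_fin_two]
  apply mat_ext <;> apply Quaternion.ext <;> simp

/-- A Sylow 2-subgroup normalizing a subgroup which contains a 2-group of the same order lies in
this subgroup. -/
theorem le_of_norm {G : Type*} [Group G] [Finite G] (S : Sylow 2 G) {P X : Subgroup G}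
    (hnorm : ∀ s ∈ (S : Subgroup G), ∀ x ∈ P, s * x * s⁻¹ ∈ P) (hX : X ≤ P) (hX2 : IsPGroup 2 X)
    (hcard : Nat.card (S : Subgroup G) ≤ Nat.card X) : (S : Subgroup G) ≤ P := by
  have hcj : ∀ w ∈ (S : Subgroup G), OddHalf.D3.ThreeDefs.cj w P = P := by
    intro w hw
    apply le_antisymm
    · intro x hx
      rw [OddHalf.D3.ThreeDefs.mem_cj] at hx
      have := hnorm w hw _ hx
      have h1 : w * (w⁻¹ * x * w) * w⁻¹ = x := by group
      rwa [h1] at this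
    · intro x hx
      rw [OddHalf.D3.ThreeDefs.mem_cj]
      have := hnorm w⁻¹ (inv_mem hw) x hx
      rwa [inv_inv] at this
  obtain ⟨Q, hQP, hQ2, hQcj, hQmax⟩ := OddHalf.D3.ThreeDefs.exists_inv_syl S.isPGroup' hcj
  have hSQ : (S : Subgroup G) ≤ Subgroup.normalizer (Q : Set G) := by
    intro w hw
    rw [Subgroup.mem_normalizer_iff]
    intro x
    constructor
    · intro hx
      rw [← hQcj w hw]
      exact OddHalf.D3.ThreeDefs.conj_mem_cj hx
    · intro hx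
      rw [← hQcj w hw, OddHalf.D3.ThreeDefs.mem_cj] at hx
      have h1 : w⁻¹ * (w * x * w⁻¹) * w = x := by group
      rwa [h1] at hx
  have h3 : IsPGroup 2 (Q ⊔ (S : Subgroup G) : Subgroup G) :=
    hQ2.to_sup_of_normal_left' S.isPGroup' hSQ
  have h4 := S.is_maximal' h3 le_sup_right
  have hQS : Q ≤ (S : Subgroup G) := by
    have : Q ≤ Q ⊔ (S : Subgroup G) := le_sup_left
    rw [h4] at this
    exact this
  obtain ⟨x, hx, hxQ⟩ := hQmax X hX hX2
  have h5 : Nat.card X ≤ Nat.card Q := by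
    have h6 : Nat.card (OddHalf.D3.ThreeDefs.cj x X) = Nat.card X :=
      Subgroup.card_map_of_injective (MulAut.conj x).injective
    rw [← h6]
    exact Nat.le_of_dvd Nat.card_pos (Subgroup.card_dvd_of_le hxQ)
  have h6 : Q = (S : Subgroup G) := Subgroup.eq_of_le_of_card_ge hQS (hcard.trans h5)
  rw [← h6]
  exact hQP

/-- The two by two lemma. -/
theorem two_by_two [Finite F] (h2 : (2 : F) ≠ 0) (hns : ¬ IsSquare (2 : F))
    {L : Subgroup (GU (Fin 2) F)} (h0 : ∀ w ∈ Q8 F, Rj 0 w ∈ L) (h1 : ∀ w ∈ Q8 F, Rj 1 w ∈ L)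
    {u : ℍ[F]} (hu : 2 * normSq u = 1)
    (hx : ip (fun a => (f2 : Fin 2 → ℍ[F]) a * u) (fun a => (f2 : Fin 2 → ℍ[F]) a * u) = 1)
    (hR : ∀ w ∈ Q8 F, R (fun a => f2 a * u) hx w ∈ L) : sc (om h2) ∈ L := by
  obtain ⟨S, hS⟩ := exists_sylow_Q8 h2 hns
  have hQP : (S : Subgroup (U F)) ≤ L.comap (E h2) := by
    refine le_of_norm S (X := (Q8 F).map (cjq u 2 hu)) ?_ ?_ ?_ ?_
    · intro s hs x hx
      rw [hS] at hs
      show E h2 (s * x * s⁻¹) ∈ L
      rw [← sc_E]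
      have h3 : sc s ∈ L := by rw [sc_eq_Rj]; exact mul_mem (h0 s hs) (h1 s hs)
      exact mul_mem (mul_mem h3 hx) (inv_mem h3)
    · rintro _ ⟨w, hw, rfl⟩
      show E h2 (cjq u 2 hu w) ∈ L
      rw [E, ← R_eq_RR h2 ip_f2 hu hx]
      exact hR w hw
    · exact Q8_isPGroup.map _
    · rw [hS, Subgroup.card_map_of_injective (cjq_injective u 2 hu)]
  rw [hS] at hQP
  have hE : ∀ w ∈ Q8 F, E h2 w ∈ L := hQP
  have hnu : (nu : U F) ∈ Q8 F := Or.inr (Or.inl rfl)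
  have hw := word h2
  have h3 : sc (om h2) = (E h2 uJ * (E h2 uJ * Rj 0 uI * E h2 uI)⁻¹ *
      (E h2 nu * Rj 1 uK * Rj 0 nu)) := by
    rw [hw, map_inv]; group
  rw [h3]
  exact mul_mem (mul_mem (hE _ uJ_mem) (inv_mem (mul_mem (mul_mem (hE _ uJ_mem) (h0 _ uI_mem))
    (hE _ uI_mem)))) (mul_mem (mul_mem (hE _ hnu) (h1 _ uK_mem)) (h0 _ hnu))

end Cfsg.Agent.H158.PronTwo
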