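import Mathlib
import Cfsg.Agent.ClassicalGeometry.PSL2Basic

/-!
# Orders of centralizers of the elements of `SL(2, F)` and `PSL(2, F)`, `F` a finite field

For a non-scalar `g ∈ SL(2, F)` with trace `t` the centralizer has the order of the set of
solutions of `a ^ 2 + t a b + b ^ 2 = 1`: this is `q - 1`, `q + 1`, or `q` times the number of
square roots of `1`, when `X ^ 2 - t X + 1` has two roots, no root, one root.
-/

set_option autoImplicit false

namespace Cfsg.Agent.H158.SLTwoCent

open Matrix Subgroup

variable {F : Type*} [Field F]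

/-- The solutions of `a ^ 2 + t a b + b ^ 2 = 1`. -/
def Sol (t : F) : Set (F × F) := {p | p.1 ^ 2 + t * p.1 * p.2 + p.2 ^ 2 = 1}

/-- A matrix commuting with a non-scalar `2 × 2` matrix `g` is `a + b g`. -/
theorem exists_of_commute {g h : Matrix (Fin 2) (Fin 2) F} (hg : ∀ c : F, g ≠ c • 1)
    (hc : h * g = g * h) : ∃ a b : F, h = a • 1 + b • g := by
  have e := fun i j => congrFun (congrFun hc i) j
  have e00 := e 0 0
  have e01 := e 0 1
  have e10 := e 1 0
  have e11 := e 1 1
  simp only [Matrix.mul_apply, Fin.sum_univ_two] at e00 e01 e10 e11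
  by_cases hy : g 0 1 = 0
  · by_cases hz : g 1 0 = 0
    · have hxw : g 0 0 ≠ g 1 1 := by
        intro h1
        apply hg (g 0 0)
        ext i j
        fin_cases i <;> fin_cases j <;> simp [hy, hz, h1]
      have hd : g 0 0 - g 1 1 ≠ 0 := sub_ne_zero.2 hxw
      have h01 : h 0 1 = 0 := by
        have : (g 0 0 - g 1 1) * h 0 1 = 0 := by
          linear_combination -e01 + (h 0 0 - h 1 1) * hy
        exact (mul_eq_zero.1 this).resolve_left hd
      have h10 : h 1 0 = 0 := by
        have : (g 0 0 - g 1 1) * h 1 0 = 0 := by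
          linear_combination e10 + (h 0 0 - h 1 1) * hz
        exact (mul_eq_zero.1 this).resolve_left hd
      have hb : (h 0 0 - h 1 1) / (g 0 0 - g 1 1) * (g 0 0 - g 1 1) = h 0 0 - h 1 1 :=
        div_mul_cancel₀ _ hd
      refine ⟨h 0 0 - (h 0 0 - h 1 1) / (g 0 0 - g 1 1) * g 0 0, (h 0 0 - h 1 1) / (g 0 0 - g 1 1), ?_⟩
      ext i j
      fin_cases i <;> fin_cases j <;> simp [hy, hz, h01, h10]
      linear_combination hb
    · refine ⟨h 0 0 - h 1 0 / g 1 0 * g 0 0, h 1 0 / g 1 0, ?_⟩
      ext i j
      fin_cases i <;> fin_cases j <;> simp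
      · rw [hy]
        have : g 1 0 * h 0 1 = 0 := by rw [hy] at e00; linear_combination e00
        simpa using (mul_eq_zero.1 this).resolve_left hz
      · field_simp
      · field_simp
        linear_combination e10
  · refine ⟨h 0 0 - h 0 1 / g 0 1 * g 0 0, h 0 1 / g 0 1, ?_⟩
    ext i j
    fin_cases i <;> fin_cases j <;> simp
    · field_simp
    · field_simp
      linear_combination -e00
    · field_simp
      linear_combination -e01

/-- The determinant of `a + b g`. -/
theorem det_comb (g : SpecialLinearGroup (Fin 2) F) (a b : F) :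
    (a • (1 : Matrix (Fin 2) (Fin 2) F) + b • g.1).det =
      a ^ 2 + (g.1 0 0 + g.1 1 1) * a * b + b ^ 2 := by
  have hd : g.1 0 0 * g.1 1 1 - g.1 0 1 * g.1 1 0 = 1 := by rw [← Matrix.det_fin_two]; exact g.2
  rw [Matrix.det_fin_two]
  simp
  linear_combination (b ^ 2) * hd

/-- The centralizer of a non-scalar element is in bijection with the solutions of the conic. -/
theorem card_centralizer (g : SpecialLinearGroup (Fin 2) F) (hg : ∀ c : F, g.1 ≠ c • 1) :
    Nat.card (centralizer ({g} : Set (SpecialLinearGroup (Fin 2) F))) =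
      Nat.card (Sol (g.1 0 0 + g.1 1 1)) := by
  symm
  have hco : ∀ a b : F, (a • (1 : Matrix (Fin 2) (Fin 2) F) + b • g.1) * g.1
      = g.1 * (a • (1 : Matrix (Fin 2) (Fin 2) F) + b • g.1) := by
    intro a b
    rw [add_mul, mul_add]
    simp
  let f : Sol (g.1 0 0 + g.1 1 1) → centralizer ({g} : Set (SpecialLinearGroup (Fin 2) F)) :=
    fun p => ⟨⟨p.1.1 • (1 : Matrix (Fin 2) (Fin 2) F) + p.1.2 • g.1, by
      rw [det_comb]; exact p.2⟩,
      mem_centralizer_singleton_iff.2 (Subtype.ext (hco p.1.1 p.1.2))⟩
  apply Nat.card_congr (Equiv.ofBijective f ⟨?_, ?_⟩)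
  · rintro ⟨⟨a, b⟩, hp⟩ ⟨⟨a', b'⟩, hp'⟩ h
    have h1 : a • (1 : Matrix (Fin 2) (Fin 2) F) + b • g.1 = a' • 1 + b' • g.1 :=
      congrArg (fun x : centralizer ({g} : Set (SpecialLinearGroup (Fin 2) F)) => x.1.1) h
    have hb : b = b' := by
      by_contra hne
      have hne' : b - b' ≠ 0 := sub_ne_zero.2 hne
      apply hg ((a' - a) / (b - b'))
      have h2 : (b - b') • g.1 = (a' - a) • (1 : Matrix (Fin 2) (Fin 2) F) := by
        rw [sub_smul, sub_smul, sub_eq_sub_iff_add_eq_add, add_comm, h1, add_comm]
      rw [div_eq_inv_mul, mul_smul, ← h2, smul_smul, inv_mul_cancel₀ hne', one_smul]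
    subst hb
    have ha : a = a' := by
      have h3 : a • (1 : Matrix (Fin 2) (Fin 2) F) = a' • 1 := add_right_cancel h1
      have := congrFun (congrFun h3 0) 0
      simpa using this
    subst ha
    rfl
  · rintro ⟨h, hh⟩
    rw [mem_centralizer_singleton_iff] at hh
    have h1 : h.1 * g.1 = g.1 * h.1 := congrArg Subtype.val hh
    obtain ⟨a, b, hab⟩ := exists_of_commute hg h1
    refine ⟨⟨(a, b), ?_⟩, ?_⟩
    · have h2 := h.2
      rw [hab, det_comb] at h2
      exact h2
    · apply Subtype.ext
      apply Subtype.ext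
      exact hab.symm

section count

variable [Fintype F]

/-- Two distinct roots. -/
theorem card_sol_split {t r : F} (hr : r ≠ 0) (ht : r + r⁻¹ = t) (hr2 : r * r ≠ 1) :
    Nat.card (Sol t) = Fintype.card F - 1 := by
  classical
  have hd : r - r⁻¹ ≠ 0 := by
    intro h
    apply hr2
    have : r = r⁻¹ := sub_eq_zero.1 h
    calc r * r = r * r⁻¹ := by rw [← this]
      _ = 1 := mul_inv_cancel₀ hr
  rw [← Fintype.card_units, ← Nat.card_eq_fintype_card]
  symm
  -- `x = a + r b`, `x⁻¹ = a + r⁻¹ b`
  have key : ∀ a b : F, a ^ 2 + t * a * b + b ^ 2 = (a + r * b) * (a + r⁻¹ * b) := by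
    intro a b
    rw [← ht]
    field_simp
    ring
  let f : Fˣ → Sol t := fun x => ⟨((x : F) - r * (((x : F) - (x : F)⁻¹) / (r - r⁻¹)),
      ((x : F) - (x : F)⁻¹) / (r - r⁻¹)), by
    show _ = _
    dsimp only
    rw [key]
    have h1 : (x : F) - r * (((x : F) - (x : F)⁻¹) / (r - r⁻¹)) + r * (((x : F) - (x : F)⁻¹) / (r - r⁻¹))
        = x := by ring
    have h2 : (x : F) - r * (((x : F) - (x : F)⁻¹) / (r - r⁻¹)) + r⁻¹ * (((x : F) - (x : F)⁻¹) / (r - r⁻¹))
        = (x : F)⁻¹ := by
      have : ((x : F) - (x : F)⁻¹) / (r - r⁻¹) * (r - r⁻¹) = (x : F) - (x : F)⁻¹ :=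
        div_mul_cancel₀ _ hd
      linear_combination -this
    rw [h1, h2]
    exact mul_inv_cancel₀ x.ne_zero⟩
  apply Nat.card_congr (Equiv.ofBijective f ⟨?_, ?_⟩)
  · intro x y h
    have h1 := congrArg (fun p : Sol t => p.1.1 + r * p.1.2) h
    simp only [f] at h1
    apply Units.ext
    linear_combination h1
  · rintro ⟨⟨a, b⟩, hp⟩
    have hp1 : (a + r * b) * (a + r⁻¹ * b) = 1 := by rw [← key]; exact hp
    have hx : a + r * b ≠ 0 := left_ne_zero_of_mul_eq_one hp1
    have hinv : (a + r * b)⁻¹ = a + r⁻¹ * b := inv_eq_of_mul_eq_one_right hp1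
    refine ⟨Units.mk0 _ hx, ?_⟩
    apply Subtype.ext
    have hb : ((a + r * b) - (a + r * b)⁻¹) / (r - r⁻¹) = b := by
      rw [hinv, div_eq_iff hd]
      ring
    apply Prod.ext
    · show (a + r * b) - r * (((a + r * b) - (a + r * b)⁻¹) / (r - r⁻¹)) = a
      rw [hb]; ring
    · exact hb

/-- No root. -/
theorem card_sol_irr {t : F} (ht : ∀ x : F, x ^ 2 + t * x + 1 ≠ 0) :
    Nat.card (Sol t) = Fintype.card F + 1 := by
  classical
  rw [← Fintype.card_option, ← Nat.card_eq_fintype_card]
  symm
  let lam : F → F := fun u => -(2 * u + t) / (u ^ 2 + t * u + 1)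
  have hlam : ∀ u, lam u * (u ^ 2 + t * u + 1) = -(2 * u + t) := fun u => by
    simp only [lam]
    rw [div_mul_cancel₀ _ (ht u)]
  let f : Option F → Sol t := fun o => match o with
    | none => ⟨(-1, 0), by show _ = _; dsimp only; ring⟩
    | some u => ⟨(1 + lam u * u, lam u), by
        show _ = _
        dsimp only
        linear_combination (lam u) * hlam u⟩
  apply Nat.card_congr (Equiv.ofBijective f ⟨?_, ?_⟩)
  · intro x y h
    have h' := congrArg Subtype.val h
    have h1 := congrArg Prod.fst h'
    have h2 := congrArg Prod.snd h'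
    have nn : ∀ u, f none ≠ f (some u) := by
      intro u hu
      have h' := congrArg Subtype.val hu
      have h1 := congrArg Prod.fst h'
      have h2 := congrArg Prod.snd h'
      simp only [f] at h1 h2
      rw [← h2, zero_mul, add_zero] at h1
      -- `-1 = 1`
      have h3 := hlam u
      rw [← h2, zero_mul] at h3
      have h4 : (2 : F) = 0 := by linear_combination -h1
      have h5 : t = 0 := by linear_combination h3 - u * h4
      apply ht 1
      rw [h5]
      linear_combination h4
    cases x with
    | none =>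
      cases y with
      | none => rfl
      | some u => exact absurd h (nn u)
    | some u =>
      cases y with
      | none => exact absurd h.symm (nn u)
      | some v =>
        simp only [f] at h1 h2
        congr 1
        by_cases h0 : lam u = 0
        · have hu := hlam u
          have hv := hlam v
          rw [← h2] at hv
          rw [h0, zero_mul] at hu hv
          have h2uv : 2 * (u - v) = 0 := by linear_combination hu - hv
          rcases mul_eq_zero.1 h2uv with h4 | h4
          · exfalso
            have h5 : t = 0 := by linear_combination hu - u * h4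
            apply ht 1
            rw [h5]
            linear_combination h4
          · exact sub_eq_zero.1 h4
        · rw [← h2] at h1
          have : lam u * u = lam u * v := add_left_cancel h1
          exact mul_left_cancel₀ h0 this
  · rintro ⟨⟨a, b⟩, hp⟩
    have hp1 : a ^ 2 + t * a * b + b ^ 2 = 1 := hp
    by_cases hb : b = 0
    · subst hb
      have h1 : (a - 1) * (a + 1) = 0 := by linear_combination hp1
      by_cases h2 : a = -1
      · exact ⟨none, by apply Subtype.ext; simp [f, h2]⟩
      · have ha : a = 1 := by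
          rcases mul_eq_zero.1 h1 with h | h
          · exact sub_eq_zero.1 h
          · exact absurd (eq_neg_of_add_eq_zero_left h) h2
        subst ha
        have h20 : (2 : F) ≠ 0 := by
          intro h
          apply h2
          linear_combination h
        refine ⟨some (-t / 2), ?_⟩
        have hl : lam (-t / 2) = 0 := by
          simp only [lam]
          have : -(2 * (-t / 2) + t) = 0 := by field_simp; ring
          rw [this, zero_div]
        apply Subtype.ext
        simp [f, hl]
    · refine ⟨some ((a - 1) / b), ?_⟩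
      have hl : lam ((a - 1) / b) = b := by
        have h3 := hlam ((a - 1) / b)
        have hne := ht ((a - 1) / b)
        have h4 : b * (((a - 1) / b) ^ 2 + t * ((a - 1) / b) + 1) = -(2 * ((a - 1) / b) + t) := by
          field_simp
          linear_combination hp1
        exact mul_right_cancel₀ hne (h3.trans h4.symm)
      apply Subtype.ext
      apply Prod.ext
      · show 1 + lam ((a - 1) / b) * ((a - 1) / b) = a
        rw [hl]
        field_simp
        ring
      · exact hl

/-- One root. -/
theorem card_sol_unip {t r : F} (hr : r * r = 1) (ht : t = 2 * r) :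
    Nat.card (Sol t) = Nat.card {x : F // x * x = 1} * Fintype.card F := by
  classical
  rw [← Nat.card_eq_fintype_card, ← Nat.card_prod]
  have key : ∀ a b : F, a ^ 2 + t * a * b + b ^ 2 = (a + r * b) * (a + r * b) := by
    intro a b
    rw [ht]
    linear_combination -(b ^ 2) * hr
  let f : {x : F // x * x = 1} × F → Sol t := fun p => ⟨(p.1.1 - r * p.2, p.2), by
    show _ = _
    dsimp only
    rw [key]
    have : p.1.1 - r * p.2 + r * p.2 = p.1.1 := by ring
    rw [this]
    exact p.1.2⟩
  symm
  apply Nat.card_congr (Equiv.ofBijective f ⟨?_, ?_⟩)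
  · rintro ⟨⟨x, hx⟩, b⟩ ⟨⟨x', hx'⟩, b'⟩ h
    have h' := congrArg Subtype.val h
    have h1 := congrArg Prod.fst h'
    have h2 := congrArg Prod.snd h'
    simp only [f] at h1 h2
    subst h2
    have : x = x' := by linear_combination h1
    subst this
    rfl
  · rintro ⟨⟨a, b⟩, hp⟩
    have hp1 : (a + r * b) * (a + r * b) = 1 := by rw [← key]; exact hp
    refine ⟨(⟨a + r * b, hp1⟩, b), ?_⟩
    apply Subtype.ext
    simp [f]

omit [Fintype F] in
theorem card_sqrt_one_even (h2 : (2 : F) = 0) : Nat.card {x : F // x * x = 1} = 1 := by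
  rw [Nat.card_eq_one_iff_unique]
  refine ⟨⟨?_⟩, ⟨⟨1, by ring⟩⟩⟩
  rintro ⟨x, hx⟩ ⟨y, hy⟩
  apply Subtype.ext
  have : ∀ x : F, x * x = 1 → x = 1 := by
    intro x hx
    have h1 : (x - 1) * (x - 1) = 0 := by linear_combination hx - (x - 1) * h2
    have := mul_self_eq_zero.1 h1
    exact sub_eq_zero.1 this
  show x = y
  rw [this x hx, this y hy]

omit [Fintype F] in
theorem card_sqrt_one_odd (h2 : (2 : F) ≠ 0) : Nat.card {x : F // x * x = 1} = 2 := by
  classical
  have h1 : (1 : F) ≠ -1 := by
    intro h
    apply h2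
    linear_combination h
  have : ({x : F | x * x = 1} : Set F) = {1, -1} := by
    ext x
    simp only [Set.mem_ofPred_eq, Set.mem_insert_iff, Set.mem_singleton_iff]
    exact mul_self_eq_one_iff
  have h3 : Nat.card ({x : F | x * x = 1} : Set F) = 2 := by
    rw [this, Nat.card_coe_set_eq, Set.ncard_pair h1]
  exact h3

end count

end Cfsg.Agent.H158.SLTwoCent
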