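import Mathlib
import Cfsg.Agent.H158.SLTwoCent
import Cfsg.Agent.ClassicalGeometry.SLTwoFour

/-!
# Sizes of the conjugacy classes of `PSL(2, F)`, `F` a finite field
-/

set_option autoImplicit false

namespace Cfsg.Agent.H158.PslTwoClass

open Matrix Subgroup
open Cfsg.Agent.H158.SLTwoCent

variable {F : Type*} [Field F]

/-- The inverse image in `SL(2, F)` of the centralizer of the image of `g`. -/
def pre (g : SpecialLinearGroup (Fin 2) F) : Subgroup (SpecialLinearGroup (Fin 2) F) :=
  (centralizer ({(QuotientGroup.mk g : ProjectiveSpecialLinearGroup (Fin 2) F)} :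
    Set (ProjectiveSpecialLinearGroup (Fin 2) F))).comap
      (QuotientGroup.mk' (center (SpecialLinearGroup (Fin 2) F)))

theorem index_pre (g : SpecialLinearGroup (Fin 2) F) :
    (centralizer ({(QuotientGroup.mk g : ProjectiveSpecialLinearGroup (Fin 2) F)} :
      Set (ProjectiveSpecialLinearGroup (Fin 2) F))).index = (pre g).index :=
  (index_comap_of_surjective _ (QuotientGroup.mk'_surjective _)).symm

theorem mem_pre {g h : SpecialLinearGroup (Fin 2) F} :
    h ∈ pre g ↔ ∃ c : F, c ^ 2 = 1 ∧ g.1 * h.1 = c • (h.1 * g.1) := by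
  have h1 : h ∈ pre g ↔ (h * g)⁻¹ * (g * h) ∈ center (SpecialLinearGroup (Fin 2) F) := by
    unfold pre
    rw [mem_comap, mem_centralizer_singleton_iff]
    exact QuotientGroup.eq (s := center (SpecialLinearGroup (Fin 2) F)) (a := h * g) (b := g * h)
  rw [h1, Matrix.SpecialLinearGroup.mem_center_iff]
  constructor
  · rintro ⟨r, hr, h2⟩
    refine ⟨r, by simpa using hr, ?_⟩
    have h3 : (h * g) * ((h * g)⁻¹ * (g * h)) = g * h := by group
    have h4 : (h * g).1 * ((h * g)⁻¹ * (g * h)).1 = (g * h).1 := congrArg Subtype.val h3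
    have h5 : (h.1 * g.1) * scalar (Fin 2) r = g.1 * h.1 := by
      rw [h2]
      exact h4
    rw [← h5, scalar_apply, ← smul_one_eq_diagonal, mul_smul_comm, mul_one]
  · rintro ⟨c, hc, h2⟩
    refine ⟨c, by simpa using hc, ?_⟩
    have h3 : (h * g) * ((h * g)⁻¹ * (g * h)) = g * h := by group
    have h4 : (h * g).1 * ((h * g)⁻¹ * (g * h)).1 = g.1 * h.1 := congrArg Subtype.val h3
    have h5 : (h * g).1 * scalar (Fin 2) c = g.1 * h.1 := by
      rw [h2, scalar_apply, ← smul_one_eq_diagonal, mul_smul_comm, mul_one]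
      rfl
    have h6 : IsUnit (h * g).1 := by
      rw [Matrix.isUnit_iff_isUnit_det, (h * g).2]
      exact isUnit_one
    exact h6.mul_left_cancel (h5.trans h4.symm)

theorem centralizer_le_pre (g : SpecialLinearGroup (Fin 2) F) :
    centralizer ({g} : Set (SpecialLinearGroup (Fin 2) F)) ≤ pre g := by
  intro h hh
  rw [mem_centralizer_singleton_iff] at hh
  rw [mem_pre]
  refine ⟨1, by ring, ?_⟩
  rw [one_smul]
  exact (congrArg Subtype.val hh).symm

theorem trace_cond {g h : SpecialLinearGroup (Fin 2) F} {c : F}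
    (h1 : g.1 * h.1 = c • (h.1 * g.1)) : (c - 1) * (g.1 0 0 + g.1 1 1) = 0 := by
  have h2 : h.1 * (h⁻¹).1 = 1 := by
    have := congrArg Subtype.val (mul_inv_cancel h)
    exact this
  have h3 : g.1 = c • (h.1 * g.1 * (h⁻¹).1) := by
    rw [← smul_mul_assoc, ← h1, mul_assoc, h2, mul_one]
  have h4 : (h⁻¹).1 * h.1 = 1 := by
    have := congrArg Subtype.val (inv_mul_cancel h)
    exact this
  have h5 := congrArg Matrix.trace h3
  rw [Matrix.trace_smul, mul_assoc, Matrix.trace_mul_comm h.1, mul_assoc, h4, mul_one,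
    Matrix.trace_fin_two, smul_eq_mul] at h5
  linear_combination -h5

/-- The inverse image is the centralizer if the trace is not zero or the characteristic is two. -/
theorem pre_eq {g : SpecialLinearGroup (Fin 2) F} (h : (2 : F) = 0 ∨ g.1 0 0 + g.1 1 1 ≠ 0) :
    pre g = centralizer ({g} : Set (SpecialLinearGroup (Fin 2) F)) := by
  apply le_antisymm _ (centralizer_le_pre g)
  intro x hx
  obtain ⟨c, hc, h1⟩ := mem_pre.1 hx
  have hc1 : c = 1 := by
    rcases h with h | h
    · have : (c - 1) * (c - 1) = 0 := by linear_combination hc - (c - 1) * h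
      exact sub_eq_zero.1 (mul_self_eq_zero.1 this)
    · exact sub_eq_zero.1 ((mul_eq_zero.1 (trace_cond h1)).resolve_right h)
  rw [mem_centralizer_singleton_iff]
  apply Subtype.ext
  rw [hc1, one_smul] at h1
  exact h1.symm

theorem mul_self_of_trace {g : SpecialLinearGroup (Fin 2) F} (h : g.1 0 0 + g.1 1 1 = 0) :
    g * g = -1 := by
  have hd : g.1 0 0 * g.1 1 1 - g.1 0 1 * g.1 1 0 = 1 := by rw [← Matrix.det_fin_two]; exact g.2
  apply Subtype.ext
  ext i j
  have h1 : (g * g).1 = g.1 * g.1 := rfl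
  rw [h1]
  have h2 : ((-1 : SpecialLinearGroup (Fin 2) F)).1 = -1 := rfl
  rw [h2, Matrix.mul_apply, Fin.sum_univ_two]
  fin_cases i <;> fin_cases j <;> simp
  · linear_combination g.1 0 0 * h - hd
  · linear_combination g.1 0 1 * h
  · linear_combination g.1 1 0 * h
  · linear_combination g.1 1 1 * h - hd

/-- The order of the inverse image for elements of trace zero in odd characteristic. -/
theorem card_pre_trace_zero [Fintype F] (hodd : Odd (Fintype.card F))
    {g : SpecialLinearGroup (Fin 2) F} (h : g.1 0 0 + g.1 1 1 = 0) :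
    Nat.card (pre g) = 2 * Nat.card (centralizer ({g} : Set (SpecialLinearGroup (Fin 2) F))) := by
  have h2 : (2 : F) ≠ 0 := ClassicalGeometry.SLTwoFour.two_ne_zero_of_odd hodd
  have hgg := mul_self_of_trace h
  have hgg' : (-g) * (-g) = -1 := by rw [neg_mul_neg, hgg]
  obtain ⟨a, ha⟩ := ClassicalGeometry.SLTwoFour.exists_conj_w hodd g hgg
  obtain ⟨b, hb⟩ := ClassicalGeometry.SLTwoFour.exists_conj_w hodd (-g) hgg'
  obtain ⟨k, hk⟩ : ∃ k : SpecialLinearGroup (Fin 2) F, k * g = -g * k := by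
    refine ⟨b * a⁻¹, ?_⟩
    rw [← hb]
    conv_lhs => rw [← ha]
    group
  have hkm : g.1 * k.1 = (-1 : F) • (k.1 * g.1) := by
    have h1 : k.1 * g.1 = -g.1 * k.1 := congrArg Subtype.val hk
    rw [h1]
    simp
  have hkp : k ∈ pre g := mem_pre.2 ⟨-1, by ring, hkm⟩
  have hind : ((centralizer ({g} : Set (SpecialLinearGroup (Fin 2) F))).subgroupOf (pre g)).index = 2 := by
    rw [index_eq_two_iff]
    refine ⟨⟨k, hkp⟩, ?_⟩
    rintro ⟨x, hx⟩
    rw [mem_subgroupOf, mem_subgroupOf]
    obtain ⟨c, hc, h1⟩ := mem_pre.1 hx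
    have hxg : x ∈ centralizer ({g} : Set (SpecialLinearGroup (Fin 2) F)) ↔ c = 1 := by
      rw [mem_centralizer_singleton_iff]
      constructor
      · intro h3
        have h4 : x.1 * g.1 = g.1 * x.1 := congrArg Subtype.val h3
        have h5 : (1 - c) • (x.1 * g.1) = 0 := by
          rw [sub_smul, one_smul, ← h1, h4, sub_self]
        rcases smul_eq_zero.1 h5 with h6 | h6
        · exact (sub_eq_zero.1 h6).symm
        · exfalso
          have h7 := congrArg Matrix.det h6
          rw [Matrix.det_mul, x.2, g.2] at h7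
          simp at h7
      · intro h3
        apply Subtype.ext
        rw [h3, one_smul] at h1
        exact h1.symm
    have hxk : x * k ∈ centralizer ({g} : Set (SpecialLinearGroup (Fin 2) F)) ↔ c = -1 := by
      have e1 : g.1 * (x * k).1 = (-c) • ((x * k).1 * g.1) := by
        have e2 : (x * k).1 = x.1 * k.1 := rfl
        rw [e2, ← mul_assoc, h1, smul_mul_assoc, mul_assoc, hkm, mul_smul_comm, smul_smul, mul_assoc]
        simp
      rw [mem_centralizer_singleton_iff]
      constructor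
      · intro h3
        have h4 : (x * k).1 * g.1 = g.1 * (x * k).1 := congrArg Subtype.val h3
        have h5 : (1 + c) • ((x * k).1 * g.1) = 0 := by
          have : (1 + c) = 1 - (-c) := by ring
          rw [this, sub_smul, one_smul, ← e1, h4, sub_self]
        rcases smul_eq_zero.1 h5 with h6 | h6
        · linear_combination h6
        · exfalso
          have h7 := congrArg Matrix.det h6
          rw [Matrix.det_mul, (x * k).2, g.2] at h7
          simp at h7
      · intro h3
        apply Subtype.ext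
        rw [h3, neg_neg, one_smul] at e1
        exact e1.symm
    show Xor (x * k ∈ centralizer ({g} : Set (SpecialLinearGroup (Fin 2) F))) (x ∈ centralizer ({g} : Set (SpecialLinearGroup (Fin 2) F)))
    rw [hxk, hxg]
    have h11 : (1 : F) ≠ -1 := by
      intro h
      apply h2
      linear_combination h
    have hc1 : c = 1 ∨ c = -1 := mul_self_eq_one_iff.1 (by rw [← sq]; exact hc)
    rcases hc1 with rfl | rfl
    · exact Or.inr ⟨rfl, h11⟩
    · exact Or.inl ⟨rfl, fun h => h11 h.symm⟩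
  have h3 := card_mul_index ((centralizer ({g} : Set (SpecialLinearGroup (Fin 2) F))).subgroupOf (pre g))
  rw [hind, Nat.card_congr (subgroupOfEquivOfLe (centralizer_le_pre g)).toEquiv] at h3
  omega

/-! ### The index of the inverse image -/

section idx

variable [Fintype F]

theorem card_mul_index_pre (g : SpecialLinearGroup (Fin 2) F) :
    Nat.card (pre g) * (pre g).index = Fintype.card F * (Fintype.card F ^ 2 - 1) := by
  rw [card_mul_index]
  exact ClassicalGeometry.PSL2Basic.card_SL2 F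

theorem sq_sub_one (q : ℕ) (hq : 1 ≤ q) : q ^ 2 - 1 = (q - 1) * (q + 1) := by
  obtain ⟨k, rfl⟩ : ∃ k, q = k + 1 := ⟨q - 1, by omega⟩
  have : (k + 1) ^ 2 = k * (k + 2) + 1 := by ring
  rw [this]
  simp

theorem arith_split {q n : ℕ} (hq : 2 ≤ q) (h : (q - 1) * n = q * (q ^ 2 - 1)) :
    n = q * (q + 1) := by
  rw [sq_sub_one q (by omega)] at h
  have h1 : (q - 1) * n = (q - 1) * (q * (q + 1)) := by rw [h]; ring
  exact Nat.eq_of_mul_eq_mul_left (by omega) h1

theorem arith_irr {q n : ℕ} (hq : 2 ≤ q) (h : (q + 1) * n = q * (q ^ 2 - 1)) :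
    n = q * (q - 1) := by
  rw [sq_sub_one q (by omega)] at h
  have h1 : (q + 1) * n = (q + 1) * (q * (q - 1)) := by rw [h]; ring
  exact Nat.eq_of_mul_eq_mul_left (by omega) h1

theorem index_split {g : SpecialLinearGroup (Fin 2) F} (hg : ∀ c : F, g.1 ≠ c • 1)
    (h : (2 : F) = 0 ∨ g.1 0 0 + g.1 1 1 ≠ 0) {r : F} (hr : r ≠ 0)
    (ht : r + r⁻¹ = g.1 0 0 + g.1 1 1) (hr2 : r * r ≠ 1) :
    (pre g).index = Fintype.card F * (Fintype.card F + 1) := by
  have h1 := card_mul_index_pre g
  rw [pre_eq h, card_centralizer g hg, card_sol_split hr ht hr2, ← pre_eq h] at h1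
  exact arith_split Fintype.one_lt_card h1

theorem index_irr {g : SpecialLinearGroup (Fin 2) F} (hg : ∀ c : F, g.1 ≠ c • 1)
    (h : (2 : F) = 0 ∨ g.1 0 0 + g.1 1 1 ≠ 0)
    (ht : ∀ x : F, x ^ 2 + (g.1 0 0 + g.1 1 1) * x + 1 ≠ 0) :
    (pre g).index = Fintype.card F * (Fintype.card F - 1) := by
  have h1 := card_mul_index_pre g
  rw [pre_eq h, card_centralizer g hg, card_sol_irr ht, ← pre_eq h] at h1
  exact arith_irr Fintype.one_lt_card h1

theorem index_unip_even {g : SpecialLinearGroup (Fin 2) F} (hg : ∀ c : F, g.1 ≠ c • 1)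
    (h : (2 : F) = 0) {r : F} (hr : r * r = 1) (ht : g.1 0 0 + g.1 1 1 = 2 * r) :
    (pre g).index = Fintype.card F ^ 2 - 1 := by
  have h1 := card_mul_index_pre g
  rw [pre_eq (Or.inl h), card_centralizer g hg, card_sol_unip hr ht, card_sqrt_one_even h,
    ← pre_eq (Or.inl h), one_mul] at h1
  exact Nat.eq_of_mul_eq_mul_left Fintype.card_pos h1

theorem index_unip_odd {g : SpecialLinearGroup (Fin 2) F} (hg : ∀ c : F, g.1 ≠ c • 1)
    (h : (2 : F) ≠ 0) {r : F} (hr : r * r = 1) (ht : g.1 0 0 + g.1 1 1 = 2 * r) :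
    (pre g).index = (Fintype.card F ^ 2 - 1) / 2 := by
  have h1 := card_mul_index_pre g
  have ht0 : g.1 0 0 + g.1 1 1 ≠ 0 := by
    rw [ht]
    exact mul_ne_zero h (left_ne_zero_of_mul_eq_one hr)
  rw [pre_eq (Or.inr ht0), card_centralizer g hg, card_sol_unip hr ht, card_sqrt_one_odd h,
    ← pre_eq (Or.inr ht0)] at h1
  have h2 : 2 * (pre g).index = Fintype.card F ^ 2 - 1 := by
    apply Nat.eq_of_mul_eq_mul_left (Fintype.card_pos (α := F))
    rw [← h1]
    ring
  omega

theorem index_split_zero (hodd : Odd (Fintype.card F)) {g : SpecialLinearGroup (Fin 2) F}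
    (hg : ∀ c : F, g.1 ≠ c • 1) (h : g.1 0 0 + g.1 1 1 = 0) {r : F} (hr : r ≠ 0)
    (ht : r + r⁻¹ = g.1 0 0 + g.1 1 1) (hr2 : r * r ≠ 1) :
    (pre g).index = Fintype.card F * (Fintype.card F + 1) / 2 := by
  have h1 := card_mul_index_pre g
  rw [card_pre_trace_zero hodd h, card_centralizer g hg, card_sol_split hr ht hr2] at h1
  have h2 := arith_split (n := 2 * (pre g).index) Fintype.one_lt_card (by rw [← h1]; ring)
  omega

theorem index_irr_zero (hodd : Odd (Fintype.card F)) {g : SpecialLinearGroup (Fin 2) F}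
    (hg : ∀ c : F, g.1 ≠ c • 1) (h : g.1 0 0 + g.1 1 1 = 0)
    (ht : ∀ x : F, x ^ 2 + (g.1 0 0 + g.1 1 1) * x + 1 ≠ 0) :
    (pre g).index = Fintype.card F * (Fintype.card F - 1) / 2 := by
  have h1 := card_mul_index_pre g
  rw [card_pre_trace_zero hodd h, card_centralizer g hg, card_sol_irr ht] at h1
  have h2 := arith_irr (n := 2 * (pre g).index) Fintype.one_lt_card (by rw [← h1]; ring)
  omega

omit [Fintype F] in
theorem index_scalar {g : SpecialLinearGroup (Fin 2) F} {c : F} (hg : g.1 = c • 1) :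
    (pre g).index = 1 := by
  rw [index_eq_one, eq_top_iff]
  intro x _
  rw [mem_pre]
  refine ⟨1, by ring, ?_⟩
  rw [hg, one_smul]
  simp

omit [Fintype F] in
theorem cases_t (t : F) : (∃ r : F, r ≠ 0 ∧ r + r⁻¹ = t ∧ r * r ≠ 1) ∨
    (∃ r : F, r * r = 1 ∧ t = 2 * r) ∨ (∀ x : F, x ^ 2 + t * x + 1 ≠ 0) := by
  by_cases h : ∀ x : F, x ^ 2 + t * x + 1 ≠ 0
  · exact Or.inr (Or.inr h)
  · push Not at h
    obtain ⟨x, hx⟩ := h
    have hx0 : x ≠ 0 := by
      rintro rfl
      simp at hx
    have h1 : -x + (-x)⁻¹ = t := by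
      field_simp
      linear_combination -hx
    by_cases h2 : x * x = 1
    · refine Or.inr (Or.inl ⟨-x, by rw [neg_mul_neg, h2], ?_⟩)
      have h3 : (-x)⁻¹ = -x := inv_eq_of_mul_eq_one_right (by rw [neg_mul_neg, h2])
      rw [h3] at h1
      rw [← h1]
      ring
    · exact Or.inl ⟨-x, neg_ne_zero.2 hx0, h1, by rwa [neg_mul_neg]⟩

/-- The companion matrix of trace `t`. -/
def cmp (t : F) : SpecialLinearGroup (Fin 2) F := ⟨!![0, -1; 1, t], by simp [Matrix.det_fin_two]⟩

omit [Fintype F] in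
theorem cmp_trace (t : F) : (cmp t).1 0 0 + (cmp t).1 1 1 = t := by
  simp [cmp]

omit [Fintype F] in
theorem cmp_ne (t : F) : ∀ c : F, (cmp t).1 ≠ c • 1 := by
  intro c h
  have := congrFun (congrFun h 1) 0
  simp [cmp] at this

omit [Fintype F] in
theorem range_eq : Set.range (fun g : (Matrix.ProjectiveSpecialLinearGroup (Fin 2) F) =>
      (centralizer ({g} : Set (Matrix.ProjectiveSpecialLinearGroup (Fin 2) F))).index) =
    Set.range (fun g : SpecialLinearGroup (Fin 2) F => (pre g).index) := by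
  ext n
  constructor
  · rintro ⟨x, rfl⟩
    obtain ⟨g, rfl⟩ := QuotientGroup.mk_surjective x
    exact ⟨g, (index_pre g).symm⟩
  · rintro ⟨g, rfl⟩
    exact ⟨QuotientGroup.mk g, index_pre g⟩

/-- There is a trace `t` without roots. -/
theorem exists_irr : ∃ t : F, ∀ x : F, x ^ 2 + t * x + 1 ≠ 0 := by
  classical
  by_contra hcon
  push Not at hcon
  have hs : Function.Surjective (fun u : Fˣ => -((u : F) + (u : F)⁻¹)) := by
    intro t
    obtain ⟨x, hx⟩ := hcon t
    have hx0 : x ≠ 0 := by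
      rintro rfl
      simp at hx
    refine ⟨Units.mk0 x hx0, ?_⟩
    show -(x + x⁻¹) = t
    field_simp
    linear_combination -hx
  have h1 := Fintype.card_le_of_surjective _ hs
  rw [Fintype.card_units] at h1
  have := Fintype.one_lt_card (α := F)
  omega

/-- There is a trace `t ≠ 0` without roots, if `0` has none. -/
theorem exists_irr_ne_zero {r : F} (hr : r ≠ 0) (hr2 : r * r ≠ 1)
    (h0 : ∀ x : F, x ^ 2 + 1 ≠ 0) : ∃ t : F, t ≠ 0 ∧ ∀ x : F, x ^ 2 + t * x + 1 ≠ 0 := by
  classical
  by_contra hcon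
  push Not at hcon
  have key : ∀ t : F, t ≠ 0 → ∃ u : Fˣ, -((u : F) + (u : F)⁻¹) = t := by
    intro t ht
    obtain ⟨x, hx⟩ := hcon t ht
    have hx0 : x ≠ 0 := by
      rintro rfl
      simp at hx
    refine ⟨Units.mk0 x hx0, ?_⟩
    show -(x + x⁻¹) = t
    field_simp
    linear_combination -hx
  have hne : ∀ u : Fˣ, -((u : F) + (u : F)⁻¹) ≠ 0 := by
    intro u hu
    apply h0 (u : F)
    have h1 : (u : F) * (u : F)⁻¹ = 1 := mul_inv_cancel₀ u.ne_zero
    linear_combination -(u : F) * hu - h1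
  let f : Fˣ → Fˣ := fun u => Units.mk0 _ (hne u)
  have hs : Function.Surjective f := by
    intro t
    obtain ⟨u, hu⟩ := key t t.ne_zero
    exact ⟨u, Units.ext hu⟩
  have hi : Function.Injective f := Finite.injective_iff_surjective.2 hs
  have h1 : f (Units.mk0 r hr) = f (Units.mk0 r hr)⁻¹ := by
    apply Units.ext
    show -(((Units.mk0 r hr : Fˣ) : F) + ((Units.mk0 r hr : Fˣ) : F)⁻¹)
      = -((((Units.mk0 r hr)⁻¹ : Fˣ) : F) + (((Units.mk0 r hr)⁻¹ : Fˣ) : F)⁻¹)
    rw [Units.val_inv_eq_inv_val, inv_inv]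
    ring
  have h2 := congrArg Units.val (hi h1)
  rw [Units.val_inv_eq_inv_val, Units.val_mk0] at h2
  apply hr2
  calc r * r = r * r⁻¹ := by rw [← h2]
    _ = 1 := mul_inv_cancel₀ hr

theorem even_main (h2 : (2 : F) = 0) (h4 : 4 ≤ Fintype.card F) :
    Set.range (fun g : SpecialLinearGroup (Fin 2) F => (pre g).index) =
      {1, Fintype.card F * (Fintype.card F - 1), Fintype.card F ^ 2 - 1,
        Fintype.card F * (Fintype.card F + 1)} := by
  classical
  ext n
  simp only [Set.mem_range, Set.mem_insert_iff, Set.mem_singleton_iff]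
  constructor
  · rintro ⟨g, rfl⟩
    by_cases hg : ∃ c : F, g.1 = c • 1
    · obtain ⟨c, hc⟩ := hg
      exact Or.inl (index_scalar hc)
    · push Not at hg
      rcases cases_t (g.1 0 0 + g.1 1 1) with ⟨r, hr, ht, hr2⟩ | ⟨r, hr, ht⟩ | ht
      · exact Or.inr (Or.inr (Or.inr (index_split hg (Or.inl h2) hr ht hr2)))
      · exact Or.inr (Or.inr (Or.inl (index_unip_even hg h2 hr ht)))
      · exact Or.inr (Or.inl (index_irr hg (Or.inl h2) ht))
  · rintro (rfl | rfl | rfl | rfl)
    · exact ⟨1, index_scalar (c := 1) (by simp)⟩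
    · obtain ⟨t, ht⟩ := exists_irr (F := F)
      exact ⟨cmp t, index_irr (cmp_ne t) (Or.inl h2) (by rw [cmp_trace]; exact ht)⟩
    · exact ⟨cmp (2 * 1), index_unip_even (cmp_ne _) h2 (r := 1) (by ring) (cmp_trace _)⟩
    · obtain ⟨r, hr⟩ : ∃ r : F, r ∉ ({0, 1} : Finset F) := by
        by_contra hcon
        push Not at hcon
        have := Finset.card_le_card (s := Finset.univ) (t := ({0, 1} : Finset F)) (fun x _ => hcon x)
        rw [Finset.card_univ] at this
        have h3 : ({0, 1} : Finset F).card ≤ 2 := Finset.card_le_two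
        omega
      simp only [Finset.mem_insert, Finset.mem_singleton, not_or] at hr
      have hr2 : r * r ≠ 1 := by
        intro h
        have : (r - 1) * (r - 1) = 0 := by linear_combination h - (r - 1) * h2
        exact hr.2 (sub_eq_zero.1 (mul_self_eq_zero.1 this))
      exact ⟨cmp (r + r⁻¹), index_split (cmp_ne _) (Or.inl h2) hr.1 (cmp_trace _).symm hr2⟩

/-- In a field with more than `5` elements some `r` is not a fourth root of `1`. -/
theorem exists_not_fourth (h6 : 6 ≤ Fintype.card F) :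
    ∃ r : F, r ≠ 0 ∧ r * r ≠ 1 ∧ r * r ≠ -1 := by
  classical
  have hX : (Polynomial.X ^ 5 - Polynomial.X : Polynomial F) ≠ 0 := by
    intro h
    have := congrArg (fun p => Polynomial.coeff p 5) h
    simp [Polynomial.coeff_X] at this
  have h1 : (Polynomial.X ^ 5 - Polynomial.X : Polynomial F).roots.toFinset.card ≤ 5 := by
    refine (Multiset.toFinset_card_le _).trans ((Polynomial.card_roots' _).trans ?_)
    refine (Polynomial.natDegree_sub_le _ _).trans ?_
    simp
  obtain ⟨r, hr⟩ : ∃ r : F, r ∉ (Polynomial.X ^ 5 - Polynomial.X : Polynomial F).roots.toFinset := by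
    by_contra hcon
    push Not at hcon
    have := Finset.card_le_card (s := Finset.univ) (t := _) (fun x _ => hcon x)
    rw [Finset.card_univ] at this
    omega
  rw [Multiset.mem_toFinset, Polynomial.mem_roots hX, Polynomial.IsRoot.def] at hr
  simp only [Polynomial.eval_sub, Polynomial.eval_pow, Polynomial.eval_X] at hr
  refine ⟨r, ?_, ?_, ?_⟩
  · rintro rfl
    apply hr
    ring
  · intro h
    apply hr
    linear_combination (r ^ 3 + r) * h
  · intro h
    apply hr
    linear_combination (r ^ 3 - r) * h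

theorem odd_main_one (hodd : Odd (Fintype.card F)) (h7 : 7 ≤ Fintype.card F)
    (hq : Fintype.card F % 4 = 1) :
    Set.range (fun g : SpecialLinearGroup (Fin 2) F => (pre g).index) =
      {1, (Fintype.card F ^ 2 - 1) / 2, Fintype.card F * (Fintype.card F + 1) / 2,
          Fintype.card F * (Fintype.card F - 1), Fintype.card F * (Fintype.card F + 1)} := by
  classical
  have h2 : (2 : F) ≠ 0 := ClassicalGeometry.SLTwoFour.two_ne_zero_of_odd hodd
  have hsq : IsSquare (-1 : F) := by
    rw [FiniteField.isSquare_neg_one_iff]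
    omega
  obtain ⟨i, hi⟩ := hsq
  have hi0 : i ≠ 0 := by
    rintro rfl
    simp at hi
  have hi1 : i * i ≠ 1 := by
    rw [← hi]
    intro h
    apply h2
    linear_combination -h
  have hii : i + i⁻¹ = 0 := by
    have h3 : i * i⁻¹ = 1 := mul_inv_cancel₀ hi0
    have h4 : i * (i + i⁻¹) = 0 := by linear_combination h3 - hi
    exact (mul_eq_zero.1 h4).resolve_left hi0
  ext n
  simp only [Set.mem_range, Set.mem_insert_iff, Set.mem_singleton_iff]
  constructor
  · rintro ⟨g, rfl⟩
    by_cases hg : ∃ c : F, g.1 = c • 1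
    · obtain ⟨c, hc⟩ := hg
      exact Or.inl (index_scalar hc)
    · push Not at hg
      by_cases ht0 : g.1 0 0 + g.1 1 1 = 0
      · exact Or.inr (Or.inr (Or.inl (index_split_zero hodd hg ht0 hi0 (hii.trans ht0.symm) hi1)))
      · rcases cases_t (g.1 0 0 + g.1 1 1) with ⟨r, hr, ht, hr2⟩ | ⟨r, hr, ht⟩ | ht
        · exact Or.inr (Or.inr (Or.inr (Or.inr (index_split hg (Or.inr ht0) hr ht hr2))))
        · exact Or.inr (Or.inl (index_unip_odd hg h2 hr ht))
        · exact Or.inr (Or.inr (Or.inr (Or.inl (index_irr hg (Or.inr ht0) ht))))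
  · rintro (rfl | rfl | rfl | rfl | rfl)
    · exact ⟨1, index_scalar (c := 1) (by simp)⟩
    · exact ⟨cmp (2 * 1), index_unip_odd (cmp_ne _) h2 (r := 1) (by ring) (cmp_trace _)⟩
    · exact ⟨cmp 0, index_split_zero hodd (cmp_ne _) (cmp_trace _) hi0
        (hii.trans (cmp_trace _).symm) hi1⟩
    · obtain ⟨t, ht⟩ := exists_irr (F := F)
      have ht0 : t ≠ 0 := by
        rintro rfl
        apply ht i
        linear_combination -hi
      exact ⟨cmp t, index_irr (cmp_ne t) (Or.inr (by rwa [cmp_trace])) (by rw [cmp_trace]; exact ht)⟩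
    · obtain ⟨r, hr0, hr1, hr2⟩ := exists_not_fourth (F := F) (by omega)
      refine ⟨cmp (r + r⁻¹), index_split (cmp_ne _) (Or.inr ?_) hr0 (cmp_trace _).symm hr1⟩
      rw [cmp_trace]
      intro h
      apply hr2
      have h3 : r * r⁻¹ = 1 := mul_inv_cancel₀ hr0
      linear_combination r * h - h3

theorem odd_main_three (hodd : Odd (Fintype.card F)) (h7 : 7 ≤ Fintype.card F)
    (hq : Fintype.card F % 4 = 3) :
    Set.range (fun g : SpecialLinearGroup (Fin 2) F => (pre g).index) =
      {1, (Fintype.card F ^ 2 - 1) / 2, Fintype.card F * (Fintype.card F - 1) / 2,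
          Fintype.card F * (Fintype.card F + 1), Fintype.card F * (Fintype.card F - 1)} := by
  classical
  have h2 : (2 : F) ≠ 0 := ClassicalGeometry.SLTwoFour.two_ne_zero_of_odd hodd
  have hsq : ¬ IsSquare (-1 : F) := by
    rw [FiniteField.isSquare_neg_one_iff]
    omega
  have hx : ∀ x : F, x ^ 2 + 1 ≠ 0 := by
    intro x hx
    exact hsq ⟨x, by linear_combination -hx⟩
  have hx' : ∀ x : F, x ^ 2 + 0 * x + 1 ≠ 0 := by
    intro x h
    apply hx x
    linear_combination h
  obtain ⟨r, hr0, hr1, hr2⟩ := exists_not_fourth (F := F) (by omega)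
  ext n
  simp only [Set.mem_range, Set.mem_insert_iff, Set.mem_singleton_iff]
  constructor
  · rintro ⟨g, rfl⟩
    by_cases hg : ∃ c : F, g.1 = c • 1
    · obtain ⟨c, hc⟩ := hg
      exact Or.inl (index_scalar hc)
    · push Not at hg
      by_cases ht0 : g.1 0 0 + g.1 1 1 = 0
      · exact Or.inr (Or.inr (Or.inl (index_irr_zero hodd hg ht0 (by rw [ht0]; exact hx'))))
      · rcases cases_t (g.1 0 0 + g.1 1 1) with ⟨r, hr, ht, hr2⟩ | ⟨r, hr, ht⟩ | ht
        · exact Or.inr (Or.inr (Or.inr (Or.inl (index_split hg (Or.inr ht0) hr ht hr2))))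
        · exact Or.inr (Or.inl (index_unip_odd hg h2 hr ht))
        · exact Or.inr (Or.inr (Or.inr (Or.inr (index_irr hg (Or.inr ht0) ht))))
  · rintro (rfl | rfl | rfl | rfl | rfl)
    · exact ⟨1, index_scalar (c := 1) (by simp)⟩
    · exact ⟨cmp (2 * 1), index_unip_odd (cmp_ne _) h2 (r := 1) (by ring) (cmp_trace _)⟩
    · exact ⟨cmp 0, index_irr_zero hodd (cmp_ne _) (cmp_trace _) (by rw [cmp_trace]; exact hx')⟩
    · refine ⟨cmp (r + r⁻¹), index_split (cmp_ne _) (Or.inr ?_) hr0 (cmp_trace _).symm hr1⟩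
      rw [cmp_trace]
      intro h
      apply hr2
      have h3 : r * r⁻¹ = 1 := mul_inv_cancel₀ hr0
      linear_combination r * h - h3
    · obtain ⟨t, ht0, ht⟩ := exists_irr_ne_zero hr0 hr1 hx
      exact ⟨cmp t, index_irr (cmp_ne t) (Or.inr (by rwa [cmp_trace])) (by rw [cmp_trace]; exact ht)⟩

end idx

end Cfsg.Agent.H158.PslTwoClass
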