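import Mathlib
import Cfsg.Agent.H777.M5.Elim5Def
import Cfsg.Agent.H458.Ab3

/-!
# `PSL_n(q)` and the groups with 5-part `5 ^ 8`, `5 ^ 9` (helper158, for S5232)

* `core`: an abelian 5-subgroup `A` of `G` with `v_5 |Z| + 5 ≤ v_5 |A|` gives `Big5 (G ⧸ Z)`;
  `core3`: the same for `v_5 |G| ≤ v_5 |A| + 3`, if the 5-part of `|G ⧸ Z|` is `5 ^ 8` or `5 ^ 9`.
* `row_psl`.
-/

set_option autoImplicit false
set_option linter.unusedSectionVars false

namespace Cfsg.Agent.H158.Row5

open Cfsg.Agent.H777.Elim5 Cfsg.Agent.H749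

instance fact5 : Fact (Nat.Prime 5) := ⟨Nat.prime_five⟩

theorem vn_iff {n : ℕ} {K : Type*} [Group K] [Finite K] : Vn5 n K ↔ (Nat.card K).factorization 5 = n := by
  have h0 : Nat.card K ≠ 0 := Nat.card_pos.ne'
  unfold Vn5
  rw [Nat.prime_five.pow_dvd_iff_le_factorization h0, Nat.prime_five.pow_dvd_iff_le_factorization h0]
  omega

theorem vn_cases {K : Type*} [Group K] [Finite K] (h : Vn5 8 K ∨ Vn5 9 K) :
    8 ≤ (Nat.card K).factorization 5 ∧ (Nat.card K).factorization 5 ≤ 9 := by
  rcases h with h | h <;> have := vn_iff.1 h <;> omega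

section core

variable {G : Type*} [Group G] [Finite G] (Z : Subgroup G) [Z.Normal]

theorem v_quot : (Nat.card G).factorization 5 = (Nat.card (G ⧸ Z)).factorization 5 + (Nat.card Z).factorization 5 := by
  rw [Subgroup.card_eq_card_quotient_mul_card_subgroup Z, Nat.factorization_mul Nat.card_pos.ne' Nat.card_pos.ne']
  rfl

theorem core {A : Type*} [CommGroup A] [Finite A] (f : A →* G) (hf : Function.Injective f) (hA : IsPGroup 5 A)
    (h : (Nat.card Z).factorization 5 + 5 ≤ (Nat.card A).factorization 5) : Big5 (G ⧸ Z) := by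
  obtain ⟨g, hg⟩ : ∃ g : A →* G ⧸ Z, g = (QuotientGroup.mk' Z).comp f := ⟨_, rfl⟩
  refine ⟨g.range, ?_, ?_, ?_⟩
  · exact hA.of_surjective g.rangeRestrict g.rangeRestrict_surjective
  · rintro _ ⟨x, rfl⟩ _ ⟨y, rfl⟩
    rw [← map_mul, ← map_mul, mul_comm]
  · have h1 : Nat.card g.ker ∣ Nat.card Z := by
      refine Subgroup.card_dvd_of_injective (f := (((f.comp g.ker.subtype).codRestrict Z) fun x => ?_)) ?_
      · have hx : g x.1 = 1 := x.2
        exact (QuotientGroup.eq_one_iff _).1 ((DFunLike.congr_fun hg x.1).symm.trans hx)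
      · intro x y hxy
        exact Subtype.ext (hf (congrArg Subtype.val hxy))
    have h2 : (Nat.card g.ker).factorization 5 ≤ (Nat.card Z).factorization 5 :=
      (Nat.factorization_le_iff_dvd Nat.card_pos.ne' Nat.card_pos.ne').2 h1 5
    have h3 : (Nat.card A).factorization 5 = (Nat.card g.range).factorization 5 + (Nat.card g.ker).factorization 5 := by
      rw [← Subgroup.card_mul_index g.ker, Subgroup.index_ker, mul_comm, Nat.factorization_mul Nat.card_pos.ne' Nat.card_pos.ne']
      rfl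
    refine Nat.le_of_dvd Nat.card_pos ?_
    rw [Nat.prime_five.pow_dvd_iff_le_factorization Nat.card_pos.ne']
    omega

theorem core3 {A : Type*} [CommGroup A] [Finite A] (f : A →* G) (hf : Function.Injective f) (hA : IsPGroup 5 A)
    (h : (Nat.card G).factorization 5 ≤ (Nat.card A).factorization 5 + 3) (hV : Vn5 8 (G ⧸ Z) ∨ Vn5 9 (G ⧸ Z)) :
    Big5 (G ⧸ Z) := by
  refine core Z f hf hA ?_
  have h1 := v_quot Z
  have h2 := vn_cases hV
  omega

end core

/-- `v_5(n!) ≤ 3` for `n ≤ 19` -/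
theorem v_fact {n : ℕ} (hn : n ≤ 19) : n.factorial.factorization 5 ≤ 3 := by
  have h1 : n.factorial.factorization 5 ≤ (Nat.factorial 19).factorization 5 :=
    (Nat.factorization_le_iff_dvd (Nat.factorial_ne_zero _) (Nat.factorial_ne_zero _)).2 (Nat.factorial_dvd_factorial hn) 5
  have h2 : ¬ 5 ^ 4 ∣ Nat.factorial 19 := by decide
  rw [Nat.prime_five.pow_dvd_iff_le_factorization (Nat.factorial_ne_zero _)] at h2
  omega

/-- the 5-part of a finite commutative group -/
theorem exists_part (C : Type*) [CommGroup C] [Finite C] : ∃ P : Subgroup C, IsPGroup 5 P ∧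
    (Nat.card P).factorization 5 = (Nat.card C).factorization 5 := by
  obtain ⟨P⟩ : Nonempty (Sylow 5 C) := inferInstance
  refine ⟨P, P.isPGroup', ?_⟩
  rw [Sylow.card_eq_multiplicity P, Nat.Prime.factorization_pow Nat.prime_five, Finsupp.single_eq_same]

theorem card_pi {ι P : Type*} [Fintype ι] : (Nat.card (ι → P)).factorization 5 = Fintype.card ι * (Nat.card P).factorization 5 := by
  rw [Nat.card_fun, Nat.factorization_pow, Finsupp.smul_apply, smul_eq_mul, Nat.card_eq_fintype_card]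

theorem isPGroup_pi {ι P : Type*} [Finite ι] [Finite P] [Group P] (hP : IsPGroup 5 P) : IsPGroup 5 (ι → P) := by
  have := Fintype.ofFinite ι
  obtain ⟨n, hn⟩ := IsPGroup.iff_card.1 hP
  exact IsPGroup.of_card (n := n * Fintype.card ι) (by rw [Nat.card_fun, hn, ← pow_mul, Nat.card_eq_fintype_card])

/-! ### the order of `SL_n(q)` -/

theorem vSL {F : Type*} [Field F] [Finite F] {e : ℕ} (he : orderOf ((Nat.card F : ℤ) : ZMod 5) = e)
    (he0 : e ≠ 0) {n : ℕ} (hn : 1 ≤ n) :
    (Nat.card Fˣ).factorization 5 + (Nat.card (Matrix.SpecialLinearGroup (Fin n) F)).factorization 5 =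
      (n / e) * (Nat.card F ^ e - 1).factorization 5 + (n / e).factorial.factorization 5 := by
  have h := vp_GL (F := F) (p := 5) (by norm_num) he he0 hn
  have hq1 : 1 < Nat.card F := Finite.one_lt_card
  have hc : ∀ m : ℕ, (Nat.card F : ℤ) ^ m - 1 = ((Nat.card F ^ m - 1 : ℕ) : ℤ) := fun m => by
    rw [Nat.cast_sub (Nat.one_le_pow _ _ (by omega)), Nat.cast_pow]; rfl
  have h1 := hc 1
  rw [pow_one, pow_one] at h1
  rw [hc, h1, vp_natCast, vp_natCast] at h
  rw [Nat.card_units]
  exact h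

theorem not_dvd {F : Type*} [Field F] [Finite F] (h5 : (5 : F) ≠ 0) : ¬ 5 ∣ Nat.card F := by
  intro h
  obtain ⟨r, hr⟩ := CharP.exists F
  have hrp : r.Prime := CharP.char_is_prime F r
  have := Fintype.ofFinite F
  obtain ⟨k, -, hk⟩ := FiniteField.card F r
  rw [Nat.card_eq_fintype_card, hk] at h
  have h1 := Nat.prime_five.dvd_of_dvd_pow h
  have h2 : (5 : ℕ) = r := (Nat.prime_dvd_prime_iff_eq Nat.prime_five hrp).1 h1
  subst h2
  exact h5 (by exact_mod_cast CharP.cast_eq_zero F 5)

/-- the order of `q` modulo 5 -/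
theorem order_cases {F : Type*} [Field F] [Finite F] (h5 : (5 : F) ≠ 0) :
    (orderOf ((Nat.card F : ℤ) : ZMod 5) = 1 ∧ 5 ∣ Nat.card F - 1) ∨
      (∃ e, (e = 2 ∨ e = 4) ∧ orderOf ((Nat.card F : ℤ) : ZMod 5) = e ∧ ¬ 5 ∣ Nat.card F - 1 ∧ 5 ∣ Nat.card F ^ e - 1) := by
  have h := not_dvd h5
  obtain ⟨q, hq⟩ : ∃ q, q = Nat.card F := ⟨_, rfl⟩
  rw [← hq] at h ⊢
  have key : ∀ x : ZMod 5, x ≠ 0 → x = 1 ∨ (x ≠ 1 ∧ (orderOf x = 2 ∨ orderOf x = 4)) := by
    intro x hx
    have h1 : x = 1 ∨ x = 2 ∨ x = 3 ∨ x = 4 := by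
      revert x; decide
    rcases h1 with rfl | rfl | rfl | rfl
    · left; rfl
    · right
      refine ⟨by decide, Or.inr ?_⟩
      exact orderOf_eq_prime_pow (p := 2) (n := 1) (by decide) (by decide)
    · right
      refine ⟨by decide, Or.inr ?_⟩
      exact orderOf_eq_prime_pow (p := 2) (n := 1) (by decide) (by decide)
    · right
      refine ⟨by decide, Or.inl ?_⟩
      exact orderOf_eq_prime (p := 2) (by decide) (by decide)
  have hq0 : 1 ≤ q := by
    rcases Nat.eq_zero_or_pos q with h0 | h0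
    · exact absurd (h0 ▸ dvd_zero 5) h
    · exact h0
  have hx0 : ((q : ℤ) : ZMod 5) ≠ 0 := by
    rw [Int.cast_natCast, Ne, ZMod.natCast_eq_zero_iff]
    exact h
  have hd : ∀ m : ℕ, 5 ∣ q ^ m - 1 ↔ ((q : ℤ) : ZMod 5) ^ m = 1 := by
    intro m
    have h1 : 1 ≤ q ^ m := Nat.one_le_pow _ _ hq0
    rw [← ZMod.natCast_eq_zero_iff, Nat.cast_sub h1, Nat.cast_pow, Nat.cast_one, sub_eq_zero, Int.cast_natCast]
  have hd1 : 5 ∣ q - 1 ↔ ((q : ℤ) : ZMod 5) = 1 := by
    have := hd 1
    rwa [pow_one, pow_one] at this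
  rcases key _ hx0 with h1 | ⟨h1, h2⟩
  · left
    exact ⟨by rw [orderOf_eq_one_iff]; exact h1, hd1.2 h1⟩
  · right
    refine ⟨orderOf ((q : ℤ) : ZMod 5), h2, rfl, fun h3 => h1 (hd1.1 h3), ?_⟩
    rw [hd]
    exact pow_orderOf_eq_one _

/-! ### characteristic 5 -/

/-- the unipotent matrices `1 + v E_{., last}` -/
def uniHom {F : Type*} [Field F] (k : ℕ) : Multiplicative (Fin k → F) →* Matrix.SpecialLinearGroup (Fin k ⊕ Unit) F where
  toFun v := ⟨Matrix.fromBlocks 1 (Matrix.replicateCol Unit v.toAdd) 0 1, by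
    rw [Matrix.det_fromBlocks_zero₂₁, Matrix.det_one, Matrix.det_one, mul_one]⟩
  map_one' := by
    refine Subtype.ext ?_
    show Matrix.fromBlocks 1 (Matrix.replicateCol Unit (0 : Fin k → F)) 0 1 = (1 : Matrix _ _ F)
    rw [← Matrix.fromBlocks_one]
    rfl
  map_mul' u v := by
    refine Subtype.ext ?_
    show Matrix.fromBlocks 1 (Matrix.replicateCol Unit (u.toAdd + v.toAdd)) 0 1 =
      Matrix.fromBlocks 1 (Matrix.replicateCol Unit u.toAdd) 0 1 * Matrix.fromBlocks 1 (Matrix.replicateCol Unit v.toAdd) 0 1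
    rw [Matrix.fromBlocks_multiply]
    congr 1
    · simp
    · ext i j
      simp [add_comm]
    · simp
    · simp

theorem uniHom_injective {F : Type*} [Field F] (k : ℕ) : Function.Injective (uniHom (F := F) k) := by
  intro u v h
  have h1 := congrArg Subtype.val h
  have h2 := (Matrix.fromBlocks_inj.1 h1).2.1
  refine Multiplicative.toAdd.injective ?_
  funext i
  exact congrFun (congrFun h2 i) ()

/-- the special linear groups over equivalent index types are isomorphic -/
def reindex {F : Type*} [Field F] {m n : Type*} [Fintype m] [Fintype n] [DecidableEq m] [DecidableEq n] (e : m ≃ n) :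
    Matrix.SpecialLinearGroup m F →* Matrix.SpecialLinearGroup n F where
  toFun A := ⟨Matrix.reindex e e A.1, by rw [Matrix.det_reindex_self, A.2]⟩
  map_one' := by
    refine Subtype.ext ?_
    show Matrix.reindex e e (1 : Matrix m m F) = 1
    simp
  map_mul' A B := by
    refine Subtype.ext ?_
    show Matrix.reindex e e (A.1 * B.1) = Matrix.reindex e e A.1 * Matrix.reindex e e B.1
    simp [Matrix.reindex_apply, Matrix.submatrix_mul_equiv]

theorem reindex_injective {F : Type*} [Field F] {m n : Type*} [Fintype m] [Fintype n] [DecidableEq m] [DecidableEq n]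
    (e : m ≃ n) : Function.Injective (reindex (F := F) e) := by
  intro A B h
  exact Subtype.ext ((Matrix.reindex e e).injective (congrArg Subtype.val h))

/-- the 5-part of `|SL_n(5^f)|` -/
theorem vSL5 {F : Type*} [Field F] [Finite F] (h5 : (5 : F) = 0) (n : ℕ) (hn : 1 ≤ n) :
    ∃ f, Nat.card F = 5 ^ f ∧
      2 * (Nat.card (Matrix.SpecialLinearGroup (Fin n) F)).factorization 5 = f * (n * (n - 1)) := by
  have := Fintype.ofFinite F
  obtain ⟨r, hr⟩ := CharP.exists F
  have hrp : r.Prime := CharP.char_is_prime F r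
  obtain ⟨f, -, hf⟩ := FiniteField.card F r
  have hr5 : r = 5 := by
    have h1 : r ∣ 5 := (CharP.cast_eq_zero_iff F r 5).1 (by exact_mod_cast h5)
    exact (Nat.prime_dvd_prime_iff_eq hrp Nat.prime_five).1 h1
  subst hr5
  refine ⟨f, by rw [Nat.card_eq_fintype_card, hf], ?_⟩
  have h := S0242.result (F := F) (q := 5 ^ (f : ℕ)) hf n hn
  have hq : 1 < 5 ^ (f : ℕ) := Nat.one_lt_pow f.pos.ne' (by norm_num)
  have hnd : ∀ m : ℕ, 1 ≤ m → (5 ^ ((f : ℕ) * m) - 1).factorization 5 = 0 := by
    intro m hm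
    refine Nat.factorization_eq_zero_of_not_dvd fun hd => ?_
    have h1 : 5 ∣ 5 ^ ((f : ℕ) * m) := dvd_pow_self 5 (Nat.mul_pos f.pos hm).ne'
    have h2 : 1 ≤ 5 ^ ((f : ℕ) * m) := Nat.one_le_pow _ _ (by norm_num)
    omega
  have h1 := congrArg (fun z => Nat.factorization z 5) h
  rw [Nat.factorization_mul (by omega) Nat.card_pos.ne', Finsupp.add_apply] at h1
  have h2 := hnd 1 le_rfl
  rw [mul_one] at h2
  rw [h2, zero_add] at h1
  rw [h1, Nat.factorization_prod]
  · rw [Finset.sum_apply']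
    have h3 : ∀ i ∈ (Finset.univ : Finset (Fin n)), ((5 ^ (f : ℕ)) ^ n - (5 ^ (f : ℕ)) ^ (i : ℕ)).factorization 5 = (f : ℕ) * (i : ℕ) := by
      intro i _
      have h4 : (5 ^ (f : ℕ)) ^ n - (5 ^ (f : ℕ)) ^ (i : ℕ) = 5 ^ ((f : ℕ) * (i : ℕ)) * (5 ^ ((f : ℕ) * (n - (i : ℕ))) - 1) := by
        rw [Nat.mul_sub, mul_one, ← pow_add, ← pow_mul, ← pow_mul, ← Nat.mul_add, Nat.add_sub_cancel' i.2.le]
      have h5 : 1 < 5 ^ ((f : ℕ) * (n - (i : ℕ))) := Nat.one_lt_pow (Nat.mul_pos f.pos (by omega)).ne' (by norm_num)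
      rw [h4, Nat.factorization_mul (by positivity) (by omega), Finsupp.add_apply, hnd _ (by omega), add_zero,
        Nat.Prime.factorization_pow Nat.prime_five, Finsupp.single_eq_same]
    rw [Finset.sum_congr rfl h3, ← Finset.mul_sum, Fin.sum_univ_eq_sum_range (fun i => i) n, mul_left_comm]
    congr 1
    rw [mul_comm]
    exact Finset.sum_range_id_mul_two n
  · intro i _
    have h6 : (5 ^ (f : ℕ)) ^ (i : ℕ) < (5 ^ (f : ℕ)) ^ n := Nat.pow_lt_pow_right hq i.2
    omega

/-! ### the row -/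

theorem card_center {n : ℕ} (hn : 2 ≤ n) (F : Type*) [Field F] [Finite F] :
    Nat.card (Subgroup.center (Matrix.SpecialLinearGroup (Fin n) F)) = Nat.gcd n (Nat.card F - 1) := by
  have : Nonempty (Fin n) := ⟨⟨0, by omega⟩⟩
  rw [Nat.card_congr (Matrix.SpecialLinearGroup.center_equiv_rootsOfUnity'
    (n := Fin n) (R := F) ⟨0, by omega⟩).toEquiv, rootsOfUnity_eq_ker,
    IsCyclic.card_powMonoidHom_ker, Nat.card_units, Fintype.card_fin, Nat.gcd_comm]

theorem row_psl_char {n : ℕ} (hn : 2 ≤ n) {F : Type} [Field F] [Fintype F] (h5 : (5 : F) = 0) :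
    Row5 (Matrix.ProjectiveSpecialLinearGroup (Fin n) F) := by
  intro hV
  obtain ⟨f, hf, hS⟩ := vSL5 h5 n (by omega)
  have hK := v_quot (Subgroup.center (Matrix.SpecialLinearGroup (Fin n) F))
  have hV' : 8 ≤ (Nat.card (Matrix.SpecialLinearGroup (Fin n) F ⧸ Subgroup.center (Matrix.SpecialLinearGroup (Fin n) F))).factorization 5 ∧
      (Nat.card (Matrix.SpecialLinearGroup (Fin n) F ⧸ Subgroup.center (Matrix.SpecialLinearGroup (Fin n) F))).factorization 5 ≤ 9 :=
    vn_cases hV
  have hf0 : f ≠ 0 := by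
    rintro rfl
    have := Finite.one_lt_card (α := F)
    rw [hf] at this
    norm_num at this
  have hz : (Nat.card (Subgroup.center (Matrix.SpecialLinearGroup (Fin n) F))).factorization 5 = 0 := by
    rw [card_center hn]
    refine Nat.factorization_eq_zero_of_not_dvd fun h => ?_
    have h1 := h.trans (Nat.gcd_dvd_right _ _)
    have h2 : 5 ∣ Nat.card F := by rw [hf]; exact dvd_pow_self 5 hf0
    have h3 := Finite.one_lt_card (α := F)
    omega
  obtain ⟨k, rfl⟩ : ∃ k, n = k + 1 := ⟨n - 1, by omega⟩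
  rw [Nat.add_sub_cancel] at hS
  have h8 : 5 ≤ k * f := by
    have h1 : 16 ≤ f * ((k + 1) * k) := by omega
    have h2 : f * ((k + 1) * k) ≤ 18 := by omega
    have h3 : k ≤ 3 := by
      by_contra h3
      have h4 : 4 ≤ k := by omega
      have h5 : 5 * 4 ≤ (k + 1) * k := Nat.mul_le_mul (by omega) h4
      have h6 : (k + 1) * k ≤ f * ((k + 1) * k) := Nat.le_mul_of_pos_left _ (Nat.pos_of_ne_zero hf0)
      omega
    interval_cases k <;> omega
  refine core _ (((reindex (F := F) (finSumFinEquiv.symm.trans (Equiv.sumCongr (Equiv.refl _) (Equiv.equivPUnit (Fin 1)))).symm)).comp (uniHom (F := F) k)) ?_ ?_ ?_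
  · exact (reindex_injective _).comp (uniHom_injective k)
  · refine IsPGroup.of_card (n := f * k) ?_
    rw [Nat.card_congr Multiplicative.toAdd, Nat.card_fun, hf, ← pow_mul, Nat.card_eq_fintype_card, Fintype.card_fin]
  · rw [hz, Nat.card_congr Multiplicative.toAdd, Nat.card_fun, hf, ← pow_mul, Nat.card_eq_fintype_card, Fintype.card_fin,
      Nat.Prime.factorization_pow Nat.prime_five, Finsupp.single_eq_same, mul_comm f k]
    omega

theorem row_psl' {n : ℕ} (hn : 2 ≤ n) {F : Type} [Field F] [Fintype F] (h5 : (5 : F) ≠ 0) :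
    Row5 (Matrix.ProjectiveSpecialLinearGroup (Fin n) F) := by
  intro hV
  have hq1 : 1 < Nat.card F := Finite.one_lt_card
  have hZ := card_center hn F
  have hK := v_quot (Subgroup.center (Matrix.SpecialLinearGroup (Fin n) F))
  have hV' : 8 ≤ (Nat.card (Matrix.SpecialLinearGroup (Fin n) F ⧸ Subgroup.center (Matrix.SpecialLinearGroup (Fin n) F))).factorization 5 ∧
      (Nat.card (Matrix.SpecialLinearGroup (Fin n) F ⧸ Subgroup.center (Matrix.SpecialLinearGroup (Fin n) F))).factorization 5 ≤ 9 :=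
    vn_cases hV
  rcases order_cases h5 with ⟨he, h51⟩ | ⟨e, he24, he, hpq1, h51⟩
  · -- `q ≡ 1`
    have hS := vSL he one_ne_zero (n := n) (by omega)
    rw [Nat.div_one, pow_one, Nat.card_units] at hS
    obtain ⟨k, rfl⟩ : ∃ k, n = k + 1 := ⟨n - 1, by omega⟩
    obtain ⟨P, hP, hPc⟩ := exists_part Fˣ
    rw [Nat.card_units] at hPc
    have ha : 1 ≤ (Nat.card F - 1).factorization 5 :=
      Nat.prime_five.factorization_pos_of_dvd (by omega) h51
    have hZn : (Nat.card (Subgroup.center (Matrix.SpecialLinearGroup (Fin (k + 1)) F))).factorization 5 ≤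
        (k + 1).factorial.factorization 5 := by
      rw [hZ]
      exact (Nat.factorization_le_iff_dvd (Nat.gcd_pos_of_pos_left _ (by omega)).ne' (Nat.factorial_ne_zero _)).2
        ((Nat.gcd_dvd_left _ _).trans (Nat.dvd_factorial (by omega) le_rfl)) 5
    have hk : k + 1 ≤ 19 := by
      by_contra hk
      have : k ≤ k * (Nat.card F - 1).factorization 5 := Nat.le_mul_of_pos_right _ ha
      rw [add_mul, one_mul] at hS
      omega
    have := v_fact hk
    refine core3 _ (Cfsg.Agent.H458.Ab3.diagHom P k) (Cfsg.Agent.H458.Ab3.diagHom_injective P k) (isPGroup_pi hP) ?_ hV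
    rw [card_pi, Fintype.card_fin, hPc]
    rw [add_mul, one_mul] at hS
    omega
  · -- order 2 or 4
    have he0 : e ≠ 0 := by omega
    have hS := vSL he he0 (n := n) (by omega)
    have hu : (Nat.card Fˣ).factorization 5 = 0 := by
      rw [Nat.card_units]
      exact Nat.factorization_eq_zero_of_not_dvd hpq1
    have hz : (Nat.card (Subgroup.center (Matrix.SpecialLinearGroup (Fin n) F))).factorization 5 = 0 := by
      rw [hZ]
      exact Nat.factorization_eq_zero_of_not_dvd fun h => hpq1 (h.trans (Nat.gcd_dvd_right _ _))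
    obtain ⟨L, _, _, _, hLcard, hLrank⟩ := exists_ext F e he0
    have hLfin : Module.Finite F L := Module.Finite.of_finite
    obtain ⟨P, hP, hPc⟩ := exists_part Lˣ
    rw [Nat.card_units, hLcard] at hPc
    have ha : 1 ≤ (Nat.card F ^ e - 1).factorization 5 := by
      refine Nat.prime_five.factorization_pos_of_dvd ?_ h51
      have := Nat.one_lt_pow he0 hq1
      omega
    have hk : n / e ≤ 19 := by
      by_contra hk
      have : n / e ≤ n / e * (Nat.card F ^ e - 1).factorization 5 := Nat.le_mul_of_pos_right _ ha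
      omega
    have := v_fact hk
    have hrank : Module.finrank F ((Fin (n / e) → L) × (Fin (n - n / e * e) → F)) = n := by
      rw [Module.finrank_prod, Module.finrank_fin_fun, Module.finrank_pi_fintype]
      simp only [Finset.sum_const, Finset.card_univ, Fintype.card_fin, hLrank, smul_eq_mul]
      have := Nat.div_mul_le_self n e
      omega
    obtain ⟨φ, hφ⟩ : ∃ φ : (Fin (n / e) → P) →* (((Fin (n / e) → L) × (Fin (n - n / e * e) → F)) ≃ₗ[F]
        ((Fin (n / e) → L) × (Fin (n - n / e * e) → F))), Function.Injective φ := by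
      refine ⟨dg.comp (MonoidHom.pi fun i => ((mulE F).comp P.subtype).comp (Pi.evalMonoidHom _ i)), ?_⟩
      refine dg_injective.comp ?_
      intro u v h
      funext i
      exact Subtype.ext (mulE_injective F (congrFun h i))
    have hpi := isPGroup_pi (ι := Fin (n / e)) hP
    obtain ⟨f, hf⟩ := Cfsg.Agent.H458.Ab3.exists_hom_SL hrank φ hφ (fun a => by
      refine det_eq_one_of_pEl (p := 5) hpq1 ?_
      obtain ⟨k, hk⟩ := hpi a
      exact ⟨k, by rw [← map_pow, hk, map_one]⟩)
    refine core3 _ f hf hpi ?_ hV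
    rw [card_pi, Fintype.card_fin, hPc]
    omega

theorem row_psl {n : ℕ} (hn : 2 ≤ n) (F : Type) [Field F] [Finite F] :
    Row5 (Matrix.ProjectiveSpecialLinearGroup (Fin n) F) := by
  have := Fintype.ofFinite F
  by_cases h5 : (5 : F) = 0
  · exact row_psl_char hn h5
  · exact row_psl' hn h5

end Cfsg.Agent.H158.Row5
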