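import Cfsg.Agent.H776.ThCtx
import Cfsg.Agent.H776.ThRels
import Cfsg.Agent.H804.ThSyl

/-!
# S5228 / F7: the model group is the Sylow 3-subgroup of the Thompson group
-/

set_option autoImplicit false
set_option linter.style.longLine false

namespace Cfsg.Agent.H158.ThIso

open Subgroup Cfsg.Agent.H776.ThS

/-! ### the relations hold in the model -/

theorem rels_h : Rels h where
  c0 := by decide +kernel
  c1 := by decide +kernel
  c2 := by decide +kernel
  c3 := by decide +kernel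
  c4 := by decide +kernel
  c5 := by decide +kernel
  c6 := by decide +kernel
  c7 := by decide +kernel
  c8 := by decide +kernel
  c9 := by decide +kernel
  r10 := by decide +kernel
  r20 := by decide +kernel
  r30 := by decide +kernel
  r40 := by decide +kernel
  r50 := by decide +kernel
  r60 := by decide +kernel
  r70 := by decide +kernel
  r80 := by decide +kernel
  r90 := by decide +kernel
  r21 := by decide +kernel
  r31 := by decide +kernel
  r41 := by decide +kernel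
  r51 := by decide +kernel
  r61 := by decide +kernel
  r71 := by decide +kernel
  r81 := by decide +kernel
  r91 := by decide +kernel
  r32 := by decide +kernel
  r42 := by decide +kernel
  r52 := by decide +kernel
  r62 := by decide +kernel
  r72 := by decide +kernel
  r82 := by decide +kernel
  r92 := by decide +kernel
  r43 := by decide +kernel
  r53 := by decide +kernel
  r63 := by decide +kernel
  r73 := by decide +kernel
  r83 := by decide +kernel
  r93 := by decide +kernel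
  r54 := by decide +kernel
  r64 := by decide +kernel
  r74 := by decide +kernel
  r84 := by decide +kernel
  r94 := by decide +kernel
  r65 := by decide +kernel
  r75 := by decide +kernel
  r85 := by decide +kernel
  r95 := by decide +kernel
  r76 := by decide +kernel
  r86 := by decide +kernel
  r96 := by decide +kernel
  r87 := by decide +kernel
  r97 := by decide +kernel
  r98 := by decide +kernel

/-! ### polycyclic bound -/

theorem step {K : Type*} [Group K] (D : Subgroup K) [Finite D] (a : K) (hn : ∀ d ∈ D, a⁻¹ * d * a ∈ D)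
    (h3 : a ^ 3 ∈ D) : ∃ E : Subgroup K, D ≤ E ∧ a ∈ E ∧ Finite E ∧ Nat.card E ≤ 3 * Nat.card D := by
  classical
  have hN : a⁻¹ ∈ normalizer (D : Set K) := by
    let f : D → D := fun d => ⟨a⁻¹ * d * a, hn d d.2⟩
    have hf : Function.Injective f := by
      intro x y hxy
      have := congrArg Subtype.val hxy
      have h2 : a⁻¹ * (x : K) * a = a⁻¹ * (y : K) * a := this
      ext
      simpa using h2
    have hs := Finite.surjective_of_injective hf
    rw [mem_normalizer_iff]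
    intro x
    rw [inv_inv]
    constructor
    · intro hx
      exact hn x hx
    · intro hx
      obtain ⟨y, hy⟩ := hs ⟨_, hx⟩
      have h2 : a⁻¹ * (y : K) * a = a⁻¹ * x * a := congrArg Subtype.val hy
      have h3 : (y : K) = x := by simpa using h2
      rw [← h3]
      exact y.2
  have hN' : a ∈ normalizer (D : Set K) := by
    have := inv_mem hN
    rwa [inv_inv] at this
  have hz : ∀ n : ℤ, ∀ d ∈ D, (a ^ n)⁻¹ * d * a ^ n ∈ D := by
    intro n d hd
    have h1 : (a ^ n)⁻¹ ∈ normalizer (D : Set K) := inv_mem (zpow_mem hN' n)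
    have h2 := (mem_normalizer_iff.1 h1 d).1 hd
    rwa [inv_inv] at h2
  let E : Subgroup K :=
    { carrier := {x | ∃ n : ℤ, ∃ d ∈ D, x = a ^ n * d}
      one_mem' := ⟨0, 1, one_mem D, by simp⟩
      mul_mem' := by
        rintro x y ⟨m, d, hd, rfl⟩ ⟨n, e, he, rfl⟩
        refine ⟨m + n, ((a ^ n)⁻¹ * d * a ^ n) * e, mul_mem (hz n d hd) he, ?_⟩
        rw [zpow_add]
        group
      inv_mem' := by
        rintro x ⟨m, d, hd, rfl⟩
        refine ⟨-m, (a ^ (-m))⁻¹ * d⁻¹ * a ^ (-m), hz (-m) _ (inv_mem hd), ?_⟩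
        group }
  have hE : ∀ x : E, ∃ i : Fin 3, ∃ d : D, (x : K) = a ^ (i : ℕ) * d := by
    rintro ⟨x, n, d, hd, rfl⟩
    have h1 : 0 ≤ n % 3 := Int.emod_nonneg _ (by norm_num)
    have h2 : n % 3 < 3 := Int.emod_lt_of_pos _ (by norm_num)
    refine ⟨⟨(n % 3).toNat, by omega⟩, ⟨(a ^ 3) ^ (n / 3) * d, mul_mem (zpow_mem h3 _) hd⟩, ?_⟩
    have h4 : n = ((n % 3).toNat : ℤ) + 3 * (n / 3) := by
      rw [Int.toNat_of_nonneg h1]
      omega
    show a ^ n * d = a ^ (n % 3).toNat * ((a ^ 3) ^ (n / 3) * d)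
    rw [← mul_assoc]
    congr 1
    conv_lhs => rw [h4]
    rw [zpow_add, zpow_natCast, zpow_mul]
    norm_cast
  choose i d hid using hE
  have hinj : Function.Injective (fun x : E => (i x, d x)) := by
    intro x y hxy
    have h1 : i x = i y := congrArg Prod.fst hxy
    have h2 : d x = d y := congrArg Prod.snd hxy
    ext
    rw [hid x, hid y, h1, h2]
  have hfin : Finite E := Finite.of_injective _ hinj
  refine ⟨E, ?_, ⟨1, 1, one_mem D, by simp⟩, hfin, ?_⟩
  · intro x hx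
    exact ⟨0, x, hx, by simp⟩
  · calc Nat.card E ≤ Nat.card (Fin 3 × D) := Nat.card_le_card_of_injective _ hinj
      _ = 3 * Nat.card D := by rw [Nat.card_prod, Nat.card_eq_fintype_card (α := Fin 3), Fintype.card_fin]

/-- the subgroup generated by the generators `k j`, `i ≤ j` -/
def Dn {K : Type*} [Group K] (k : Fin 10 → K) (i : ℕ) : Subgroup K := closure {x | ∃ j : Fin 10, i ≤ (j : ℕ) ∧ x = k j}

theorem mem_Dn {K : Type*} [Group K] (k : Fin 10 → K) {i : ℕ} (j : Fin 10) (h : i ≤ (j : ℕ)) : k j ∈ Dn k i :=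
  subset_closure ⟨j, h, rfl⟩

theorem Dn_step {K : Type*} [Group K] (k : Fin 10 → K) {i : ℕ} (hi : i < 10)
    (hn : ∀ j : Fin 10, i < (j : ℕ) → (k ⟨i, hi⟩)⁻¹ * k j * k ⟨i, hi⟩ ∈ Dn k (i + 1))
    (h3 : k ⟨i, hi⟩ ^ 3 ∈ Dn k (i + 1)) (hf : Finite (Dn k (i + 1))) :
    Finite (Dn k i) ∧ Nat.card (Dn k i) ≤ 3 * Nat.card (Dn k (i + 1)) := by
  have h1 : ∀ d ∈ Dn k (i + 1), (k ⟨i, hi⟩)⁻¹ * d * k ⟨i, hi⟩ ∈ Dn k (i + 1) := by
    intro d hd
    refine closure_induction (p := fun x _ => (k ⟨i, hi⟩)⁻¹ * x * k ⟨i, hi⟩ ∈ Dn k (i + 1)) ?_ ?_ ?_ ?_ hd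
    · rintro x ⟨j, hj, rfl⟩
      exact hn j hj
    · simp
    · intro x y _ _ hx hy
      have := mul_mem hx hy
      convert this using 1
      group
    · intro x _ hx
      have := inv_mem hx
      convert this using 1
      group
  obtain ⟨E, hE1, hE2, hE3, hE4⟩ := step (Dn k (i + 1)) _ h1 h3
  have h2 : Dn k i ≤ E := by
    rw [Dn, closure_le]
    rintro x ⟨j, hj, rfl⟩
    rcases Nat.eq_or_lt_of_le hj with h | h
    · have : j = ⟨i, hi⟩ := Fin.ext h.symm
      rw [this]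
      exact hE2
    · exact hE1 (mem_Dn k j h)
  have h3 : Finite (Dn k i) := Finite.of_injective (inclusion h2) (inclusion_injective h2)
  refine ⟨h3, ?_⟩
  exact (Nat.card_le_card_of_injective (inclusion h2) (inclusion_injective h2)).trans hE4

theorem conj_of {K : Type*} [Group K] {a b w : K} (h : b * a = a * b * w) : a⁻¹ * b * a = b * w := by
  rw [mul_assoc, h]
  group

theorem conj_of' {K : Type*} [Group K] {a b : K} (h : b * a = a * b) : a⁻¹ * b * a = b := by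
  rw [mul_assoc, h]
  group

theorem norm_0 {K : Type*} [Group K] {k : Fin 10 → K} (hr : Rels k) : ∀ j : Fin 10, 0 < (j : ℕ) →
    (k ⟨0, by norm_num⟩)⁻¹ * k j * k ⟨0, by norm_num⟩ ∈ Dn k (0 + 1) := by
  intro j hj
  fin_cases j
  · exact absurd hj (by decide)
  · have e := conj_of hr.r10
    show (k 0)⁻¹ * k 1 * k 0 ∈ Dn k (0 + 1)
    rw [e]
    exact mul_mem (mem_Dn k 1 (by decide)) (mul_mem (mul_mem (mul_mem (mem_Dn k 2 (by decide)) (mem_Dn k 3 (by decide))) (mem_Dn k 4 (by decide))) (pow_mem (mem_Dn k 5 (by decide)) 2))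
  · have e := conj_of hr.r20
    show (k 0)⁻¹ * k 2 * k 0 ∈ Dn k (0 + 1)
    rw [e]
    exact mul_mem (mem_Dn k 2 (by decide)) (mul_mem (pow_mem (mem_Dn k 3 (by decide)) 2) (pow_mem (mem_Dn k 7 (by decide)) 2))
  · have e := conj_of' hr.r30
    show (k 0)⁻¹ * k 3 * k 0 ∈ Dn k (0 + 1)
    rw [e]
    exact mem_Dn k 3 (by decide)
  · have e := conj_of' hr.r40
    show (k 0)⁻¹ * k 4 * k 0 ∈ Dn k (0 + 1)
    rw [e]
    exact mem_Dn k 4 (by decide)
  · have e := conj_of hr.r50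
    show (k 0)⁻¹ * k 5 * k 0 ∈ Dn k (0 + 1)
    rw [e]
    exact mul_mem (mem_Dn k 5 (by decide)) (mul_mem (mem_Dn k 6 (by decide)) (mem_Dn k 7 (by decide)))
  · have e := conj_of hr.r60
    show (k 0)⁻¹ * k 6 * k 0 ∈ Dn k (0 + 1)
    rw [e]
    exact mul_mem (mem_Dn k 6 (by decide)) (pow_mem (mem_Dn k 7 (by decide)) 2)
  · have e := conj_of' hr.r70
    show (k 0)⁻¹ * k 7 * k 0 ∈ Dn k (0 + 1)
    rw [e]
    exact mem_Dn k 7 (by decide)
  · have e := conj_of hr.r80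
    show (k 0)⁻¹ * k 8 * k 0 ∈ Dn k (0 + 1)
    rw [e]
    exact mul_mem (mem_Dn k 8 (by decide)) (mem_Dn k 9 (by decide))
  · have e := conj_of' hr.r90
    show (k 0)⁻¹ * k 9 * k 0 ∈ Dn k (0 + 1)
    rw [e]
    exact mem_Dn k 9 (by decide)

theorem cube_0 {K : Type*} [Group K] {k : Fin 10 → K} (hr : Rels k) : k ⟨0, by norm_num⟩ ^ 3 ∈ Dn k (0 + 1) := by
  show k 0 ^ 3 ∈ Dn k (0 + 1)
  rw [hr.c0]
  exact (mem_Dn k 7 (by decide))

theorem norm_1 {K : Type*} [Group K] {k : Fin 10 → K} (hr : Rels k) : ∀ j : Fin 10, 1 < (j : ℕ) →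
    (k ⟨1, by norm_num⟩)⁻¹ * k j * k ⟨1, by norm_num⟩ ∈ Dn k (1 + 1) := by
  intro j hj
  fin_cases j
  · exact absurd hj (by decide)
  · exact absurd hj (by decide)
  · have e := conj_of' hr.r21
    show (k 1)⁻¹ * k 2 * k 1 ∈ Dn k (1 + 1)
    rw [e]
    exact mem_Dn k 2 (by decide)
  · have e := conj_of hr.r31
    show (k 1)⁻¹ * k 3 * k 1 ∈ Dn k (1 + 1)
    rw [e]
    exact mul_mem (mem_Dn k 3 (by decide)) (pow_mem (mem_Dn k 6 (by decide)) 2)
  · have e := conj_of hr.r41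
    show (k 1)⁻¹ * k 4 * k 1 ∈ Dn k (1 + 1)
    rw [e]
    exact mul_mem (mem_Dn k 4 (by decide)) (mul_mem (mul_mem (mem_Dn k 5 (by decide)) (pow_mem (mem_Dn k 8 (by decide)) 2)) (pow_mem (mem_Dn k 9 (by decide)) 2))
  · have e := conj_of hr.r51
    show (k 1)⁻¹ * k 5 * k 1 ∈ Dn k (1 + 1)
    rw [e]
    exact mul_mem (mem_Dn k 5 (by decide)) (mem_Dn k 8 (by decide))
  · have e := conj_of hr.r61
    show (k 1)⁻¹ * k 6 * k 1 ∈ Dn k (1 + 1)
    rw [e]
    exact mul_mem (mem_Dn k 6 (by decide)) (mem_Dn k 9 (by decide))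
  · have e := conj_of hr.r71
    show (k 1)⁻¹ * k 7 * k 1 ∈ Dn k (1 + 1)
    rw [e]
    exact mul_mem (mem_Dn k 7 (by decide)) (pow_mem (mem_Dn k 8 (by decide)) 2)
  · have e := conj_of' hr.r81
    show (k 1)⁻¹ * k 8 * k 1 ∈ Dn k (1 + 1)
    rw [e]
    exact mem_Dn k 8 (by decide)
  · have e := conj_of' hr.r91
    show (k 1)⁻¹ * k 9 * k 1 ∈ Dn k (1 + 1)
    rw [e]
    exact mem_Dn k 9 (by decide)

theorem cube_1 {K : Type*} [Group K] {k : Fin 10 → K} (hr : Rels k) : k ⟨1, by norm_num⟩ ^ 3 ∈ Dn k (1 + 1) := by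
  show k 1 ^ 3 ∈ Dn k (1 + 1)
  rw [hr.c1]
  exact one_mem _

theorem norm_2 {K : Type*} [Group K] {k : Fin 10 → K} (hr : Rels k) : ∀ j : Fin 10, 2 < (j : ℕ) →
    (k ⟨2, by norm_num⟩)⁻¹ * k j * k ⟨2, by norm_num⟩ ∈ Dn k (2 + 1) := by
  intro j hj
  fin_cases j
  · exact absurd hj (by decide)
  · exact absurd hj (by decide)
  · exact absurd hj (by decide)
  · have e := conj_of hr.r32
    show (k 2)⁻¹ * k 3 * k 2 ∈ Dn k (2 + 1)
    rw [e]
    exact mul_mem (mem_Dn k 3 (by decide)) (mul_mem (pow_mem (mem_Dn k 7 (by decide)) 2) (pow_mem (mem_Dn k 9 (by decide)) 2))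
  · have e := conj_of hr.r42
    show (k 2)⁻¹ * k 4 * k 2 ∈ Dn k (2 + 1)
    rw [e]
    exact mul_mem (mem_Dn k 4 (by decide)) (mul_mem (mem_Dn k 6 (by decide)) (mem_Dn k 8 (by decide)))
  · have e := conj_of hr.r52
    show (k 2)⁻¹ * k 5 * k 2 ∈ Dn k (2 + 1)
    rw [e]
    exact mul_mem (mem_Dn k 5 (by decide)) (mem_Dn k 9 (by decide))
  · have e := conj_of hr.r62
    show (k 2)⁻¹ * k 6 * k 2 ∈ Dn k (2 + 1)
    rw [e]
    exact mul_mem (mem_Dn k 6 (by decide)) (pow_mem (mem_Dn k 8 (by decide)) 2)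
  · have e := conj_of hr.r72
    show (k 2)⁻¹ * k 7 * k 2 ∈ Dn k (2 + 1)
    rw [e]
    exact mul_mem (mem_Dn k 7 (by decide)) (pow_mem (mem_Dn k 9 (by decide)) 2)
  · have e := conj_of' hr.r82
    show (k 2)⁻¹ * k 8 * k 2 ∈ Dn k (2 + 1)
    rw [e]
    exact mem_Dn k 8 (by decide)
  · have e := conj_of' hr.r92
    show (k 2)⁻¹ * k 9 * k 2 ∈ Dn k (2 + 1)
    rw [e]
    exact mem_Dn k 9 (by decide)

theorem cube_2 {K : Type*} [Group K] {k : Fin 10 → K} (hr : Rels k) : k ⟨2, by norm_num⟩ ^ 3 ∈ Dn k (2 + 1) := by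
  show k 2 ^ 3 ∈ Dn k (2 + 1)
  rw [hr.c2]
  exact one_mem _

theorem norm_3 {K : Type*} [Group K] {k : Fin 10 → K} (hr : Rels k) : ∀ j : Fin 10, 3 < (j : ℕ) →
    (k ⟨3, by norm_num⟩)⁻¹ * k j * k ⟨3, by norm_num⟩ ∈ Dn k (3 + 1) := by
  intro j hj
  fin_cases j
  · exact absurd hj (by decide)
  · exact absurd hj (by decide)
  · exact absurd hj (by decide)
  · exact absurd hj (by decide)
  · have e := conj_of hr.r43
    show (k 3)⁻¹ * k 4 * k 3 ∈ Dn k (3 + 1)
    rw [e]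
    exact mul_mem (mem_Dn k 4 (by decide)) (mem_Dn k 7 (by decide))
  · have e := conj_of hr.r53
    show (k 3)⁻¹ * k 5 * k 3 ∈ Dn k (3 + 1)
    rw [e]
    exact mul_mem (mem_Dn k 5 (by decide)) (pow_mem (mem_Dn k 8 (by decide)) 2)
  · have e := conj_of hr.r63
    show (k 3)⁻¹ * k 6 * k 3 ∈ Dn k (3 + 1)
    rw [e]
    exact mul_mem (mem_Dn k 6 (by decide)) (pow_mem (mem_Dn k 9 (by decide)) 2)
  · have e := conj_of' hr.r73
    show (k 3)⁻¹ * k 7 * k 3 ∈ Dn k (3 + 1)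
    rw [e]
    exact mem_Dn k 7 (by decide)
  · have e := conj_of' hr.r83
    show (k 3)⁻¹ * k 8 * k 3 ∈ Dn k (3 + 1)
    rw [e]
    exact mem_Dn k 8 (by decide)
  · have e := conj_of' hr.r93
    show (k 3)⁻¹ * k 9 * k 3 ∈ Dn k (3 + 1)
    rw [e]
    exact mem_Dn k 9 (by decide)

theorem cube_3 {K : Type*} [Group K] {k : Fin 10 → K} (hr : Rels k) : k ⟨3, by norm_num⟩ ^ 3 ∈ Dn k (3 + 1) := by
  show k 3 ^ 3 ∈ Dn k (3 + 1)
  rw [hr.c3]
  exact (pow_mem (mem_Dn k 9 (by decide)) 2)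

theorem norm_4 {K : Type*} [Group K] {k : Fin 10 → K} (hr : Rels k) : ∀ j : Fin 10, 4 < (j : ℕ) →
    (k ⟨4, by norm_num⟩)⁻¹ * k j * k ⟨4, by norm_num⟩ ∈ Dn k (4 + 1) := by
  intro j hj
  fin_cases j
  · exact absurd hj (by decide)
  · exact absurd hj (by decide)
  · exact absurd hj (by decide)
  · exact absurd hj (by decide)
  · exact absurd hj (by decide)
  · have e := conj_of hr.r54
    show (k 4)⁻¹ * k 5 * k 4 ∈ Dn k (4 + 1)
    rw [e]
    exact mul_mem (mem_Dn k 5 (by decide)) (mem_Dn k 9 (by decide))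
  · have e := conj_of' hr.r64
    show (k 4)⁻¹ * k 6 * k 4 ∈ Dn k (4 + 1)
    rw [e]
    exact mem_Dn k 6 (by decide)
  · have e := conj_of' hr.r74
    show (k 4)⁻¹ * k 7 * k 4 ∈ Dn k (4 + 1)
    rw [e]
    exact mem_Dn k 7 (by decide)
  · have e := conj_of' hr.r84
    show (k 4)⁻¹ * k 8 * k 4 ∈ Dn k (4 + 1)
    rw [e]
    exact mem_Dn k 8 (by decide)
  · have e := conj_of' hr.r94
    show (k 4)⁻¹ * k 9 * k 4 ∈ Dn k (4 + 1)
    rw [e]
    exact mem_Dn k 9 (by decide)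

theorem cube_4 {K : Type*} [Group K] {k : Fin 10 → K} (hr : Rels k) : k ⟨4, by norm_num⟩ ^ 3 ∈ Dn k (4 + 1) := by
  show k 4 ^ 3 ∈ Dn k (4 + 1)
  rw [hr.c4]
  exact one_mem _

theorem norm_5 {K : Type*} [Group K] {k : Fin 10 → K} (hr : Rels k) : ∀ j : Fin 10, 5 < (j : ℕ) →
    (k ⟨5, by norm_num⟩)⁻¹ * k j * k ⟨5, by norm_num⟩ ∈ Dn k (5 + 1) := by
  intro j hj
  fin_cases j
  · exact absurd hj (by decide)
  · exact absurd hj (by decide)
  · exact absurd hj (by decide)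
  · exact absurd hj (by decide)
  · exact absurd hj (by decide)
  · exact absurd hj (by decide)
  · have e := conj_of' hr.r65
    show (k 5)⁻¹ * k 6 * k 5 ∈ Dn k (5 + 1)
    rw [e]
    exact mem_Dn k 6 (by decide)
  · have e := conj_of' hr.r75
    show (k 5)⁻¹ * k 7 * k 5 ∈ Dn k (5 + 1)
    rw [e]
    exact mem_Dn k 7 (by decide)
  · have e := conj_of' hr.r85
    show (k 5)⁻¹ * k 8 * k 5 ∈ Dn k (5 + 1)
    rw [e]
    exact mem_Dn k 8 (by decide)
  · have e := conj_of' hr.r95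
    show (k 5)⁻¹ * k 9 * k 5 ∈ Dn k (5 + 1)
    rw [e]
    exact mem_Dn k 9 (by decide)

theorem cube_5 {K : Type*} [Group K] {k : Fin 10 → K} (hr : Rels k) : k ⟨5, by norm_num⟩ ^ 3 ∈ Dn k (5 + 1) := by
  show k 5 ^ 3 ∈ Dn k (5 + 1)
  rw [hr.c5]
  exact one_mem _

theorem norm_6 {K : Type*} [Group K] {k : Fin 10 → K} (hr : Rels k) : ∀ j : Fin 10, 6 < (j : ℕ) →
    (k ⟨6, by norm_num⟩)⁻¹ * k j * k ⟨6, by norm_num⟩ ∈ Dn k (6 + 1) := by
  intro j hj
  fin_cases j
  · exact absurd hj (by decide)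
  · exact absurd hj (by decide)
  · exact absurd hj (by decide)
  · exact absurd hj (by decide)
  · exact absurd hj (by decide)
  · exact absurd hj (by decide)
  · exact absurd hj (by decide)
  · have e := conj_of' hr.r76
    show (k 6)⁻¹ * k 7 * k 6 ∈ Dn k (6 + 1)
    rw [e]
    exact mem_Dn k 7 (by decide)
  · have e := conj_of' hr.r86
    show (k 6)⁻¹ * k 8 * k 6 ∈ Dn k (6 + 1)
    rw [e]
    exact mem_Dn k 8 (by decide)
  · have e := conj_of' hr.r96
    show (k 6)⁻¹ * k 9 * k 6 ∈ Dn k (6 + 1)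
    rw [e]
    exact mem_Dn k 9 (by decide)

theorem cube_6 {K : Type*} [Group K] {k : Fin 10 → K} (hr : Rels k) : k ⟨6, by norm_num⟩ ^ 3 ∈ Dn k (6 + 1) := by
  show k 6 ^ 3 ∈ Dn k (6 + 1)
  rw [hr.c6]
  exact one_mem _

theorem norm_7 {K : Type*} [Group K] {k : Fin 10 → K} (hr : Rels k) : ∀ j : Fin 10, 7 < (j : ℕ) →
    (k ⟨7, by norm_num⟩)⁻¹ * k j * k ⟨7, by norm_num⟩ ∈ Dn k (7 + 1) := by
  intro j hj
  fin_cases j
  · exact absurd hj (by decide)
  · exact absurd hj (by decide)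
  · exact absurd hj (by decide)
  · exact absurd hj (by decide)
  · exact absurd hj (by decide)
  · exact absurd hj (by decide)
  · exact absurd hj (by decide)
  · exact absurd hj (by decide)
  · have e := conj_of' hr.r87
    show (k 7)⁻¹ * k 8 * k 7 ∈ Dn k (7 + 1)
    rw [e]
    exact mem_Dn k 8 (by decide)
  · have e := conj_of' hr.r97
    show (k 7)⁻¹ * k 9 * k 7 ∈ Dn k (7 + 1)
    rw [e]
    exact mem_Dn k 9 (by decide)

theorem cube_7 {K : Type*} [Group K] {k : Fin 10 → K} (hr : Rels k) : k ⟨7, by norm_num⟩ ^ 3 ∈ Dn k (7 + 1) := by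
  show k 7 ^ 3 ∈ Dn k (7 + 1)
  rw [hr.c7]
  exact one_mem _

theorem norm_8 {K : Type*} [Group K] {k : Fin 10 → K} (hr : Rels k) : ∀ j : Fin 10, 8 < (j : ℕ) →
    (k ⟨8, by norm_num⟩)⁻¹ * k j * k ⟨8, by norm_num⟩ ∈ Dn k (8 + 1) := by
  intro j hj
  fin_cases j
  · exact absurd hj (by decide)
  · exact absurd hj (by decide)
  · exact absurd hj (by decide)
  · exact absurd hj (by decide)
  · exact absurd hj (by decide)
  · exact absurd hj (by decide)
  · exact absurd hj (by decide)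
  · exact absurd hj (by decide)
  · exact absurd hj (by decide)
  · have e := conj_of' hr.r98
    show (k 8)⁻¹ * k 9 * k 8 ∈ Dn k (8 + 1)
    rw [e]
    exact mem_Dn k 9 (by decide)

theorem cube_8 {K : Type*} [Group K] {k : Fin 10 → K} (hr : Rels k) : k ⟨8, by norm_num⟩ ^ 3 ∈ Dn k (8 + 1) := by
  show k 8 ^ 3 ∈ Dn k (8 + 1)
  rw [hr.c8]
  exact one_mem _

theorem norm_9 {K : Type*} [Group K] {k : Fin 10 → K} (hr : Rels k) : ∀ j : Fin 10, 9 < (j : ℕ) →
    (k ⟨9, by norm_num⟩)⁻¹ * k j * k ⟨9, by norm_num⟩ ∈ Dn k (9 + 1) := by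
  intro j hj
  fin_cases j
  · exact absurd hj (by decide)
  · exact absurd hj (by decide)
  · exact absurd hj (by decide)
  · exact absurd hj (by decide)
  · exact absurd hj (by decide)
  · exact absurd hj (by decide)
  · exact absurd hj (by decide)
  · exact absurd hj (by decide)
  · exact absurd hj (by decide)
  · exact absurd hj (by decide)

theorem cube_9 {K : Type*} [Group K] {k : Fin 10 → K} (hr : Rels k) : k ⟨9, by norm_num⟩ ^ 3 ∈ Dn k (9 + 1) := by
  show k 9 ^ 3 ∈ Dn k (9 + 1)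
  rw [hr.c9]
  exact one_mem _

theorem Dn_ten {K : Type*} [Group K] (k : Fin 10 → K) : Dn k 10 = ⊥ := by
  rw [Dn, eq_bot_iff, closure_le]
  rintro x ⟨j, hj, rfl⟩
  exact absurd hj (by omega)

theorem card_Dn {K : Type*} [Group K] {k : Fin 10 → K} (hr : Rels k) : Finite (Dn k 0) ∧ Nat.card (Dn k 0) ≤ 3 ^ 10 := by
  have f10 : Finite (Dn k (9 + 1)) := by
    rw [show 9 + 1 = 10 from rfl, Dn_ten]
    infer_instance
  have c10 : Nat.card (Dn k (9 + 1)) ≤ 1 := by
    rw [show 9 + 1 = 10 from rfl, Dn_ten]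
    simp
  obtain ⟨f9, c9⟩ := Dn_step k (i := 9) (by norm_num) (norm_9 hr) (cube_9 hr) f10
  obtain ⟨f8, c8⟩ := Dn_step k (i := 8) (by norm_num) (norm_8 hr) (cube_8 hr) f9
  obtain ⟨f7, c7⟩ := Dn_step k (i := 7) (by norm_num) (norm_7 hr) (cube_7 hr) f8
  obtain ⟨f6, c6⟩ := Dn_step k (i := 6) (by norm_num) (norm_6 hr) (cube_6 hr) f7
  obtain ⟨f5, c5⟩ := Dn_step k (i := 5) (by norm_num) (norm_5 hr) (cube_5 hr) f6
  obtain ⟨f4, c4⟩ := Dn_step k (i := 4) (by norm_num) (norm_4 hr) (cube_4 hr) f5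
  obtain ⟨f3, c3⟩ := Dn_step k (i := 3) (by norm_num) (norm_3 hr) (cube_3 hr) f4
  obtain ⟨f2, c2⟩ := Dn_step k (i := 2) (by norm_num) (norm_2 hr) (cube_2 hr) f3
  obtain ⟨f1, c1⟩ := Dn_step k (i := 1) (by norm_num) (norm_1 hr) (cube_1 hr) f2
  obtain ⟨f0, c0⟩ := Dn_step k (i := 0) (by norm_num) (norm_0 hr) (cube_0 hr) f1
  refine ⟨f0, ?_⟩
  simp only [Nat.reduceAdd] at c0 c1 c2 c3 c4 c5 c6 c7 c8 c9 c10
  norm_num
  omega

/-! ### the centre of the model -/

/-- commuting with generator `i` -/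
def cF (i : ℕ) : FT := .eq (.mul X (.g i)) (.mul (.g i) X)

theorem ck_center : (impF (.and (cF 0) (.and (cF 1) (.and (cF 2) (.and (cF 3) (.and (cF 4) (.and (cF 5)
    (.and (cF 6) (.and (cF 7) (cF 8))))))))) (.and (.isz (.var 0)) (.and (.isz (.var 1)) (.and (.isz (.var 2))
    (.and (.isz (.var 3)) (.and (.isz (.var 4)) (.and (.isz (.var 5)) (.and (.isz (.var 6)) (.and (.isz (.var 7))
    (.isz (.var 8))))))))))).form.check 10 = true := by decide +kernel

theorem mem_Z1_of_center {x : P} (hx : ∀ y : P, x * y = y * x) : x ∈ Z1 := by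
  have h1 := FT.holds _ 10 ck_center (P.l x) rfl
  rw [FT.ev_imp] at h1
  have hc : ∀ i, (cF i).ev A3 (P.l x) = true := by
    intro i
    rw [cF, FT.ev_eq, GT.ev_mul, GT.ev_mul]
    exact hx _
  simp only [FT.ev_and, FT.ev_isz, ST.ev_var] at h1
  exact h1 ⟨hc 0, hc 1, hc 2, hc 3, hc 4, hc 5, hc 6, hc 7, hc 8⟩

theorem eq_pow_of_mem_Z1 {x : P} (hx : x ∈ Z1) : x = 1 ∨ x = h 9 ∨ x = h 9 ^ 2 := by
  obtain ⟨a1, a2, a3, a4, a5, a6, a7, a8, a9⟩ := hx
  have h10 : x.x10 = 0 ∨ x.x10 = 1 ∨ x.x10 = 2 := by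
    generalize x.x10 = a
    revert a
    decide
  have e0 : (⟨0, 0, 0, 0, 0, 0, 0, 0, 0, 0⟩ : P) = 1 := by decide +kernel
  have e1 : (⟨0, 0, 0, 0, 0, 0, 0, 0, 0, 1⟩ : P) = h 9 := by decide +kernel
  have e2 : (⟨0, 0, 0, 0, 0, 0, 0, 0, 0, 2⟩ : P) = h 9 ^ 2 := by decide +kernel
  have hx : x = ⟨0, 0, 0, 0, 0, 0, 0, 0, 0, x.x10⟩ := by
    ext <;> simp [a1, a2, a3, a4, a5, a6, a7, a8, a9]
  rcases h10 with hh | hh | hh
  · left; rw [hx, hh, e0]
  · right; left; rw [hx, hh, e1]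
  · right; right; rw [hx, hh, e2]

/-- a normal subgroup `≠ 1` contains the central element -/
theorem h9_mem {N : Subgroup P} [N.Normal] (hN : N ≠ ⊥) : h 9 ∈ N := by
  classical
  let _ : MulAction P N := MulAction.compHom N (MulAut.conjNormal : P →* MulAut N)
  have hdvd : 3 ∣ Nat.card N := by
    obtain ⟨n, hn⟩ := (isPGroup_P.to_subgroup N).exists_card_eq
    rw [hn]
    rcases Nat.eq_zero_or_pos n with h0 | h0
    · exfalso
      apply hN
      rw [h0, pow_zero] at hn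
      exact card_eq_one.1 hn
    · exact dvd_pow_self 3 h0.ne'
  have h1 : (1 : N) ∈ MulAction.fixedPoints P N := by
    intro g
    show MulAut.conjNormal g (1 : N) = 1
    exact map_one _
  obtain ⟨b, hb, hne⟩ := isPGroup_P.exists_fixed_point_of_prime_dvd_card_of_fixed_point (α := N) hdvd h1
  have hc : ∀ y : P, (b : P) * y = y * b := by
    intro y
    have h2 : MulAut.conjNormal y b = b := hb y
    have h3 := congrArg Subtype.val h2
    rw [MulAut.conjNormal_apply] at h3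
    exact (mul_inv_eq_iff_eq_mul.1 h3).symm
  rcases eq_pow_of_mem_Z1 (mem_Z1_of_center hc) with hh | hh | hh
  · exact absurd (Subtype.ext hh.symm : (1 : N) = b) hne
  · rw [← hh]; exact b.2
  · have h4 : h 9 = (b : P) ^ 2 := by
      rw [hh]
      decide +kernel
    rw [h4]
    exact pow_mem b.2 2

/-! ### the model is generated by the `h i` -/

theorem la_mem (l : List ℕ) (hl : ∀ i ∈ l, i < 10) (x : P) (hx : x ∈ closure (Set.range h)) :
    la l x ∈ closure (Set.range h) := by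
  induction l with
  | nil => exact hx
  | cons i l ih =>
    have h1 : la (i :: l) x = h ⟨i, hl i List.mem_cons_self⟩ * la l x := by
      rw [mul_def]
      rfl
    rw [h1]
    exact mul_mem (subset_closure ⟨_, rfl⟩) (ih fun j hj => hl j (List.mem_cons_of_mem _ hj))

theorem closure_h : closure (Set.range h) = ⊤ := by
  rw [eq_top_iff]
  intro x _
  rw [← la_nw x]
  exact la_mem _ (nw_lt x) _ (one_mem _)

theorem exists_hom {G : Type*} [Group G] (g : Fin 10 → G) (hg : Rels g) (hne : g 9 ≠ 1) :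
    ∃ φ : P →* G, Function.Injective φ := by
  classical
  let k : Fin 10 → P × G := fun i => (h i, g i)
  have hk : Rels k := {
    c0 := Prod.ext rels_h.c0 hg.c0
    c1 := Prod.ext rels_h.c1 hg.c1
    c2 := Prod.ext rels_h.c2 hg.c2
    c3 := Prod.ext rels_h.c3 hg.c3
    c4 := Prod.ext rels_h.c4 hg.c4
    c5 := Prod.ext rels_h.c5 hg.c5
    c6 := Prod.ext rels_h.c6 hg.c6
    c7 := Prod.ext rels_h.c7 hg.c7
    c8 := Prod.ext rels_h.c8 hg.c8
    c9 := Prod.ext rels_h.c9 hg.c9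
    r10 := Prod.ext rels_h.r10 hg.r10
    r20 := Prod.ext rels_h.r20 hg.r20
    r30 := Prod.ext rels_h.r30 hg.r30
    r40 := Prod.ext rels_h.r40 hg.r40
    r50 := Prod.ext rels_h.r50 hg.r50
    r60 := Prod.ext rels_h.r60 hg.r60
    r70 := Prod.ext rels_h.r70 hg.r70
    r80 := Prod.ext rels_h.r80 hg.r80
    r90 := Prod.ext rels_h.r90 hg.r90
    r21 := Prod.ext rels_h.r21 hg.r21
    r31 := Prod.ext rels_h.r31 hg.r31
    r41 := Prod.ext rels_h.r41 hg.r41
    r51 := Prod.ext rels_h.r51 hg.r51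
    r61 := Prod.ext rels_h.r61 hg.r61
    r71 := Prod.ext rels_h.r71 hg.r71
    r81 := Prod.ext rels_h.r81 hg.r81
    r91 := Prod.ext rels_h.r91 hg.r91
    r32 := Prod.ext rels_h.r32 hg.r32
    r42 := Prod.ext rels_h.r42 hg.r42
    r52 := Prod.ext rels_h.r52 hg.r52
    r62 := Prod.ext rels_h.r62 hg.r62
    r72 := Prod.ext rels_h.r72 hg.r72
    r82 := Prod.ext rels_h.r82 hg.r82
    r92 := Prod.ext rels_h.r92 hg.r92
    r43 := Prod.ext rels_h.r43 hg.r43
    r53 := Prod.ext rels_h.r53 hg.r53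
    r63 := Prod.ext rels_h.r63 hg.r63
    r73 := Prod.ext rels_h.r73 hg.r73
    r83 := Prod.ext rels_h.r83 hg.r83
    r93 := Prod.ext rels_h.r93 hg.r93
    r54 := Prod.ext rels_h.r54 hg.r54
    r64 := Prod.ext rels_h.r64 hg.r64
    r74 := Prod.ext rels_h.r74 hg.r74
    r84 := Prod.ext rels_h.r84 hg.r84
    r94 := Prod.ext rels_h.r94 hg.r94
    r65 := Prod.ext rels_h.r65 hg.r65
    r75 := Prod.ext rels_h.r75 hg.r75
    r85 := Prod.ext rels_h.r85 hg.r85
    r95 := Prod.ext rels_h.r95 hg.r95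
    r76 := Prod.ext rels_h.r76 hg.r76
    r86 := Prod.ext rels_h.r86 hg.r86
    r96 := Prod.ext rels_h.r96 hg.r96
    r87 := Prod.ext rels_h.r87 hg.r87
    r97 := Prod.ext rels_h.r97 hg.r97
    r98 := Prod.ext rels_h.r98 hg.r98
  }
  obtain ⟨hf, hc⟩ := card_Dn hk
  let D := Dn k 0
  let f1 : D →* P := (MonoidHom.fst P G).comp D.subtype
  let f2 : D →* G := (MonoidHom.snd P G).comp D.subtype
  have hmem : ∀ i, k i ∈ D := fun i => mem_Dn k i (Nat.zero_le _)
  have hs : Function.Surjective f1 := by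
    rw [← MonoidHom.range_eq_top, eq_top_iff, ← closure_h, closure_le]
    rintro _ ⟨i, rfl⟩
    exact ⟨⟨k i, hmem i⟩, rfl⟩
  have hb : Function.Bijective f1 := by
    have h1 : Nat.card D ≤ Nat.card P := by rw [card_P]; exact hc
    have h2 : Nat.card P ≤ Nat.card D := Nat.card_le_card_of_surjective f1 hs
    exact (Nat.bijective_iff_surjective_and_card f1).2 ⟨hs, le_antisymm h1 h2⟩
  let e : D ≃* P := MulEquiv.ofBijective f1 hb
  let φ : P →* G := f2.comp e.symm.toMonoidHom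
  have hφ : φ (h 9) = g 9 := by
    have h1 : e.symm (h 9) = ⟨k 9, hmem 9⟩ := by
      rw [MulEquiv.symm_apply_eq]
      rfl
    show f2 (e.symm (h 9)) = g 9
    rw [h1]
    rfl
  refine ⟨φ, ?_⟩
  rw [← MonoidHom.ker_eq_bot_iff]
  by_contra hK
  have h1 := h9_mem hK
  rw [MonoidHom.mem_ker, hφ] at h1
  exact hne h1

theorem sylTh_iso (T : Sylow 3 Cfsg.Spor.Th) : Nonempty (P ≃* (T : Subgroup Cfsg.Spor.Th)) := by
  have hfin : Finite Cfsg.Spor.Th := Cfsg.Agent.Th.Final.main.1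
  obtain ⟨g, hg, hne⟩ := Cfsg.Agent.H804.ThSyl.exists_syl_gens
  obtain ⟨φ, hφ⟩ := exists_hom g hg hne
  have hcard : Nat.card φ.range = 3 ^ 10 := by
    rw [← card_P]
    exact (Nat.card_congr (MonoidHom.ofInjective hφ).toEquiv).symm
  have hfac : (Nat.card Cfsg.Spor.Th).factorization 3 = 10 := by
    rw [Cfsg.Agent.Th.Final.card_Th]
    have h1 : (90745943887872000 : ℕ) = 3 ^ 10 * 1536790528000 := by norm_num
    rw [h1, Nat.factorization_mul (by norm_num) (by norm_num), Nat.Prime.factorization_pow Nat.prime_three]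
    simp [Nat.factorization_eq_zero_of_not_dvd (show ¬ 3 ∣ 1536790528000 by norm_num)]
  let S : Sylow 3 Cfsg.Spor.Th := Sylow.ofCard φ.range (by rw [hcard, hfac])
  exact ⟨(MonoidHom.ofInjective hφ).trans (Sylow.equiv S T)⟩

end Cfsg.Agent.H158.ThIso
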